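import Cfsg.Agent.Lib.DefOne.Apply
import Cfsg.Agent.Lib.DefOne.Principal
import Cfsg.Agent.Lib.Char.GlaubermanMod
import Cfsg.Agent.Lib.Char.TICongruence
import Cfsg.Agent.Lib.Char.Complete

/-!
Groups with a self-centralising subgroup of prime order `q` whose normaliser is dihedral: the principal block at
`q` and the number of pairs of involutions with product of order `q`.
-/

set_option autoImplicit false
set_option linter.unusedSectionVars false
set_option linter.style.haveILetI false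

namespace Cfsg.Agent.ItoTwoQ.Dihedral

open Subgroup Cfsg.Agent.Char Cfsg.Agent.Blocks
open scoped ComplexConjugate

universe u

variable {G : Type u} [Group G] {q : ℕ} [hqf : Fact q.Prime] {x t : G}

/-- The hypotheses on `x` and the involution `t`. -/
structure Hyp (q : ℕ) (x t : G) : Prop where
  hq : 5 ≤ q
  ord : orderOf x = q
  sq : ¬ q ^ 2 ∣ Nat.card G
  cent : ∀ g, Commute g x → g ∈ zpowers x
  norm : ∀ g, g * x * g⁻¹ ∈ zpowers x → g * x * g⁻¹ = x ∨ g * x * g⁻¹ = x⁻¹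
  inv : t * x * t⁻¹ = x⁻¹
  tt : t * t = 1

namespace Hyp

variable (h : Hyp q x t)
include h

theorem q_odd : Odd q := (Fact.out : q.Prime).odd_of_ne_two (by have := h.hq; omega)

theorem t_not_mem : t ∉ zpowers x := fun ht => by
  obtain ⟨i, rfl⟩ := mem_zpowers_iff.1 ht
  have h1 := h.inv
  rw [((Commute.refl x).zpow_left i).eq, mul_inv_cancel_right] at h1
  have h2 : x ^ 2 = 1 := by rw [pow_two]; nth_rw 2 [h1]; rw [mul_inv_cancel]
  have h3 := orderOf_dvd_of_pow_eq_one h2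
  rw [h.ord] at h3
  have := Nat.le_of_dvd two_pos h3
  have := h.hq
  omega

theorem t_order : orderOf t = 2 :=
  orderOf_eq_prime (by rw [pow_two]; exact h.tt) fun e => h.t_not_mem (e ▸ one_mem _)

theorem conj_mem {c : G} (hc : c ∈ zpowers x) : t * c * t⁻¹ = c⁻¹ := by
  obtain ⟨i, rfl⟩ := mem_zpowers_iff.1 hc
  rw [show t * x ^ i * t⁻¹ = MulAut.conj t (x ^ i) from rfl, map_zpow, MulAut.conj_apply, h.inv, inv_zpow]

theorem not_q_dvd_t : ¬ q ∣ orderOf t := by
  rw [h.t_order]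
  intro e
  have := Nat.le_of_dvd two_pos e
  have := h.hq
  omega

variable [Fintype G]

theorem exists_sylow : ∃ Q : Sylow q G, (Q : Subgroup G) = zpowers x := by
  obtain ⟨Q, hQ⟩ := (IsPGroup.of_card (n := 1) (p := q) (G := zpowers x)
    (by rw [Nat.card_zpowers, h.ord, pow_one])).exists_le_sylow
  refine ⟨Q, (eq_of_le_of_card_ge hQ ?_).symm⟩
  obtain ⟨k, hk⟩ := Q.isPGroup'.exists_card_eq
  rw [hk, Nat.card_zpowers, h.ord]
  rcases k with _ | _ | k
  · simpa using (Fact.out : q.Prime).one_lt.le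
  · simp
  · exact absurd (((pow_dvd_pow q (by omega : 2 ≤ k + 2)).trans (dvd_of_eq hk.symm)).trans
      (Subgroup.card_subgroup_dvd_card _)) h.sq

theorem card_normalizer : Nat.card (normalizer (zpowers x : Set G)) = 2 * q := by
  have hx : x ∈ normalizer (zpowers x : Set G) := le_normalizer (mem_zpowers x)
  have ht : t ∈ normalizer (zpowers x : Set G) := by
    refine mem_normalizer_iff.2 fun c => ⟨fun hc => ?_, fun hc => ?_⟩
    · rw [h.conj_mem hc]; exact inv_mem hc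
    · have h1 := h.conj_mem hc
      have h2 : t * (t * c * t⁻¹) * t⁻¹ = c := by
        rw [show t * (t * c * t⁻¹) * t⁻¹ = (t * t) * c * (t * t)⁻¹ by group, h.tt, one_mul, inv_one, mul_one]
      rw [h2] at h1
      exact h1 ▸ inv_mem hc
  let f : zpowers x ⊕ zpowers x → normalizer (zpowers x : Set G) :=
    Sum.elim (fun c => ⟨c, le_normalizer c.2⟩) fun c => ⟨t * c, mul_mem ht (le_normalizer c.2)⟩
  have hf : Function.Bijective f := by
    constructor
    · rintro (a | a) (b | b) e <;> have e' := congrArg Subtype.val e <;> simp only [f, Sum.elim_inl, Sum.elim_inr] at e'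
      · exact congrArg Sum.inl (Subtype.ext e')
      · exact absurd (by rw [eq_mul_inv_of_mul_eq e'.symm]; exact mul_mem a.2 (inv_mem b.2)) h.t_not_mem
      · exact absurd (by rw [eq_mul_inv_of_mul_eq e']; exact mul_mem b.2 (inv_mem a.2)) h.t_not_mem
      · exact congrArg Sum.inr (Subtype.ext (mul_left_cancel e'))
    · rintro ⟨g, hg⟩
      rcases h.norm g ((mem_normalizer_iff.1 hg x).1 (mem_zpowers x)) with e | e
      · exact ⟨Sum.inl ⟨g, h.cent g (mul_inv_eq_iff_eq_mul.1 e)⟩, rfl⟩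
      · refine ⟨Sum.inr ⟨t⁻¹ * g, h.cent _ ?_⟩, Subtype.ext (mul_inv_cancel_left t g)⟩
        show t⁻¹ * g * x = x * (t⁻¹ * g)
        rw [mul_assoc, mul_inv_eq_iff_eq_mul.1 e, ← h.inv]
        group
  rw [← Nat.card_congr (Equiv.ofBijective f hf), Nat.card_sum, Nat.card_zpowers, h.ord]
  ring

open scoped Classical in
/-- The class of `t` meets the solutions of `u * v = x` in `q` pairs. -/
theorem card_pairs :
    ((classFinset t).filter fun u => u⁻¹ * x ∈ classFinset t).card = q := by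
  classical
  have hsqrt : ∀ c ∈ zpowers x, IsConj t (t * c) := by
    intro c hc
    obtain ⟨r, hr⟩ := h.q_odd
    have hcq : c ^ q = 1 := by
      rw [← h.ord]; exact orderOf_dvd_iff_pow_eq_one.1 (orderOf_dvd_of_mem_zpowers hc)
    set d := c ^ (r + 1) with hd
    have hdd : d * d = c := by
      rw [hd, ← pow_add, show r + 1 + (r + 1) = q + 1 by omega, pow_succ, hcq, one_mul]
    have hdm : d ∈ zpowers x := pow_mem hc _
    refine isConj_iff.2 ⟨d⁻¹, ?_⟩
    rw [inv_inv, ← h.conj_mem hdm, show t * d * t⁻¹ * t * d = t * (d * d) by group, hdd]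
  have hinv : ∀ u ∈ classFinset t, u * u = 1 := by
    intro u hu
    obtain ⟨g, rfl⟩ := isConj_iff.1 (mem_classFinset.1 hu)
    rw [show g * t * g⁻¹ * (g * t * g⁻¹) = g * (t * t) * g⁻¹ by group, h.tt, mul_one, mul_inv_cancel]
  have key : ((classFinset t).filter fun u => u⁻¹ * x ∈ classFinset t) =
      (Finset.univ : Finset ↥(zpowers x)).image (fun c : ↥(zpowers x) => t * (c : G)) := by
    ext u
    simp only [Finset.mem_filter, Finset.mem_image, Finset.mem_univ, true_and]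
    constructor
    · rintro ⟨hu, hv⟩
      have h1 := hinv u hu
      have h2 := hinv _ hv
      have hu' : u⁻¹ = u := inv_eq_of_mul_eq_one_right h1
      rw [hu'] at h2
      have h3 : u * x * u⁻¹ = x⁻¹ := by
        rw [hu', eq_inv_iff_mul_eq_one, ← h2]; group
      refine ⟨⟨t⁻¹ * u, h.cent _ ?_⟩, mul_inv_cancel_left t u⟩
      show t⁻¹ * u * x = x * (t⁻¹ * u)
      rw [mul_assoc, mul_inv_eq_iff_eq_mul.1 h3, ← h.inv]
      group
    · rintro ⟨c, rfl⟩
      have h1 := mem_classFinset.2 (hsqrt c c.2)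
      refine ⟨h1, mem_classFinset.2 ?_⟩
      rw [inv_eq_of_mul_eq_one_right (hinv _ h1), mul_assoc]
      exact hsqrt _ (mul_mem c.2 (mem_zpowers x))
  rw [key, Finset.card_image_of_injective _ (fun a b e => Subtype.ext (mul_left_cancel e)), Finset.card_univ, ← Nat.card_eq_fintype_card, Nat.card_zpowers, h.ord]

/-- The class formula for the pairs of conjugates of `t`. -/
theorem class_formula :
    (q : ℂ) * Nat.card G = ((classFinset t).card : ℂ) ^ 2 *
      ∑ χ : Cfsg.IrrCharacter G, (χ : G → ℂ) t ^ 2 * (χ : G → ℂ) x / (χ : G → ℂ) 1 := by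
  classical
  have hreal : ∀ χ : Cfsg.IrrCharacter G, conj ((χ : G → ℂ) x) = (χ : G → ℂ) x := by
    intro χ
    rw [← IsCharacter.inv (IsIrrCharacter.isCharacter χ.2), ← h.inv]
    exact IsCharacter.isClassFunction (IsIrrCharacter.isCharacter χ.2) x t
  set C := classFinset t with hC
  have h1 : ∑ χ : Cfsg.IrrCharacter G, (∑ a ∈ C, ∑ b ∈ C, (χ : G → ℂ) (a * b)) * conj ((χ : G → ℂ) x) =
      (C.card : ℂ) ^ 2 *
        ∑ χ : Cfsg.IrrCharacter G, (χ : G → ℂ) t ^ 2 * (χ : G → ℂ) x / (χ : G → ℂ) 1 := by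
    rw [Finset.mul_sum]
    refine Finset.sum_congr rfl fun χ _ => ?_
    rw [hC, TICongr.sum_class_mul χ.2, hreal, ← card_classFinset]
    ring
  rw [← h1]
  simp only [Finset.sum_mul]
  rw [Finset.sum_comm, Finset.sum_congr rfl fun a _ => Finset.sum_comm]
  simp only [column_orth_count, ← Nat.cast_sum, ← Nat.cast_mul, Nat.cast_inj, Finset.card_filter]
  rw [Finset.sum_congr rfl fun a _ => Finset.sum_comm, Finset.sum_comm, Nat.card_eq_fintype_card,
    ← Finset.card_univ, mul_comm, ← smul_eq_mul, ← Finset.sum_const]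
  refine Finset.sum_congr rfl fun g _ => ?_
  rw [← h.card_pairs, Finset.card_filter, ← hC]
  refine Finset.sum_nbij' (fun a => g * a * g⁻¹) (fun a => g⁻¹ * a * g) ?_ ?_ ?_ ?_ ?_
  · intro a ha
    rw [hC, mem_classFinset] at ha ⊢
    exact ha.trans (isConj_iff.2 ⟨g, rfl⟩)
  · intro a ha
    rw [hC, mem_classFinset] at ha ⊢
    exact ha.trans (isConj_iff.2 ⟨g⁻¹, by rw [inv_inv]⟩)
  · intro a _; group
  · intro a _; group
  · intro a _
    have e : ∀ b : G, (g * x * g⁻¹ = g * a * g⁻¹ * b) ↔ (g * a * g⁻¹)⁻¹ * (g * x * g⁻¹) = b := fun b =>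
      ⟨fun e => by rw [e]; group, fun e => by rw [← e]; group⟩
    simp only [e, Finset.sum_ite_eq]
    refine if_congr ?_ rfl rfl
    rw [hC, mem_classFinset, mem_classFinset,
      show (g * a * g⁻¹)⁻¹ * (g * x * g⁻¹) = g * (a⁻¹ * x) * g⁻¹ by group]
    exact ⟨fun e => e.trans (isConj_iff.2 ⟨g, rfl⟩),
      fun e => e.trans (isConj_iff.2 ⟨g⁻¹, by group⟩)⟩

end Hyp

/-- The principal block at `q`. -/
structure Blk (G : Type u) [Group G] [Fintype G] (q : ℕ) (x : G) where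
  K : Cfsg.IrrCharacter G
  Y : Finset (Cfsg.IrrCharacter G)
  s : ℤ
  δ : ℤ
  hs : s = 1 ∨ s = -1
  hδ : δ = 1 ∨ δ = -1
  cardY : Y.card * 2 = q - 1
  K_ne : (K : G → ℂ) ≠ fun _ => 1
  K_not : K ∉ Y
  one_not : ∀ θ ∈ Y, (θ : G → ℂ) ≠ fun _ => 1
  valK : ∀ y ∈ zpowers x, y ≠ 1 → (K : G → ℂ) y = s
  zero : ∀ χ : Cfsg.IrrCharacter G, (χ : G → ℂ) ≠ (fun _ => 1) → χ ≠ K → χ ∉ Y →
    (χ : G → ℂ) x = 0 ∧ (q : ℤ) ∣ charDegree (χ : G → ℂ)
  rel : ∀ θ ∈ Y, ∀ g, ¬ q ∣ orderOf g → 1 + (s : ℂ) * (K : G → ℂ) g + (δ : ℂ) * (θ : G → ℂ) g = 0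
  sumY : ∑ θ ∈ Y, (θ : G → ℂ) x = δ
  degK : (charDegree (K : G → ℂ) : ℤ) ≡ s [ZMOD q]
  degY : ∀ θ ∈ Y, (charDegree (θ : G → ℂ) : ℤ) ≡ -2 * δ [ZMOD q]
  orbit : ∀ θ ∈ Y, ∀ θ' ∈ Y, ∃ σ : ℂ ≃+* ℂ, DefOne.galT σ θ = θ'

variable [Fintype G]

theorem Hyp.exists_blk (h : Hyp q x t) : Nonempty (Blk G q x) := by
  classical
  obtain ⟨M, hM⟩ := GlaubermanMod.exists_isPModular q
  haveI := hM.2.1.isPrime
  obtain ⟨Q, hQ⟩ := h.exists_sylow
  have hQc : Nat.card (Q : Subgroup G) = q := by rw [hQ, Nat.card_zpowers, h.ord]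
  obtain ⟨V, e, C, -⟩ := DefOne.exists_conf Fact.out Q hQc
  haveI := Fintype.ofFinite ((Q : Subgroup G) →* ℂˣ)
  have hxQ : x ∈ (Q : Subgroup G) := hQ.symm ▸ mem_zpowers x
  have hV : V = ⊥ := by
    rw [eq_bot_iff]
    intro v hv
    have hc := Subgroup.mem_centralizer_iff.1 (DefOne.V_le_centralizer C hv) x hxQ
    have hvz : v ∈ zpowers x := h.cent v hc.symm
    by_contra hne
    have hd := orderOf_dvd_of_mem_zpowers hvz
    rw [h.ord] at hd
    rcases (Nat.dvd_prime Fact.out).1 hd with e1 | e1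
    · exact hne (Subgroup.mem_bot.2 (orderOf_eq_one_iff.1 e1))
    · exact C.hV (e1 ▸ Subgroup.orderOf_dvd_natCard V hv)
  haveI : Unique V := by subst hV; exact ⟨⟨1⟩, fun a => Subsingleton.elim _ _⟩
  have hVc : Nat.card V = 1 := Nat.card_unique
  obtain ⟨eb, X, Y, δ, sg, Fam⟩ := DefOne.exists_families C hM (DefOne.trivB V)
  have heb : eb = 2 := by
    rw [DefOne.eb_triv C Fam]
    have h1 := C.D.hcard
    rw [hQ, h.card_normalizer, Nat.card_zpowers, h.ord, hVc, mul_one] at h1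
    exact (Nat.eq_of_mul_eq_mul_right (Fact.out : q.Prime).pos h1).symm
  have hphi : ∀ (χ : Cfsg.IrrCharacter G) (y : (Q : Subgroup G)),
      DefOne.phi (χ : G → ℂ) (DefOne.trivB V) y = (χ : G → ℂ) y := by
    intro χ y
    have hd : ((default : V) : G) = 1 := congrArg Subtype.val (Subsingleton.elim (default : V) 1)
    simp [DefOne.phi, hVc, DefOne.trivB, hd]
  let y1 : (Q : Subgroup G) := ⟨x, hxQ⟩
  have hy1 : y1 ≠ 1 := fun e => by
    have := congrArg (fun y : (Q : Subgroup G) => orderOf (y : G)) e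
    simp only [y1, h.ord, Subgroup.coe_one, orderOf_one] at this
    exact (Fact.out : q.Prime).ne_one this
  have hvX : ∀ χ ∈ X, ∀ y ∈ zpowers x, y ≠ 1 → (χ : G → ℂ) y = sg χ := by
    intro χ hχ y hy hy'
    have := DefOne.Families.phi_X C Fam hχ (y := ⟨y, hQ.symm ▸ hy⟩) fun e => hy' (congrArg Subtype.val e)
    rwa [hphi] at this
  have hpr := DefOne.principal_eq C hM Fam
  let one : Cfsg.IrrCharacter G := ⟨fun _ => 1, isIrrCharacter_one⟩
  have hone : one ∈ principalBlock M G := fun g => by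
    simp only [one, sub_self]
    exact memLocalIdeal_zero
  rw [hpr] at hone
  have hcY := Fam.cardY
  rw [heb] at hcY
  have h1X : one ∈ X := by
    refine hone.resolve_right fun hY => ?_
    have hall : Y = {one} := Finset.eq_singleton_iff_unique_mem.2 ⟨hY, fun θ hθ => by
      obtain ⟨σ, -, rfl⟩ := Fam.transY one hY θ hθ
      exact Subtype.ext (funext fun g => by simp [DefOne.galT_apply, one])⟩
    rw [hall, Finset.card_singleton] at hcY
    have := h.hq
    omega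
  have hX2 : X.card = 2 := by rw [Fam.cardX, heb]
  obtain ⟨K, hKX, hK1⟩ := Finset.exists_mem_ne (by omega : 1 < X.card) one
  have hXeq : X = {one, K} := (Finset.eq_of_subset_of_card_le (by
    intro a ha
    rcases Finset.mem_insert.1 ha with rfl | ha
    · exact h1X
    · rw [Finset.mem_singleton.1 ha]; exact hKX) (by rw [hX2, Finset.card_pair hK1.symm])).symm
  have hsg1 : sg one = 1 := by
    have := hvX one h1X x (mem_zpowers x) fun e => hy1 (Subtype.ext e)
    have h2 : (sg one : ℂ) = ((1 : ℤ) : ℂ) := by rw [← this]; simp [one]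
    exact_mod_cast h2
  have hrel : ∀ θ ∈ Y, ∀ g, ¬ q ∣ orderOf g →
      1 + (sg K : ℂ) * (K : G → ℂ) g + (δ : ℂ) * (θ : G → ℂ) g = 0 := by
    intro θ hθ g hg
    have h1 := DefOne.Families.relation C Fam hθ hg
    rw [hXeq, Finset.sum_pair hK1.symm, hsg1] at h1
    simpa [one] using h1
  have hzero : ∀ χ : Cfsg.IrrCharacter G, χ ≠ one → χ ≠ K → χ ∉ Y →
      ∀ y : (Q : Subgroup G), y ≠ 1 → (χ : G → ℂ) y = 0 := by
    intro χ h1 h2 h3 y hy
    rw [← hphi, DefOne.phi_eq_acoef C χ _ hy]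
    simp [Fam.zero χ (by simp [hXeq, h1, h2]) h3]
  have hdeg : ∀ χ : Cfsg.IrrCharacter G, χ ∈ X ∨ χ ∈ Y →
      (charDegree (χ : G → ℂ) : ℤ) ≡ -∑ l, DefOne.acoef C χ (DefOne.trivB V) l [ZMOD q] := fun χ hχ =>
    DefOne.degree_congr C hM (by rw [hpr]; exact hχ)
  refine ⟨⟨K, Y, sg K, δ, Fam.signX K hKX, Fam.sign, hcY, fun e => hK1 (Subtype.ext e),
    fun e => Finset.disjoint_left.1 Fam.disj hKX e,
    fun θ hθ e => Finset.disjoint_left.1 Fam.disj h1X ((Subtype.ext e : θ = one) ▸ hθ),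
    hvX K hKX, fun χ e1 e2 e3 => ?_, hrel, ?_, ?_, fun θ hθ => ?_,
    fun θ hθ θ' hθ' => (Fam.transY θ hθ θ' hθ').imp fun σ hσ => hσ.2⟩⟩
  · have hv := hzero χ (fun e => e1 (congrArg Subtype.val e)) e2 e3 y1 hy1
    refine ⟨hv, ?_⟩
    have hm := char_sub_one_mem hM (IsIrrCharacter.isCharacter χ.2) (x := x) ⟨1, by rw [h.ord, pow_one]⟩
    rw [show (χ : G → ℂ) x = 0 from hv, irr_one_eq_charDegree] at hm
    have hm' : MemLocalIdeal M (((-(charDegree (χ : G → ℂ) : ℤ) : ℤ)) : ℂ) := by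
      convert hm using 1
      push_cast
      ring
    exact (dvd_neg).1 ((intCast_memLocalIdeal_iff hM _).1 hm')
  · have horth : ∑ χ : Cfsg.IrrCharacter G, (χ : G → ℂ) x * conj ((χ : G → ℂ) 1) = 0 := by
      rw [column_orth_count, Finset.filter_false_of_mem fun g _ e => hy1 (Subtype.ext (by
        rw [mul_one, mul_inv_cancel] at e; exact e.symm)), Finset.card_empty, Nat.cast_zero]
    rw [← Finset.sum_subset (Finset.subset_univ (X ∪ Y)) fun χ _ hχ => by
        rw [Finset.mem_union, hXeq, Finset.mem_insert, Finset.mem_singleton, not_or, not_or] at hχ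
        rw [show (χ : G → ℂ) x = 0 from hzero χ hχ.1.1 hχ.1.2 hχ.2 y1 hy1, zero_mul],
      Finset.sum_union Fam.disj, hXeq, Finset.sum_pair hK1.symm] at horth
    obtain ⟨θ, hθ⟩ := Fam.nonempty
    have hdY : ∀ θ' ∈ Y, (θ' : G → ℂ) 1 = (θ : G → ℂ) 1 := fun θ' hθ' =>
      DefOne.Families.agree C Fam hθ' hθ (by rw [orderOf_one]; exact (Fact.out : q.Prime).not_dvd_one)
    have hd : ∀ χ : Cfsg.IrrCharacter G, conj ((χ : G → ℂ) 1) = (χ : G → ℂ) 1 := fun χ => by
      rw [irr_one_eq_charDegree, map_natCast]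
    rw [Finset.sum_congr rfl fun θ' (hθ' : θ' ∈ Y) => show _ = (θ' : G → ℂ) x * (θ : G → ℂ) 1 by
      rw [hd, hdY θ' hθ'], ← Finset.sum_mul, hd K, hvX K hKX x (mem_zpowers x) fun e => hy1 (Subtype.ext e)] at horth
    have h1 : (one : G → ℂ) x * conj ((one : G → ℂ) 1) = 1 := by simp [one]
    rw [h1] at horth
    have hr := hrel θ hθ 1 (by rw [orderOf_one]; exact (Fact.out : q.Prime).not_dvd_one)
    refine mul_right_cancel₀ (IsIrrCharacter.one_ne_zero θ.2) ?_
    linear_combination horth - hr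
  · have h1 := hdeg K (Or.inl hKX)
    rw [DefOne.Families.sum_X C Fam hKX] at h1
    refine h1.trans (Int.modEq_iff_dvd.2 ⟨sg K, by ring⟩)
  · have h1 := hdeg θ (Or.inr hθ)
    rw [Fam.sumY θ hθ, heb] at h1
    refine h1.trans (by push_cast; ring_nf; rfl)

/-- The sum in the class formula. -/
theorem Blk.sum_eq (B : Blk G q x) (h : Hyp q x t) {θ : Cfsg.IrrCharacter G} (hθ : θ ∈ B.Y) :
    ∑ χ : Cfsg.IrrCharacter G, (χ : G → ℂ) t ^ 2 * (χ : G → ℂ) x / (χ : G → ℂ) 1 =
      1 + (B.s : ℂ) * (B.K : G → ℂ) t ^ 2 / (B.K : G → ℂ) 1 +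
        (B.δ : ℂ) * (θ : G → ℂ) t ^ 2 / (θ : G → ℂ) 1 := by
  classical
  let one : Cfsg.IrrCharacter G := ⟨fun _ => 1, isIrrCharacter_one⟩
  have h1Y : one ∉ B.Y := fun e => B.one_not one e rfl
  have h1K : one ≠ B.K := fun e => B.K_ne (congrArg Subtype.val e).symm
  rw [← Finset.sum_subset (Finset.subset_univ (insert one (insert B.K B.Y))) fun χ _ hχ => by
      simp only [Finset.mem_insert, not_or] at hχ
      rw [(B.zero χ (fun e => hχ.1 (Subtype.ext e)) hχ.2.1 hχ.2.2).1, mul_zero, zero_div],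
    Finset.sum_insert (by simp [h1Y, h1K]), Finset.sum_insert B.K_not]
  have hδ : (B.δ : ℂ) ≠ 0 := by rcases B.hδ with e | e <;> rw [e] <;> norm_num
  have hag : ∀ θ' ∈ B.Y, ∀ g, ¬ q ∣ orderOf g → (θ' : G → ℂ) g = (θ : G → ℂ) g := by
    intro θ' hθ' g hg
    exact mul_left_cancel₀ hδ (by linear_combination B.rel θ' hθ' g hg - B.rel θ hθ g hg)
  rw [Finset.sum_congr rfl fun θ' (hθ' : θ' ∈ B.Y) => show _ =
      (θ' : G → ℂ) x * ((θ : G → ℂ) t ^ 2 / (θ : G → ℂ) 1) by
    rw [hag θ' hθ' t h.not_q_dvd_t, hag θ' hθ' 1 (by rw [orderOf_one]; exact (Fact.out : q.Prime).not_dvd_one)]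
    ring, ← Finset.sum_mul, B.sumY, B.valK x (mem_zpowers x) fun e => by
      have := congrArg orderOf e
      rw [h.ord, orderOf_one] at this
      exact (Fact.out : q.Prime).ne_one this]
  simp [one]
  ring

end Cfsg.Agent.ItoTwoQ.Dihedral
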