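import Cfsg.Agent.Lib.ItoTwoQ.Pairs

/-!
Kernels on pairs read off on the normaliser.
-/

set_option autoImplicit false
set_option linter.unusedSectionVars false
set_option linter.style.haveILetI false

namespace Cfsg.Agent.ItoTwoQ

open MulAction Cfsg.Agent.Char
open scoped ComplexConjugate
open Cfsg.Agent.TwiceP (chi chi_conj)

universe u v

variable {G : Type u} [Group G] {Ω : Type v} [MulAction G Ω] [Fintype G] [Fintype Ω]
variable {p q : ℕ} (F : Frame G Ω p q) [Fact p.Prime] [Fact q.Prime] [FaithfulSMul G Ω]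
  [IsPretransitive G Ω] [F.Good]

namespace Frame

include F

/-- The standard pair. -/
def base : Pr Ω := ⟨(F.e 0, F.e 1), fun h => zero_ne_one (F.e.injective h)⟩

/-- The row of a kernel summed over translations. -/
def rowSum (K : Pr Ω → Pr Ω → ℤ) (i : ZMod q) : ℤ :=
  ∑ z : ZMod p, K F.base (F.nel i z • F.base)

/-- The pairs as two regular orbits of the normaliser. -/
noncomputable def pairEquiv : (ZMod q × ZMod p) × Bool ≃ Pr Ω :=
  Equiv.ofBijective
    (fun v => if v.2 then F.nel v.1.1 v.1.2 • F.base else swp (F.nel v.1.1 v.1.2 • F.base))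
    ((Fintype.bijective_iff_injective_and_card _).2 ⟨by
      rintro ⟨⟨i, z⟩, b⟩ ⟨⟨k, w⟩, c⟩ h
      have key : ∀ (i k : ZMod q) (z w : ZMod p),
          (F.nel i z • F.base = F.nel k w • F.base ∨ F.nel i z • F.base = swp (F.nel k w • F.base)) →
          i = k ∧ z = w := by
        intro i k z w h
        have h' : ((F.nel k w)⁻¹ * F.nel i z) • F.base = F.base ∨
            ((F.nel k w)⁻¹ * F.nel i z) • F.base = swp F.base := by
          rcases h with h | h
          · left; rw [mul_smul, h, inv_smul_smul]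
          · right; rw [mul_smul, h, smul_swp, inv_smul_smul]
        rw [F.nel_inv, F.nel_mul] at h'
        have h1 := F.pair_free h'
        rw [← F.nel_mul, ← F.nel_inv, inv_mul_eq_one] at h1
        exact F.nel_inj h1.symm
      cases b <;> cases c <;> simp only [if_true, Bool.false_eq_true, if_false] at h
      · obtain ⟨rfl, rfl⟩ := key i k z w (Or.inl (swp.injective h))
        rfl
      · obtain ⟨rfl, rfl⟩ := key k i w z (Or.inr h.symm)
        exact absurd h.symm fun e => (F.nel k w • F.base).2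
          (congrArg (fun y : Pr Ω => y.1.1) e)
      · obtain ⟨rfl, rfl⟩ := key i k z w (Or.inr h)
        exact absurd h fun e => (F.nel i z • F.base).2 (congrArg (fun y : Pr Ω => y.1.1) e)
      · obtain ⟨rfl, rfl⟩ := key i k z w (Or.inl h)
        rfl,
      by
        rw [F.card_pr]
        simp only [Fintype.card_prod, ZMod.card, Fintype.card_bool]
        ring⟩)

theorem sum_pairs {M : Type*} [AddCommMonoid M] (f : Pr Ω → M) :
    ∑ x, f x = ∑ v : ZMod q × ZMod p, (f (F.nel v.1 v.2 • F.base) + f (swp (F.nel v.1 v.2 • F.base))) := by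
  rw [← F.pairEquiv.sum_comp, Fintype.sum_prod_type]
  refine Finset.sum_congr rfl fun v _ => ?_
  rw [Fintype.sum_bool]
  rfl

theorem sum_kerFn {K : Pr Ω → Pr Ω → ℤ} (hK : Inv G K) (hs : ∀ x y, K (swp x) (swp y) = K x y)
    (i : ZMod q) :
    ∑ z : ZMod p, kerFn K (F.nel i z) = ((2 * p * q * F.rowSum K i : ℤ) : ℂ) := by
  have h : ∀ z, kerFn K (F.nel i z) = ((∑ v : ZMod q × ZMod p,
      2 * K F.base (((F.nel v.1 v.2)⁻¹ * F.nel i z * F.nel v.1 v.2) • F.base) : ℤ) : ℂ) := by
    intro z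
    rw [kerFn, F.sum_pairs]
    push_cast
    refine Finset.sum_congr rfl fun v _ => ?_
    rw [smul_swp, hs, two_mul]
    have : ((F.nel v.1 v.2)⁻¹ * F.nel i z * F.nel v.1 v.2) • F.base =
        (F.nel v.1 v.2)⁻¹ • (F.nel i z • (F.nel v.1 v.2 • F.base)) := by rw [mul_smul, mul_smul]
    rw [this]
    rw [show K F.base ((F.nel v.1 v.2)⁻¹ • (F.nel i z • (F.nel v.1 v.2 • F.base))) =
      K (F.nel v.1 v.2 • F.base) (F.nel i z • (F.nel v.1 v.2 • F.base)) by
        rw [← hK (F.nel v.1 v.2), smul_inv_smul]]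
  simp only [h, ← Int.cast_sum]
  congr 1
  rw [Finset.sum_comm]
  have hv : ∀ v : ZMod q × ZMod p, ∑ z : ZMod p,
      2 * K F.base (((F.nel v.1 v.2)⁻¹ * F.nel i z * F.nel v.1 v.2) • F.base) = 2 * F.rowSum K i := by
    rintro ⟨k, c⟩
    rw [← Finset.mul_sum, rowSum]
    congr 1
    refine Fintype.sum_equiv
      ((Equiv.mulLeft₀ (F.rp (-k)) (F.rp_ne_zero _)).trans
        (Equiv.addRight ((1 - F.rp i) * -(F.rp (-k) * c)))) _ _ fun z => ?_
    congr 2
    have := F.nel_conj i (-k) z (-(F.rp (-k) * c))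
    rw [← F.nel_inv, inv_inv] at this
    rw [this]
    rfl
  rw [Finset.sum_congr rfl fun v _ => hv v, Finset.sum_const, Finset.card_univ, Fintype.card_prod,
    ZMod.card, ZMod.card, nsmul_eq_mul]
  push_cast
  ring

theorem md_kerFn {K : Pr Ω → Pr Ω → ℤ} (hK : Inv G K) (hs : ∀ x y, K (swp x) (swp y) = K x y)
    (j : ZMod q) :
    F.md (kerFn K) j = 2 * ∑ i : ZMod q, (F.rowSum K i : ℂ) * chi (-(j * i)) := by
  have hp : (p : ℂ) ≠ 0 := Nat.cast_ne_zero.2 (Fact.out : p.Prime).ne_zero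
  have hq : (q : ℂ) ≠ 0 := Nat.cast_ne_zero.2 F.q_pos.ne'
  simp only [md, ← Finset.sum_mul, F.sum_kerFn hK hs, Finset.mul_sum]
  refine Finset.sum_congr rfl fun i _ => ?_
  push_cast
  field_simp

theorem kerFn_x {K : Pr Ω → Pr Ω → ℤ} (hK : Inv G K) (hs : ∀ x y, K (swp x) (swp y) = K x y)
    {i : ZMod q} (hi : i ≠ 0) :
    kerFn K (F.nel i 0) = ((2 * q * F.rowSum K i : ℤ) : ℂ) := by
  have h := F.sum_kerFn hK hs i
  rw [Finset.sum_congr rfl fun z _ => show kerFn K (F.nel i z) = kerFn K (F.nel i 0) from ?_,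
    Finset.sum_const, Finset.card_univ, ZMod.card, nsmul_eq_mul] at h
  · refine mul_left_cancel₀ (Nat.cast_ne_zero.2 (Fact.out : p.Prime).ne_zero) (h.trans ?_)
    push_cast
    ring
  · obtain ⟨c, hc⟩ := isConj_iff.1 (F.isConj_nel hi z)
    rw [← hc, isClassFunction_kerFn hK]

theorem rowSum_smul {K : Pr Ω → Pr Ω → ℤ} (hK : Inv G K) (hs : ∀ x y, K (swp x) (swp y) = K x y)
    {k : (ZMod q)ˣ} (hk : k ∈ F.hGroup) (i : ZMod q) :
    F.rowSum K ((k : ZMod q) * i) = F.rowSum K i := by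
  by_cases hi : i = 0
  · rw [hi, mul_zero]
  obtain ⟨c, hc⟩ := isConj_iff.1 (F.isConj_of_mem hk i)
  have h := F.kerFn_x hK hs (mul_ne_zero k.ne_zero hi)
  rw [← hc, isClassFunction_kerFn hK, F.kerFn_x hK hs hi, Int.cast_inj] at h
  exact mul_left_cancel₀ (by have := F.q_pos; omega : (2 * q : ℤ) ≠ 0) h.symm

/-- The modes of a kernel times its transpose. -/
theorem md_mulT {ε : ℤ} (hε : ε * ε = 1) {K : Pr Ω → Pr Ω → ℤ} (hK : Inv G K)
    (h2 : ∀ x y, K x (swp y) = ε * K x y) (h1 : ∀ x y, K (swp x) y = ε * K x y) (j : ZMod q) :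
    F.md (kerFn (mulT K)) j = F.md (kerFn K) j * conj (F.md (kerFn K) j) := by
  have hs : ∀ x y, K (swp x) (swp y) = K x y := fun x y => by
    rw [h1, h2, ← mul_assoc, hε, one_mul]
  have hs' : ∀ x y, mulT K (swp x) (swp y) = mulT K x y := fun x y =>
    Finset.sum_congr rfl fun z _ => by rw [h1, h1]; linear_combination (K x z * K y z) * hε
  have ha : ∀ i, F.rowSum (mulT K) i = 2 * ∑ l : ZMod q, F.rowSum K l * F.rowSum K (l - i) := by
    intro i
    simp only [rowSum, mulT]
    rw [Finset.sum_congr rfl fun z _ => F.sum_pairs _, Finset.sum_comm, Fintype.sum_prod_type,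
      Finset.mul_sum]
    refine Finset.sum_congr rfl fun l _ => ?_
    rw [Finset.sum_mul, Finset.mul_sum]
    refine Finset.sum_congr rfl fun w _ => ?_
    rw [Finset.mul_sum, Finset.mul_sum]
    refine Fintype.sum_equiv
      (((Equiv.neg (ZMod p)).trans (Equiv.addRight w)).trans (Equiv.mulLeft₀ (F.rp (-i)) (F.rp_ne_zero _)))
      _ _ fun z => ?_
    simp only [Equiv.trans_apply, Equiv.neg_apply, Equiv.coe_addRight, Equiv.mulLeft₀_apply]
    have e : K (F.nel i z • F.base) (F.nel l w • F.base) =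
        K F.base (F.nel (l - i) (F.rp (-i) * (-z + w)) • F.base) := by
      rw [← hK (F.nel i z)⁻¹, inv_smul_smul, smul_smul, F.nel_inv, F.nel_mul]
      congr 2
      congr 1 <;> ring
    rw [h2, h2, e]
    linear_combination (K F.base (F.nel l w • F.base) *
      K F.base (F.nel (l - i) (F.rp (-i) * (-z + w)) • F.base)) * hε
  rw [F.md_kerFn (inv_mulT hK) hs', F.md_kerFn hK hs]
  simp only [map_mul, map_sum, map_intCast, map_ofNat, chi_conj, neg_neg, Finset.mul_sum,
    Finset.sum_mul, ha, Int.cast_mul, Int.cast_sum, Int.cast_ofNat]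
  rw [Finset.sum_comm]
  refine Eq.trans ?_ Finset.sum_comm
  refine Finset.sum_congr rfl fun l _ => ?_
  refine Fintype.sum_equiv ((Equiv.neg _).trans (Equiv.addRight l)) _ _ fun i => ?_
  simp only [Equiv.trans_apply, Equiv.neg_apply, Equiv.coe_addRight, neg_add_eq_sub]
  rw [show (chi (-(j * i)) : ℂ) = chi (-(j * l)) * chi (j * (l - i)) by
    rw [← AddChar.map_add_eq_mul]; congr 1; ring]
  ring

end Frame

end Cfsg.Agent.ItoTwoQ
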