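import Cfsg.Agent.Lib.ItoTwoQ.Sign
import Cfsg.Agent.Lib.ItoTwoQ.Modes
import Cfsg.Agent.Lib.HalfNorm.Basic
import Cfsg.Agent.Lib.Perm.TwiceP.Cases
import Cfsg.Agent.Lib.Perm.IndexP

/-!
Groups that are not triply transitive: the colouring of triples read off on the two cycles.
-/

set_option autoImplicit false
set_option linter.unusedSectionVars false
set_option linter.style.haveILetI false

namespace Cfsg.Agent.ItoTwoQ

open MulAction Cfsg.Agent.Char
open Cfsg.Agent.HalfNorm (Tri)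

universe u v

variable {G : Type u} [Group G] {Ω : Type v} [MulAction G Ω] [Fintype G] [Fintype Ω]
variable {p q : ℕ} (F : Frame G Ω p q) [Fact p.Prime] [Fact q.Prime] [FaithfulSMul G Ω]
  [IsPretransitive G Ω] [F.Good]
variable (D : Tri G Ω)

open scoped Classical in
/-- The truth value of a proposition as an integer. -/
noncomputable def ind (P : Prop) : ℤ := if P then 1 else 0

theorem ind_pos {P : Prop} (h : P) : ind P = 1 := by simp [ind, h]

theorem ind_neg {P : Prop} (h : ¬ P) : ind P = 0 := by simp [ind, h]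

theorem ind_congr {P Q : Prop} (h : P ↔ Q) : ind P = ind Q := by rw [propext h]

theorem ind_nonneg (P : Prop) : 0 ≤ ind P ∧ ind P ≤ 1 := by
  by_cases h : P <;> simp [ind, h]

theorem ind_or {P Q : Prop} (h : ¬ (P ∧ Q)) : ind (P ∨ Q) = ind P + ind Q := by
  by_cases hP : P <;> by_cases hQ : Q <;> simp_all [ind]

/-- Adjacency of pairs by a colour. -/
def colAdj (x y : Pr Ω) : Prop :=
  ((y.1.1 = x.1.1 ∨ y.1.1 = x.1.2) ∧ D.T x.1.1 x.1.2 y.1.2) ∨
    ((y.1.2 = x.1.1 ∨ y.1.2 = x.1.2) ∧ D.T x.1.1 x.1.2 y.1.1)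

/-- The kernel of a colour. -/
noncomputable def colK (x y : Pr Ω) : ℤ := ind (colAdj D x y)

omit [Fintype G] [Fintype Ω] [FaithfulSMul G Ω] [IsPretransitive G Ω] in
theorem inv_colK : Inv G (colK D) := fun g x y => ind_congr (by
  simp only [colAdj, Pr.smul_fst, Pr.smul_snd, (MulAction.injective g).eq_iff, D.inv_iff])

omit [Fintype G] [Fintype Ω] [FaithfulSMul G Ω] [IsPretransitive G Ω] in
theorem colK_swap_right (x y : Pr Ω) : colK D x (swp y) = colK D x y :=
  ind_congr (show colAdj D x (swp y) ↔ colAdj D x y from ⟨fun h => h.symm, fun h => h.symm⟩)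

omit [Fintype G] [Fintype Ω] [FaithfulSMul G Ω] [IsPretransitive G Ω] in
theorem colK_swap_left (x y : Pr Ω) : colK D (swp x) y = colK D x y := by
  have e : ∀ c, D.T x.1.2 x.1.1 c ↔ D.T x.1.1 x.1.2 c := fun c => ⟨D.s12, D.s12⟩
  refine ind_congr ?_
  show (((y.1.1 = x.1.2 ∨ y.1.1 = x.1.1) ∧ D.T x.1.2 x.1.1 y.1.2) ∨
    ((y.1.2 = x.1.2 ∨ y.1.2 = x.1.1) ∧ D.T x.1.2 x.1.1 y.1.1)) ↔ colAdj D x y
  simp only [colAdj, e, or_comm (a := y.1.1 = x.1.2), or_comm (a := y.1.2 = x.1.2)]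

namespace Frame

include F

theorem neg_one_ne_one : (-1 : ZMod p) ≠ 1 := fun h => F.two_ne (by linear_combination -h)

/-- The colour of the positive cycle. -/
def cS (i : ZMod q) : Prop := D.T (F.e 0) (F.e 1) (F.e (F.rp i))

/-- The colour of the negative cycle, seen from `-1`. -/
def cS' (i : ZMod q) : Prop := D.T (F.e 0) (F.e (-1)) (F.e (-F.rp i))

/-- The colour between the cycles. -/
def cD (i : ZMod q) : Prop := D.T (F.e 0) (F.e 1) (F.e (-F.rp i))

theorem tri_shift (c a b d : ZMod p) :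
    D.T (F.e (a + c)) (F.e (b + c)) (F.e (d + c)) ↔ D.T (F.e a) (F.e b) (F.e d) := by
  have h := D.inv_iff (F.nel 0 c) (a := F.e a) (b := F.e b) (c := F.e d)
  simpa only [F.act', F.rp_zero, one_mul] using h

theorem tri_scale (i : ZMod q) (a b d : ZMod p) :
    D.T (F.e (F.rp i * a)) (F.e (F.rp i * b)) (F.e (F.rp i * d)) ↔ D.T (F.e a) (F.e b) (F.e d) := by
  have h := D.inv_iff (F.nel i 0) (a := F.e a) (b := F.e b) (c := F.e d)
  simpa only [F.act', add_zero] using h

theorem not_cS_zero : ¬ F.cS D 0 := fun h => D.ne23 h (by rw [F.rp_zero])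

theorem not_cS'_zero : ¬ F.cS' D 0 := fun h => D.ne23 h (by rw [F.rp_zero])

theorem colour_num (h2 : IsMultiplyPretransitive G Ω 2)
    (hprim : IsPreprimitive (stabilizer G (F.e 0)) (SubMulAction.ofStabilizer G (F.e 0))) :
    (∀ i, i ≠ 0 → (F.cS D i ↔ ¬ F.cS' D i)) ∧
      ∃ s : ℕ, 0 < s ∧ q = 2 * s ^ 2 + 2 * s + 1 ∧
        (Nat.card {y // D.T (F.e 0) (F.e 1) y} = s * (2 * s + 1) ∨
          Nat.card {y // D.T (F.e 0) (F.e 1) y} = (s + 1) * (2 * s + 1)) := by
  classical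
  set X := SubMulAction.ofStabilizer G (F.e 0)
  haveI : Fintype X := Fintype.ofFinite X
  let ψ : stabilizer G (F.e 0) →* Equiv.Perm X := MulAction.toPermHom _ _
  let G' : Subgroup (Equiv.Perm X) := ψ.range
  let f : X →ₑ[(ψ.rangeRestrict : stabilizer G (F.e 0) → G')] X :=
    { toFun := id, map_smul' := fun g x => rfl }
  haveI : IsPreprimitive G' X := IsPreprimitive.of_surjective (f := f) Function.surjective_id
  have hmemX : ∀ j : ZMod p, j ≠ 0 → F.e j ∈ X := fun j hj => fun h => hj (F.e.injective h)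
  let E0 : ZMod q × Fin 2 → X := fun v => if v.2 = 0 then ⟨F.e (F.rp v.1), hmemX _ (F.rp_ne_zero _)⟩
    else ⟨F.e (-F.rp v.1), hmemX _ (neg_ne_zero.2 (F.rp_ne_zero _))⟩
  have hE0 : Function.Bijective E0 := by
    refine ⟨?_, fun x => ?_⟩
    · rintro ⟨i, r⟩ ⟨k, s⟩ h
      have h' := congrArg Subtype.val h
      fin_cases r <;> fin_cases s <;> simp [E0, F.e.injective.eq_iff] at h' ⊢
      · exact F.rp_inj h'
      · exact absurd h' (F.rp_ne_neg i k)
      · exact absurd h'.symm (F.rp_ne_neg k i)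
      · exact F.rp_inj h'
    · obtain ⟨j, hj⟩ := F.e.surjective x.1
      rcases F.cover j with rfl | ⟨i, rfl⟩ | ⟨i, rfl⟩
      · exact absurd hj.symm x.2
      · exact ⟨(i, 0), Subtype.ext (by simp [E0, hj])⟩
      · exact ⟨(i, 1), Subtype.ext (by simp [E0, hj])⟩
  have hx0 : F.nel 1 0 ∈ stabilizer G (F.e 0) := by
    rw [mem_stabilizer_iff, F.act', mul_zero, add_zero]
  let x : G' := ψ.rangeRestrict ⟨F.nel 1 0, hx0⟩
  have hsm : ∀ (g : stabilizer G (F.e 0)) (z : X), ((ψ.rangeRestrict g : G') : Equiv.Perm X) z = g • z :=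
    fun g z => rfl
  have hshift : ∀ i r, (x : Equiv.Perm X) (E0 (i, r)) = E0 (i + 1, r) := by
    intro i r
    refine Subtype.ext ?_
    show F.nel 1 0 • (E0 (i, r)).1 = _
    fin_cases r <;> simp [E0, F.act', add_comm i 1, F.rp_add]
  let C : TwiceP.Coord G' q :=
    { E := Equiv.ofBijective E0 hE0
      g := x
      ord := by
        refine orderOf_eq_prime ?_ fun h => ?_
        · show (ψ.rangeRestrict ⟨F.nel 1 0, hx0⟩) ^ q = 1
          rw [← map_pow, show (⟨F.nel 1 0, hx0⟩ : stabilizer G (F.e 0)) ^ q = 1 from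
            Subtype.ext (by
              show F.nel 1 0 ^ q = 1
              rw [F.nel_pow, ZMod.natCast_self, zero_mul, F.nel_zero]),
            map_one]
        · have h2 := hshift 0 0
          rw [h] at h2
          have h3 := congrArg Prod.fst (hE0.1 (show E0 (0, 0) = E0 (0 + 1, 0) from h2))
          exact one_ne_zero (α := ZMod q) (by simpa using h3.symm)
      shift := hshift }
  have hα : Fintype.card X = 2 * q := by
    rw [← Fintype.card_congr (Equiv.ofBijective E0 hE0), Fintype.card_prod, ZMod.card, Fintype.card_fin,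
      mul_comm]
  have hq2 : q ≠ 2 := by have := F.hq; omega
  have hsq : ¬ q ^ 2 ∣ Nat.card G' := fun h => F.not_sq_q
    ((h.trans (Subgroup.card_range_dvd ψ)).trans (Subgroup.card_subgroup_dvd_card _))
  have key : ∀ (a b c d : X), (∃ h : G', (h : Equiv.Perm X) a = c ∧ (h : Equiv.Perm X) b = d) →
      (D.T (F.e 0) a.1 b.1 ↔ D.T (F.e 0) c.1 d.1) := by
    rintro a b c d ⟨⟨_, g, rfl⟩, h1, h2⟩
    rw [← h1, ← h2, ← D.inv_iff (g : G) (a := F.e 0), mem_stabilizer_iff.1 g.2]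
    rfl
  have hnt : ¬ IsMultiplyPretransitive G' X 2 := by
    intro h
    have mk : ∀ a b c : Ω, a ≠ b → a ≠ c → b ≠ c → ∃ u v : X, u ≠ v ∧ (D.T (F.e 0) u.1 v.1 ↔ D.T a b c) := by
      intro a b c hab hac hbc
      obtain ⟨g, rfl⟩ := exists_smul_eq G (F.e 0) a
      have hb : g⁻¹ • b ≠ F.e 0 := fun e => hab (by rw [← e, smul_inv_smul])
      have hc : g⁻¹ • c ≠ F.e 0 := fun e => hac (by rw [← e, smul_inv_smul])
      refine ⟨⟨g⁻¹ • b, hb⟩, ⟨g⁻¹ • c, hc⟩, fun e => hbc (by simpa using congrArg Subtype.val e), ?_⟩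
      rw [← D.inv_iff g (a := F.e 0), smul_inv_smul, smul_inv_smul]
    obtain ⟨a, b, c, hT⟩ := D.ex
    obtain ⟨a', b', c', n1, n2, n3, hT'⟩ := D.ex'
    obtain ⟨u, v, huv, h1⟩ := mk a b c (D.ne12 hT) (D.ne13 hT) (D.ne23 hT)
    obtain ⟨u', v', huv', h2⟩ := mk a' b' c' n1 n2 n3
    obtain ⟨g, g1, g2⟩ := is_two_pretransitive_iff.1 h huv huv'
    exact hT' (h2.1 ((key u v u' v' ⟨g, g1, g2⟩).1 (h1.2 hT)))
  set a₀ : X := E0 (0, 0) with ha₀
  have ha₀v : a₀.1 = F.e 1 := by simp [ha₀, E0]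
  haveI : IsPretransitive G' X := IsPreprimitive.toIsPretransitive
  obtain ⟨hc2, s, hs0, hqs, hsize⟩ := TwiceP.rank_three a₀ C hα hq2 hsq hnt
  have hnum : ∀ b, b ≠ a₀ → ∀ d : ZMod q, d ≠ 0 → TwiceP.num a₀ C b d = 1 := by
    have hP := TwiceP.prop2_of_not_two_trans a₀ C hα hnt
    obtain ⟨h0, hd⟩ := TwiceP.exists_nondeg C
    have hi := TwiceP.index_eq_one a₀ C hα hq2 hsq hnt hd hP
    rw [Subgroup.index_eq_one] at hi
    have hd' := TwiceP.dot_ne_zero C hd one_ne_zero
    have hval : ∀ b, b ≠ a₀ → ∀ u : (ZMod q)ˣ, TwiceP.num a₀ C b u = TwiceP.num a₀ C b 1 := by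
      intro b hb u
      rw [← mul_one (u : ZMod q)]
      exact (hi ▸ Subgroup.mem_top u : u ∈ TwiceP.fixU a₀ C) b hb 1 one_ne_zero
    have hone : ∀ b, b ≠ a₀ → 1 ≤ TwiceP.num a₀ C b 1 := by
      intro b hb
      obtain ⟨u, hu⟩ := TwiceP.num_pos a₀ C hα h0 hd' hb
      have := TwiceP.num_nonneg a₀ C b 1
      rw [hval b hb u] at hu
      omega
    have s1 := TwiceP.sum_num a₀ C one_ne_zero (TwiceP.reps G' a₀) fun y hy => TwiceP.reps_spec a₀ hy
    obtain ⟨b1, b2, hne, hR⟩ := Finset.card_eq_two.1 hc2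
    rw [hR, Finset.sum_pair hne] at s1
    have m1 := hone b1 (TwiceP.reps_ne a₀ (G := G') (by rw [hR]; simp))
    have m2 := hone b2 (TwiceP.reps_ne a₀ (G := G') (by rw [hR]; simp))
    intro b hb d hd0
    rw [← show ((Units.mk0 d hd0 : (ZMod q)ˣ) : ZMod q) = d from rfl, hval b hb]
    obtain ⟨r, ⟨hr, hbr⟩, -⟩ := TwiceP.reps_spec a₀ (G := G') hb
    rw [TwiceP.num_congr a₀ C hbr]
    rw [hR, Finset.mem_insert, Finset.mem_singleton] at hr
    rcases hr with rfl | rfl <;> omega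
  -- a representative of the first colour
  obtain ⟨b, hb⟩ : ∃ b : X, D.T (F.e 0) (F.e 1) b.1 := by
    obtain ⟨a, a', c, hT⟩ := D.ex
    obtain ⟨g, g1, g2⟩ := is_two_pretransitive_iff.1 h2 (D.ne12 hT)
      (show F.e 0 ≠ F.e 1 from fun h => zero_ne_one (F.e.injective h))
    have h' := D.inv g hT
    rw [g1, g2] at h'
    exact ⟨⟨_, (D.ne13 h').symm⟩, h'⟩
  have hb0 : b ≠ a₀ := fun e => D.ne23 hb (by rw [e, ha₀v])
  have horb : ∀ x y : X, (∃ h : G', (h : Equiv.Perm X) a₀ = x ∧ (h : Equiv.Perm X) b = y) ↔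
      D.T (F.e 0) x.1 y.1 := by
    intro x y
    refine ⟨fun h => (key a₀ b x y h).1 (by rw [ha₀v]; exact hb), fun h => ?_⟩
    obtain ⟨g, g1, g2, g3⟩ := D.orbit hb h
    exact ⟨ψ.rangeRestrict ⟨g, g1⟩, Subtype.ext (by rw [hsm]; show g • a₀.1 = _; rw [ha₀v, g2]),
      Subtype.ext (by rw [hsm]; exact g3)⟩
  refine ⟨fun i hi => ?_, s, hs0, hqs, ?_⟩
  · have h1 := hnum b hb0 i hi
    simp only [TwiceP.num, TwiceP.Coord.blk, TwiceP.orb, horb] at h1
    have e1 : D.T (F.e 0) (C.E (0, 0)).1 (C.E (i, 0)).1 ↔ F.cS D i := by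
      simp [C, E0, cS]
    have e2 : D.T (F.e 0) (C.E (0, 1)).1 (C.E (i, 1)).1 ↔ F.cS' D i := by
      simp [C, E0, cS']
    simp only [e1, e2] at h1
    by_cases u1 : F.cS D i <;> by_cases u2 : F.cS' D i <;> simp [u1, u2] at h1 ⊢
  · have hcard : Nat.card (orbit (stabilizer G' a₀) b) = Nat.card {y // D.T (F.e 0) (F.e 1) y} := by
      refine Nat.card_congr
        { toFun := fun y => ⟨y.1.1, by
            obtain ⟨⟨h, hh⟩, hy⟩ := y.2
            rw [← ha₀v]
            exact (horb a₀ y.1).1 ⟨h, hh, hy⟩⟩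
          invFun := fun y => ⟨⟨y.1, (D.ne13 y.2).symm⟩, by
            obtain ⟨h, h1, h2⟩ := (horb a₀ ⟨y.1, (D.ne13 y.2).symm⟩).2 (by rw [ha₀v]; exact y.2)
            exact ⟨⟨h, h1⟩, h2⟩⟩
          left_inv := fun _ => rfl
          right_inv := fun _ => rfl }
    rw [← hcard]
    exact hsize b hb0

/-- The colour between the cycles, symmetrised. -/
noncomputable def uD (i : ZMod q) : ℤ := ind (F.cD D i) + ind (F.cD D (-i))

theorem rowSum_colK (i : ZMod q) :
    F.rowSum (colK D) i = ind (F.cS D i) + ind (F.cS' D i) + F.uD D i := by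
  classical
  set a := F.rp i with ha
  have ha0 : a ≠ 0 := F.rp_ne_zero i
  have hp : ∀ z, F.nel i z • F.base = (⟨(F.e z, F.e (a + z)), fun h => ha0 (by
      simpa using (F.e.injective h).symm)⟩ : Pr Ω) := fun z => Pr.ext'
    (by show F.nel i z • F.e 0 = _; rw [F.act', mul_zero, zero_add])
    (by show F.nel i z • F.e 1 = _; rw [F.act', mul_one])
  set B : ZMod p → Prop := fun w => D.T (F.e 0) (F.e 1) (F.e w) with hB
  have hB0 : ∀ w, B w → w ≠ 0 ∧ w ≠ 1 := fun w h =>
    ⟨fun e => D.ne13 h (by rw [e]), fun e => D.ne23 h (by rw [e])⟩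
  have hz : ∀ z, colK D F.base (F.nel i z • F.base) =
      (if z = 0 then ind (B a) else 0) + (if z = 1 then ind (B (a + 1)) else 0) +
        ((if z = -a then ind (B (-a)) else 0) + if z = 1 - a then ind (B (1 - a)) else 0) := by
    intro z
    rw [hp]
    simp only [colK, colAdj, base, F.e.injective.eq_iff]
    rw [ind_or]
    · congr 1
      · split_ifs with h0 h1 h1
        · exact absurd (h0.symm.trans h1) zero_ne_one
        · subst h0; simp [B]
        · subst h1; simp [B]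
        · exact ind_neg fun h => h.1.elim h0 h1
      · have e1 : a + z = 0 ↔ z = -a := ⟨fun e => by linear_combination e, fun e => by rw [e, add_neg_cancel]⟩
        have e2 : a + z = 1 ↔ z = 1 - a := ⟨fun e => by linear_combination e, fun e => by rw [e, add_sub_cancel]⟩
        simp only [e1, e2]
        split_ifs with h0 h1 h1
        · exact absurd (neg_eq_iff_add_eq_zero.1 (h0.symm.trans h1) : a + (1 - a) = 0) (by simp)
        · subst h0; simp [B]
        · subst h1; simp [B]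
        · exact ind_neg fun h => h.1.elim h0 h1
    · rintro ⟨⟨h1, h2⟩, h3, h4⟩
      have := hB0 _ h4
      rcases h1 with e | e
      · exact this.1 e
      · exact this.2 e
  rw [rowSum, Finset.sum_congr rfl fun z _ => hz z]
  simp only [Finset.sum_add_distrib, Finset.sum_ite_eq', Finset.mem_univ, if_true]
  have e1 : B (a + 1) ↔ F.cD D (-i) := by
    have h1 := F.tri_shift D 1 (-1) 0 a
    have h2 := F.tri_scale D (-i) (-1) 0 a
    simp only [zero_add, neg_add_cancel, mul_neg, mul_one, mul_zero] at h1 h2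
    rw [show F.rp (-i) * a = 1 by rw [ha, ← F.rp_add, neg_add_cancel, F.rp_zero]] at h2
    simp only [hB, cD]
    rw [h1, ← h2]
    exact ⟨fun h => D.s23 (D.s12 h), fun h => D.s12 (D.s23 h)⟩
  have e2 : B (1 - a) ↔ F.cS' D i := by
    have h1 := F.tri_shift D 1 (-1) 0 (-a)
    simp only [zero_add, neg_add_cancel, neg_add_eq_sub] at h1
    simp only [hB, cS', ← ha]
    rw [h1]
    exact ⟨D.s12, D.s12⟩
  rw [ind_congr e1, ind_congr e2, uD]
  simp only [hB, cS, cD, ← ha]
  ring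

theorem uD_zero : F.uD D 0 = 2 * ind (F.cD D 0) := by rw [uD, neg_zero, two_mul]

section

variable {D} (hnum : ∀ i, i ≠ 0 → (F.cS D i ↔ ¬ F.cS' D i))

include hnum

theorem cS_add {i : ZMod q} (hi : i ≠ 0) : ind (F.cS D i) + ind (F.cS' D i) = 1 := by
  by_cases h : F.cS D i
  · rw [ind_pos h, ind_neg ((hnum i hi).1 h), add_zero]
  · rw [ind_neg h, ind_pos (not_not.1 (mt (hnum i hi).2 h)), zero_add]

theorem uD_smul {k : (ZMod q)ˣ} (hk : k ∈ F.hGroup) (i : ZMod q) :
    F.uD D ((k : ZMod q) * i) = F.uD D i := by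
  by_cases hi : i = 0
  · rw [hi, mul_zero]
  have h := F.rowSum_smul (inv_colK D) (fun x y => by rw [colK_swap_left, colK_swap_right]) hk i
  rw [F.rowSum_colK, F.rowSum_colK, F.cS_add hnum hi, F.cS_add hnum (mul_ne_zero k.ne_zero hi)] at h
  linarith

theorem uD_const_false (h2 : IsMultiplyPretransitive G Ω 2) {s : ℕ} (hqs : q = 2 * s ^ 2 + 2 * s + 1)
    (hk : Nat.card {y // D.T (F.e 0) (F.e 1) y} = s * (2 * s + 1) ∨
      Nat.card {y // D.T (F.e 0) (F.e 1) y} = (s + 1) * (2 * s + 1))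
    (hu : ∀ i, i ≠ 0 → F.uD D i = F.uD D 1) : False := by
  classical
  have hsplit : ∀ f : ZMod p → ℤ, ∑ j, f j = f 0 + (∑ i, f (F.rp i) + ∑ i, f (-F.rp i)) := by
    intro f
    let g : Option (ZMod q ⊕ ZMod q) → ZMod p := fun o => o.elim 0 (Sum.elim F.rp fun i => -F.rp i)
    have hg : Function.Bijective g := (Fintype.bijective_iff_surjective_and_card g).2 ⟨fun j => by
      rcases F.cover j with rfl | ⟨i, rfl⟩ | ⟨i, rfl⟩
      exacts [⟨none, rfl⟩, ⟨some (.inl i), rfl⟩, ⟨some (.inr i), rfl⟩], by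
      simp only [Fintype.card_option, Fintype.card_sum, ZMod.card]
      have := F.hpq; omega⟩
    rw [← (Equiv.ofBijective g hg).sum_comp, Fintype.sum_option, Fintype.sum_sum_type]
    rfl
  have hcard : ∀ a : ZMod p, (Nat.card {y // D.T (F.e 0) (F.e a) y} : ℤ) =
      ∑ j, ind (D.T (F.e 0) (F.e a) (F.e j)) := by
    intro a
    rw [Nat.card_congr (F.e.subtypeEquiv (p := fun j => D.T (F.e 0) (F.e a) (F.e j))
      (fun j => Iff.rfl)).symm, Nat.card_eq_fintype_card, Fintype.card_subtype]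
    simp [ind, Finset.sum_boole]
  have hA : (Nat.card {y // D.T (F.e 0) (F.e 1) y} : ℤ) = ∑ i, ind (F.cS D i) + ∑ i, ind (F.cD D i) := by
    rw [hcard, hsplit, ind_neg fun h => D.ne13 h rfl, zero_add]
    rfl
  have hB : (Nat.card {y // D.T (F.e 0) (F.e (-1)) y} : ℤ) =
      ∑ i, ind (F.cS' D i) + ∑ i, ind (F.cD D i) := by
    rw [hcard, hsplit, ind_neg fun h => D.ne13 h rfl, zero_add, add_comm]
    refine congrArg₂ (· + ·) rfl (Fintype.sum_equiv (Equiv.neg _) _ _ fun i => ind_congr ?_)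
    rw [Equiv.neg_apply, cD, ← F.tri_scale D (-i) 0 (-1) (F.rp i), mul_zero, ← F.rp_add, neg_add_cancel,
      F.rp_zero, mul_neg, mul_one]
    exact ⟨D.s23, D.s23⟩
  obtain ⟨g, g0, g1⟩ := is_two_pretransitive_iff.1 h2
    (show F.e 0 ≠ F.e 1 from fun h => zero_ne_one (F.e.injective h))
    (show F.e 0 ≠ F.e (-1) from fun h => one_ne_zero (α := ZMod p) (neg_eq_zero.1 (F.e.injective h).symm))
  have hAB : Nat.card {y // D.T (F.e 0) (F.e (-1)) y} = Nat.card {y // D.T (F.e 0) (F.e 1) y} :=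
    (Nat.card_congr (Equiv.subtypeEquiv (toPerm g) fun y => by
      have h := D.inv_iff g (a := F.e 0) (b := F.e 1) (c := y)
      rw [g0, g1] at h
      exact h.symm)).symm
  rw [hAB] at hB
  have hsum : ∑ i, ind (F.cS D i) + ∑ i, ind (F.cS' D i) = (q : ℤ) - 1 := by
    rw [← Finset.sum_add_distrib, ← Finset.add_sum_erase _ _ (Finset.mem_univ 0),
      ind_neg (F.not_cS_zero D), ind_neg (F.not_cS'_zero D),
      Finset.sum_congr rfl fun i hi => F.cS_add hnum (Finset.ne_of_mem_erase hi)]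
    simp [Nat.cast_sub F.q_pos]
  have hD : 2 * ∑ i, ind (F.cD D i) = 2 * ind (F.cD D 0) + ((q : ℤ) - 1) * F.uD D 1 := by
    have h : ∑ i, F.uD D i = 2 * ∑ i, ind (F.cD D i) := by
      simp only [uD, Finset.sum_add_distrib]
      rw [Fintype.sum_equiv (Equiv.neg _) (fun i => ind (F.cD D (-i))) (fun i => ind (F.cD D i))
        fun i => rfl]
      ring
    rw [← h, ← Finset.add_sum_erase _ _ (Finset.mem_univ 0), F.uD_zero,
      Finset.sum_congr rfl fun i hi => hu i (Finset.ne_of_mem_erase hi)]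
    simp [Nat.cast_sub F.q_pos]
  set k := Nat.card {y // D.T (F.e 0) (F.e 1) y}
  have hv : 0 ≤ F.uD D 1 ∧ F.uD D 1 ≤ 2 := by
    have := ind_nonneg (F.cD D 1); have := ind_nonneg (F.cD D (-1))
    simp only [uD]; omega
  have hδ := ind_nonneg (F.cD D 0)
  have hq' : (q : ℤ) = 2 * (s : ℤ) ^ 2 + 2 * s + 1 := by exact_mod_cast hqs
  have hs : (2 : ℤ) ≤ s := by
    have := F.hq
    by_contra hlt
    obtain rfl | rfl : s = 0 ∨ s = 1 := by omega
    · simp at hqs; omega
    · norm_num at hqs; omega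
  have hk' : (k : ℤ) = 2 * (s : ℤ) ^ 2 + s ∨ (k : ℤ) = 2 * (s : ℤ) ^ 2 + 3 * s + 1 := by
    rcases hk with h | h <;> [left; right] <;> rw [h] <;> push_cast <;> ring
  have key : 2 * (k : ℤ) = (2 * (s : ℤ) ^ 2 + 2 * s) * (1 + F.uD D 1) + 2 * ind (F.cD D 0) := by
    have : 2 * (k : ℤ) = ((q : ℤ) - 1) * (1 + F.uD D 1) + 2 * ind (F.cD D 0) := by linarith
    rw [this, hq']; ring
  rcases (show F.uD D 1 = 0 ∨ F.uD D 1 = 1 ∨ F.uD D 1 = 2 by omega) with e | e | e <;>
    rcases hk' with h | h <;> rw [e, h] at key <;> nlinarith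

theorem not_fixed (h2 : IsMultiplyPretransitive G Ω 2) {s : ℕ} (hqs : q = 2 * s ^ 2 + 2 * s + 1)
    (hk : Nat.card {y // D.T (F.e 0) (F.e 1) y} = s * (2 * s + 1) ∨
      Nat.card {y // D.T (F.e 0) (F.e 1) y} = (s + 1) * (2 * s + 1))
    (φ : Cfsg.IrrCharacter G) (hφ : Cfsg.classInner (rho Ω) (φ : G → ℂ) ≠ 0)
    (hφ1 : F.md (φ : G → ℂ) 1 ≠ 0) : ¬ ∀ k, F.gT k φ = φ := by
  classical
  intro hall
  obtain ⟨φ0, -, -, huniq, -, hmd⟩ := F.mode_orbit isCharacter_rho F.rational_rho fun j _ => F.md_rho j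
  have he : φ = φ0 := by rw [huniq 1 φ hφ (by simpa using hφ1), F.gT_one]
  subst he
  set K := colK D
  have hs : ∀ x y, K (swp x) (swp y) = K x y := fun x y => by
    simp only [K, colK_swap_left, colK_swap_right]
  set c := Cfsg.classInner (kerFn (G := G) K) (φ : G → ℂ)
  have hmode : ∀ k : (ZMod q)ˣ, F.md (kerFn K) (k : ZMod q) = c := by
    intro k
    rw [show kerFn (G := G) K = fun g => ∑ ψ : Cfsg.IrrCharacter G,
      Cfsg.classInner (kerFn K) (ψ : G → ℂ) * (ψ : G → ℂ) g from funext (kerFn_expansion (inv_colK D)),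
      F.md_sum, Finset.sum_eq_single φ]
    · rw [F.md_mul_left, hmd k, if_pos (hall k), mul_one]
    · intro ψ _ hne
      rw [F.md_mul_left]
      by_cases h : Cfsg.classInner (rho Ω) (ψ : G → ℂ) = 0
      · rw [classInner_kerFn_twist (ε := 1) (by norm_num) swp swp_swp smul_swp K
          (fun x y => by rw [one_mul]; exact colK_swap_right D x y) ψ ?_, zero_mul]
        have h' : Cfsg.classInner (rho Ω) (ψ : G → ℂ) =
            (2 : ℂ)⁻¹ * Cfsg.classInner (tw (G := G) 1 (swp (Ω := Ω))) (ψ : G → ℂ) := by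
          simp only [Cfsg.classInner, rho, mul_assoc, ← Finset.mul_sum]
          ring
        rw [h'] at h
        simpa using h
      · by_contra hne'
        exact hne ((huniq k ψ h (right_ne_zero_of_mul hne')).trans (hall k))
    · exact fun h => absurd (Finset.mem_univ _) h
  refine F.uD_const_false hnum h2 hqs hk fun i hi => ?_
  set k := Units.mk0 i hi
  let d : ZMod q → ℤ := fun l => F.rowSum K l - F.rowSum K ((k : ZMod q) * l)
  have hd : TwiceP.ft d 1 = 0 := by
    have e : ∀ v : (ZMod q)ˣ, F.md (kerFn K) ((-v : (ZMod q)ˣ) : ZMod q) =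
        2 * ∑ l, (F.rowSum K l : ℂ) * TwiceP.chi ((v : ZMod q) * l) := fun v => by
      rw [F.md_kerFn (inv_colK D) hs, Units.val_neg]
      simp only [neg_mul, neg_neg, K]
    have h1 := (e 1).symm.trans (hmode _)
    have h2 := (e k⁻¹).symm.trans (hmode _)
    have h3 : TwiceP.ft d 1 = ∑ l, (F.rowSum K l : ℂ) * TwiceP.chi (((1 : (ZMod q)ˣ) : ZMod q) * l) -
        ∑ l, (F.rowSum K l : ℂ) * TwiceP.chi (((k⁻¹ : (ZMod q)ˣ) : ZMod q) * l) := by
      simp only [TwiceP.ft, d, Int.cast_sub, sub_mul, Finset.sum_sub_distrib, Units.val_one, one_mul]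
      congr 1
      refine Fintype.sum_equiv (Units.mulLeft k) _ _ fun l => ?_
      rw [Units.mulLeft_apply, Units.inv_mul_cancel_left]
    rw [h3]
    linear_combination (2 : ℂ)⁻¹ * h1 - (2 : ℂ)⁻¹ * h2
  have hc := TwiceP.const_of_ft_eq_zero one_ne_zero hd 1
  simp only [d, mul_zero, sub_self, mul_one, sub_eq_zero] at hc
  rw [show (k : ZMod q) = i from rfl, F.rowSum_colK, F.rowSum_colK, F.cS_add hnum one_ne_zero,
    F.cS_add hnum hi] at hc
  linarith

end

/-- The class of the element of order `q` is not central in its normaliser. -/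
theorem exists_mem_ne_one (hins : ¬ Group.IsSolvable G) : ∃ k ∈ F.hGroup, k ≠ 1 := by
  by_contra hcon
  push Not at hcon
  set x := F.nel 1 0 with hx
  have hord : orderOf x = q := F.orderOf_nel one_ne_zero
  obtain ⟨Q, hQ⟩ := (IsPGroup.of_card (n := 1) (p := q) (G := Subgroup.zpowers x)
    (by rw [Nat.card_zpowers, hord, pow_one])).exists_le_sylow
  have hQx : (Q : Subgroup G) = Subgroup.zpowers x := F.sylow_q (hQ (Subgroup.mem_zpowers _))
  have hnc : Subgroup.normalizer ((Q : Subgroup G) : Set G) ≤ Subgroup.centralizer ((Q : Subgroup G) : Set G) := by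
    intro g hg
    have h1 := (Subgroup.mem_normalizer_iff.1 hg x).1 (hQ (Subgroup.mem_zpowers _))
    rw [hQx] at h1
    obtain ⟨n, hn⟩ := ((isOfFinOrder_of_finite x).mem_powers_iff_mem_zpowers).2 h1
    simp only [hx, F.nel_pow, mul_one] at hn
    have hn0 : ((n : ℕ) : ZMod q) ≠ 0 := fun h => by
      rw [h, F.nel_zero, eq_comm, conj_eq_one_iff] at hn
      exact one_ne_zero (α := ZMod q) (F.nel_inj (hn.trans F.nel_zero.symm)).1
    have h2 : Units.mk0 _ hn0 = 1 := hcon _ (isConj_iff.2 ⟨g, hn.symm⟩)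
    have h3 : ((n : ℕ) : ZMod q) = 1 := congrArg Units.val h2
    rw [h3] at hn
    rw [Subgroup.mem_centralizer_iff]
    intro y hy
    rw [SetLike.mem_coe, hQx] at hy
    obtain ⟨m, rfl⟩ := hy
    have hc : Commute g x := mul_inv_eq_iff_eq_mul.1 hn.symm
    exact (hc.zpow_right m).eq.symm
  set f := MonoidHom.transferSylow Q hnc
  have hker : ¬ q ∣ Nat.card f.ker := MonoidHom.not_dvd_card_ker_transferSylow Q hnc
  have hy : ∀ z, F.nel 0 z ∈ f.ker := fun z => by
    rw [MonoidHom.mem_ker, ← orderOf_eq_one_iff]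
    have h1 : orderOf (f (F.nel 0 z)) ∣ p := (orderOf_map_dvd f _).trans (by
      by_cases hz : z = 0
      · rw [hz, F.nel_zero, orderOf_one]; exact one_dvd _
      · rw [F.orderOf_nel' hz])
    have h2 : orderOf (f (F.nel 0 z)) ∣ q := by
      refine (orderOf_dvd_natCard _).trans ?_
      rw [F.sylow_q_card Q]
    exact Nat.eq_one_of_dvd_coprimes
      ((Nat.coprime_primes Fact.out Fact.out).2 F.p_ne_q) h1 h2
  haveI : IsPretransitive f.ker Ω := ⟨fun a b => by
    obtain ⟨i, rfl⟩ := F.e.surjective a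
    obtain ⟨j, rfl⟩ := F.e.surjective b
    refine ⟨⟨_, hy (j - i)⟩, ?_⟩
    show F.nel 0 (j - i) • F.e i = _
    rw [F.act', F.rp_zero, one_mul, add_sub_cancel]⟩
  rcases PermPrime.burnside (G := f.ker) (p := p) F.card_omega with hs | h2
  · haveI : Group.IsSolvable (Q : Subgroup G) := Group.isSolvable_of_comm fun a b => by
      obtain ⟨m, hm⟩ := (hQx ▸ a.2 : (a : G) ∈ Subgroup.zpowers x)
      obtain ⟨n, hn⟩ := (hQx ▸ b.2 : (b : G) ∈ Subgroup.zpowers x)
      refine Subtype.ext ?_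
      rw [Subgroup.coe_mul, Subgroup.coe_mul, ← hm, ← hn]
      exact ((Commute.refl x).zpow_zpow m n).eq
    haveI := hs
    exact hins (Group.isSolvable_of_ker_le_range f.ker.subtype f (by rw [Subgroup.range_subtype]))
  · refine hker ?_
    haveI : IsPretransitive (stabilizer f.ker (F.e 0)) (SubMulAction.ofStabilizer f.ker (F.e 0)) := by
      rw [isPretransitive_iff]
      intro a b
      obtain ⟨g, g0, g1⟩ := is_two_pretransitive_iff.1 h2 (Ne.symm a.2) (Ne.symm b.2)
      exact ⟨⟨g, g0⟩, Subtype.ext g1⟩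
    set a : SubMulAction.ofStabilizer f.ker (F.e 0) := ⟨F.e 1, fun h => one_ne_zero (F.e.injective h)⟩
    have h3 := index_stabilizer_of_transitive (stabilizer f.ker (F.e 0)) a
    have h4 : Nat.card (SubMulAction.ofStabilizer f.ker (F.e 0)) = 2 * q := by
      have e : Nat.card {y : Ω // y ≠ F.e 0} = 2 * q := by
        classical
        rw [Nat.card_eq_fintype_card, Fintype.card_subtype_compl, Fintype.card_subtype_eq,
          ← Nat.card_eq_fintype_card, F.card_omega, F.hpq]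
        omega
      exact e
    refine dvd_trans ?_ (Subgroup.card_subgroup_dvd_card (stabilizer f.ker (F.e 0)))
    refine dvd_trans ?_ (Subgroup.index_dvd_card (stabilizer (stabilizer f.ker (F.e 0)) a))
    rw [h3, h4]
    exact dvd_mul_left q 2

/-- An element normalising the group of order `q` with given multiplier, fixing `1`. -/
theorem exists_shift [DecidableEq Ω] (heven : ∀ g : G, Equiv.Perm.sign (toPerm g : Equiv.Perm Ω) = 1)
    {k : (ZMod q)ˣ} (hk : k ∈ F.hGroup) :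
    ∃ (r : ZMod q) (g : G), g • F.e 0 = F.e 0 ∧
      (∀ i, g • F.e (F.rp i) = F.e (F.rp ((k : ZMod q) * i))) ∧
      ∀ i, g • F.e (-F.rp i) = F.e (-F.rp (r + (k : ZMod q) * i)) := by
  obtain ⟨c, hc⟩ := isConj_iff.1 hk
  obtain ⟨h0, a, b, hP, hM⟩ := F.normal_form heven k.ne_zero hc
  refine ⟨b - a, F.nel (-a) 0 * c, ?_, fun i => ?_, fun i => ?_⟩
  · rw [mul_smul, h0, F.act', mul_zero, zero_add]
  · rw [mul_smul, hP, F.act', add_zero, ← F.rp_add, neg_add_cancel_left]
  · rw [mul_smul, hM, F.act', add_zero, mul_neg, ← F.rp_add]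
    congr 3
    ring

theorem cD_shift {k : (ZMod q)ˣ} {r : ZMod q} {g : G} (h0 : g • F.e 0 = F.e 0)
    (hP : ∀ i, g • F.e (F.rp i) = F.e (F.rp ((k : ZMod q) * i)))
    (hM : ∀ i, g • F.e (-F.rp i) = F.e (-F.rp (r + (k : ZMod q) * i))) (d : ZMod q) :
    F.cD D ((k : ZMod q) * d + r) ↔ F.cD D d := by
  have h := D.inv_iff g (a := F.e 0) (b := F.e 1) (c := F.e (-F.rp d))
  have h1 := hP 0
  rw [mul_zero, F.rp_zero] at h1
  rw [h0, h1, hM, add_comm r] at h
  exact h

section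

variable {D} (hnum : ∀ i, i ≠ 0 → (F.cS D i ↔ ¬ F.cS' D i))

include hnum

theorem ft_shift {k : (ZMod q)ˣ} (hk : k ∈ F.hGroup) {r : ZMod q}
    (hr : ∀ d, F.cD D ((k : ZMod q) * d + r) ↔ F.cD D d) :
    TwiceP.chi (-r) = 1 ∨ TwiceP.ft (fun d => ind (F.cD D d)) (-1) =
      TwiceP.chi (-r) * TwiceP.ft (fun d => ind (F.cD D d)) 1 := by
  set c : ZMod q → ℤ := fun d => ind (F.cD D d)
  have hc : ∀ m, c (m + r) + c (-m + r) = c m + c (-m) := by
    intro m
    obtain ⟨d, rfl⟩ : ∃ d, (k : ZMod q) * d = m := ⟨(k⁻¹ : (ZMod q)ˣ) * m, by rw [Units.mul_inv_cancel_left]⟩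
    have h := F.uD_smul hnum hk d
    simp only [uD] at h
    simp only [c]
    rw [ind_congr (hr d), neg_mul_eq_mul_neg, ind_congr (hr (-d))]
    simpa only [mul_neg, neg_mul] using h.symm
  have h0 : TwiceP.chi (-r) * TwiceP.ft c 1 + TwiceP.chi r * TwiceP.ft c (-1) =
      TwiceP.ft c 1 + TwiceP.ft c (-1) := by
    have e1 : TwiceP.chi (-r) * TwiceP.ft c 1 = ∑ m, (c (m + r) : ℂ) * TwiceP.chi (1 * m) := by
      rw [TwiceP.ft, Finset.mul_sum]
      refine (Fintype.sum_equiv (Equiv.addRight r) _ _ fun m => ?_).symm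
      rw [Equiv.coe_addRight, show TwiceP.chi (1 * (m + r)) = TwiceP.chi (1 * m) * TwiceP.chi r by
        rw [← AddChar.map_add_eq_mul]; congr 1; ring]
      have : TwiceP.chi (-r) * TwiceP.chi r = 1 := by
        rw [← AddChar.map_add_eq_mul, neg_add_cancel, AddChar.map_zero_eq_one]
      linear_combination (-((c (m + r) : ℂ) * TwiceP.chi (1 * m))) * this
    have e2 : TwiceP.chi r * TwiceP.ft c (-1) = ∑ m, (c (-m + r) : ℂ) * TwiceP.chi (1 * m) := by
      rw [TwiceP.ft, Finset.mul_sum]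
      refine (Fintype.sum_equiv ((Equiv.neg _).trans (Equiv.addRight r)) _ _ fun m => ?_).symm
      simp only [Equiv.trans_apply, Equiv.neg_apply, Equiv.coe_addRight]
      rw [show TwiceP.chi (1 * m) = TwiceP.chi r * TwiceP.chi (-1 * (-m + r)) by
        rw [← AddChar.map_add_eq_mul]; congr 1; ring]
      ring
    have e3 : TwiceP.ft c (-1) = ∑ m, (c (-m) : ℂ) * TwiceP.chi (1 * m) := by
      refine (Fintype.sum_equiv (Equiv.neg _) _ _ fun m => ?_).symm
      simp
    have e4 : TwiceP.ft c 1 = ∑ m, (c m : ℂ) * TwiceP.chi (1 * m) := rfl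
    rw [e1, e2, ← Finset.sum_add_distrib, e3, e4, ← Finset.sum_add_distrib]
    refine Finset.sum_congr rfl fun m _ => ?_
    rw [← add_mul, ← add_mul, ← Int.cast_add, hc, Int.cast_add]
  have hinv : TwiceP.chi r * TwiceP.chi (-r) = 1 := by
    rw [← AddChar.map_add_eq_mul, add_neg_cancel, AddChar.map_zero_eq_one]
  have h1 : (TwiceP.chi (-r) - 1) * (TwiceP.chi (-r) * TwiceP.ft c 1 - TwiceP.ft c (-1)) = 0 := by
    linear_combination (TwiceP.chi (-r)) * h0 - TwiceP.ft c (-1) * hinv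
  rcases mul_eq_zero.1 h1 with h | h
  · exact Or.inl (sub_eq_zero.1 h)
  · exact Or.inr (sub_eq_zero.1 h).symm

theorem shift_eq_zero [DecidableEq Ω] (h2 : IsMultiplyPretransitive G Ω 2) {s : ℕ}
    (hqs : q = 2 * s ^ 2 + 2 * s + 1)
    (hcard : Nat.card {y // D.T (F.e 0) (F.e 1) y} = s * (2 * s + 1) ∨
      Nat.card {y // D.T (F.e 0) (F.e 1) y} = (s + 1) * (2 * s + 1))
    {k : (ZMod q)ˣ} (hk : k ∈ F.hGroup) (hkk : k * k ≠ 1) {r : ZMod q}
    (hr : ∀ d, F.cD D ((k : ZMod q) * d + r) ↔ F.cD D d) : r = 0 := by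
  by_contra hr0
  have hchi : ∀ a : ZMod q, TwiceP.chi a = 1 → a = 0 := fun a h =>
    ZMod.injective_stdAddChar (h.trans (AddChar.map_zero_eq_one _).symm)
  have hk1 : (1 + (k : ZMod q)) ≠ 0 := fun h => hkk (Units.ext (by
    rw [Units.val_mul, Units.val_one]
    linear_combination ((k : ZMod q) - 1) * h))
  have hr2 : ∀ d, F.cD D (((k * k : (ZMod q)ˣ) : ZMod q) * d + (1 + (k : ZMod q)) * r) ↔ F.cD D d :=
    fun d => by
      rw [← hr d, ← hr ((k : ZMod q) * d + r), Units.val_mul]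
      ring_nf
  have a1 := (F.ft_shift hnum hk hr).resolve_left fun h => hr0 (neg_eq_zero.1 (hchi _ h))
  have a2 := (F.ft_shift hnum (mul_mem hk hk) hr2).resolve_left fun h =>
    mul_ne_zero hk1 hr0 (neg_eq_zero.1 (hchi _ h))
  have hC : TwiceP.ft (fun d => ind (F.cD D d)) 1 ≠ 0 := fun h => by
    refine F.uD_const_false hnum h2 hqs hcard fun i _ => ?_
    have hc := TwiceP.const_of_ft_eq_zero one_ne_zero h
    simp only [uD]
    rw [hc i, hc (-i), hc 1, hc (-1)]
  have h := mul_right_cancel₀ hC (a1.symm.trans a2)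
  have h' : -r = -((1 + (k : ZMod q)) * r) := ZMod.injective_stdAddChar h
  exact mul_ne_zero k.ne_zero hr0 (by linear_combination h')

end

/-- A multiplier of order above two is impossible. -/
theorem colour_false [DecidableEq Ω] (D : Tri G Ω) (hins : ¬ Group.IsSolvable G)
    (heven : ∀ g : G, Equiv.Perm.sign (toPerm g : Equiv.Perm Ω) = 1)
    (h2 : IsMultiplyPretransitive G Ω 2)
    (hprim : IsPreprimitive (stabilizer G (F.e 0)) (SubMulAction.ofStabilizer G (F.e 0)))
    {k : (ZMod q)ˣ} (hk : k ∈ F.hGroup) (hkk : k * k ≠ 1) : False := by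
  obtain ⟨hnum, s, -, hqs, hcard⟩ := F.colour_num D h2 hprim
  obtain ⟨r, g, h0, hP, hM⟩ := F.exists_shift heven hk
  have hr := F.shift_eq_zero hnum h2 hqs hcard hk hkk (F.cD_shift D h0 hP hM)
  subst hr
  simp only [zero_add] at hM
  set S : Set G := {F.nel 0 1, F.nel 1 0, g} with hS
  set K := Subgroup.closure S with hK
  have hy : F.nel 0 1 ∈ K := Subgroup.subset_closure (by simp [hS])
  have hx : F.nel 1 0 ∈ K := Subgroup.subset_closure (by simp [hS])
  have hg : g ∈ K := Subgroup.subset_closure (by simp [hS])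
  have hgneg : ∀ j w, g • F.e j = F.e w → g • F.e (-j) = F.e (-w) := by
    intro j w h
    rcases F.cover j with rfl | ⟨i, rfl⟩ | ⟨i, rfl⟩
    · rw [h0] at h
      rw [← F.e.injective h, neg_zero, h0]
    · rw [hP] at h
      rw [← F.e.injective h, hM]
    · rw [hM] at h
      rw [← F.e.injective h, neg_neg, neg_neg, hP]
  have hnu : ∀ h ∈ K, ∃ h' ∈ K, ∀ j w, h • F.e j = F.e w → h' • F.e (-j) = F.e (-w) := by
    intro h hh
    induction hh using Subgroup.closure_induction with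
    | mem u hu =>
      rcases hu with rfl | rfl | rfl
      · refine ⟨(F.nel 0 1)⁻¹, inv_mem hy, fun j w hw => ?_⟩
        rw [F.act', F.e.injective.eq_iff] at hw
        rw [F.nel_inv, F.act', ← hw]
        simp [add_comm]
      · refine ⟨F.nel 1 0, hx, fun j w hw => ?_⟩
        rw [F.act', F.e.injective.eq_iff] at hw
        rw [F.act', ← hw]
        congr 1
        ring
      · exact ⟨u, hg, hgneg⟩
    | one => exact ⟨1, one_mem _, fun j w hw => by
        rw [one_smul, F.e.injective.eq_iff] at hw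
        rw [one_smul, hw]⟩
    | mul a b _ _ iha ihb =>
      obtain ⟨a', ha', pa⟩ := iha
      obtain ⟨b', hb', pb⟩ := ihb
      refine ⟨a' * b', mul_mem ha' hb', fun j w hw => ?_⟩
      obtain ⟨u, hu⟩ := F.e.surjective (b • F.e j)
      rw [mul_smul, ← hu] at hw
      rw [mul_smul, pb j u hu.symm, pa u w hw]
    | inv a _ iha =>
      obtain ⟨a', ha', pa⟩ := iha
      refine ⟨a'⁻¹, inv_mem ha', fun j w hw => ?_⟩
      rw [inv_smul_eq_iff] at hw
      rw [inv_smul_eq_iff, pa w j hw.symm]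
  have htr : ∀ z, F.nel 0 z ∈ K := fun z => by
    rw [show F.nel 0 z = F.nel 0 1 ^ z.val by rw [F.nel_pow', mul_one, ZMod.natCast_zmod_val]]
    exact pow_mem hy _
  haveI : IsPretransitive K Ω := ⟨fun a b => by
    obtain ⟨i, rfl⟩ := F.e.surjective a
    obtain ⟨j, rfl⟩ := F.e.surjective b
    refine ⟨⟨_, htr (j - i)⟩, ?_⟩
    show F.nel 0 (j - i) • F.e i = _
    rw [F.act', F.rp_zero, one_mul, add_sub_cancel]⟩
  have hKins : ¬ Group.IsSolvable K := by
    intro hs
    haveI := hs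
    set y : K := ⟨F.nel 0 1, hy⟩
    have hyo : orderOf y = p := by rw [Subgroup.orderOf_mk, F.orderOf_nel' one_ne_zero]
    obtain ⟨P, hP'⟩ := (IsPGroup.of_card (n := 1) (p := p) (G := Subgroup.zpowers y)
      (by rw [Nat.card_zpowers, hyo, pow_one])).exists_le_sylow
    have hn := PermThree.solvable_affine (G := K) F.card_omega P
    have hPz : (P : Subgroup K) = Subgroup.zpowers y :=
      (Subgroup.eq_of_le_of_card_ge hP' (by
        rw [Nat.card_zpowers, hyo, PermPrime.sylow_card F.card_omega P])).symm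
    have h1 := hn.conj_mem y (hP' (Subgroup.mem_zpowers y)) ⟨g, hg⟩
    rw [hPz] at h1
    obtain ⟨n, hn'⟩ := ((isOfFinOrder_of_finite y).mem_powers_iff_mem_zpowers).2 h1
    have h2 : g * F.nel 0 1 * g⁻¹ = F.nel 0 (n * 1) := by
      rw [← F.nel_pow']
      exact (congrArg Subtype.val hn').symm
    obtain ⟨i, z, rfl⟩ := F.norm g _ h2
    have e0 := h0
    rw [F.act', F.e.injective.eq_iff, mul_zero, zero_add] at e0
    have e1 := hP 1
    rw [F.act', F.e.injective.eq_iff, e0, add_zero, mul_one, ← F.rp_add] at e1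
    have e2 := hP 0
    rw [F.act', F.e.injective.eq_iff, e0, add_zero, mul_zero, ← F.rp_add, add_zero] at e2
    have hi := F.rp_inj e2
    rw [hi, zero_add] at e1
    exact hkk (by rw [show k = 1 from Units.ext (F.rp_inj e1).symm, one_mul])
  have hC : HalfNorm.Coord K Ω p :=
    { τ := ⟨F.nel 0 1, hy⟩
      e := F.e
      tr := fun j => by
        show F.nel 0 1 • F.e j = _
        rw [F.act', F.rp_zero, one_mul]
      mult := fun c hc => by
        rcases (F.cover (c ^ 2)).resolve_left (pow_ne_zero _ hc) with ⟨i, hi⟩ | ⟨i, hi⟩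
        · refine ⟨⟨F.nel i 0, ?_⟩, fun j => ?_⟩
          · rw [show F.nel i 0 = F.nel 1 0 ^ i.val by rw [F.nel_pow, mul_one, ZMod.natCast_zmod_val]]
            exact pow_mem hx _
          · show F.nel i 0 • F.e j = _
            rw [F.act', add_zero, hi]
        · exfalso
          have h := congrArg (· ^ q) hi
          simp only [← pow_mul] at h
          rw [show 2 * q = p - 1 by have := F.hpq; omega, ZMod.pow_card_sub_one_eq_one hc,
            ((Fact.out : q.Prime).odd_of_ne_two (by have := F.hq; omega)).neg_pow, F.rp_pow_q] at h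
          exact F.neg_one_ne_one h.symm }
  have hK3 : ¬ IsMultiplyPretransitive K Ω 3 := by
    intro h
    obtain ⟨a, b, c, hT⟩ := D.ex
    obtain ⟨a', b', c', n1, n2, n3, hT'⟩ := D.ex'
    rw [isMultiplyPretransitive_iff] at h
    have inj : ∀ u v w : Ω, u ≠ v → u ≠ w → v ≠ w → Function.Injective ![u, v, w] := by
      intro u v w e1 e2 e3 i j hij
      fin_cases i <;> fin_cases j <;> simp_all [eq_comm]
    obtain ⟨m, hm⟩ := h (x := ⟨_, inj a b c (D.ne12 hT) (D.ne13 hT) (D.ne23 hT)⟩)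
      (y := ⟨_, inj a' b' c' n1 n2 n3⟩)
    have e0 : (m : G) • a = a' := DFunLike.congr_fun hm 0
    have e1 : (m : G) • b = b' := DFunLike.congr_fun hm 1
    have e2 : (m : G) • c = c' := DFunLike.congr_fun hm 2
    exact hT' (e0 ▸ e1 ▸ e2 ▸ D.inv (m : G) hT)
  obtain ⟨D'⟩ := HalfNorm.exists_tri F.card_omega hKins hC hK3
  -- triples of one colour are joined by the subgroup
  have hmap : ∀ (a b c a' b' c' : Ω), a ≠ b → a ≠ c → b ≠ c → a' ≠ b' → a' ≠ c' → b' ≠ c' →
      (D.T a b c ↔ D.T a' b' c') → ∃ m : K, m • a = a' ∧ m • b = b' ∧ m • c = c' := by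
    intro a b c a' b' c' n1 n2 n3 k1 k2 k3 hT
    by_contra hne
    have hd : D'.T a b c ↔ ¬ D'.T a' b' c' := by
      constructor
      · exact fun h h' => hne (D'.orbit h h')
      · intro h'
        by_contra h
        exact hne (D'.orbit' n1 n2 n3 h k1 k2 k3 h')
    have step : ∀ {a₁ b₁ c₁ u v w : Ω}, a₁ ≠ b₁ → a₁ ≠ c₁ → b₁ ≠ c₁ → u ≠ v → u ≠ w → v ≠ w →
        (D'.T a₁ b₁ c₁ ↔ D'.T u v w) → (D.T a₁ b₁ c₁ ↔ D.T u v w) := by
      intro a₁ b₁ c₁ u v w l1 l2 l3 e1 e2 e3 hiff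
      obtain ⟨m, m1, m2, m3⟩ : ∃ m : K, m • a₁ = u ∧ m • b₁ = v ∧ m • c₁ = w := by
        by_cases hu : D'.T u v w
        · exact D'.orbit (hiff.2 hu) hu
        · exact D'.orbit' l1 l2 l3 (mt hiff.1 hu) e1 e2 e3 hu
      rw [← m1, ← m2, ← m3]
      exact (D.inv_iff (m : G)).symm
    have hall : ∀ {u v w : Ω}, u ≠ v → u ≠ w → v ≠ w → (D.T a b c ↔ D.T u v w) := by
      intro u v w e1 e2 e3
      by_cases h1 : D'.T a b c ↔ D'.T u v w
      · exact step n1 n2 n3 e1 e2 e3 h1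
      · exact hT.trans (step k1 k2 k3 e1 e2 e3 (by tauto))
    obtain ⟨u, v, w, e1, e2, e3, hn⟩ := D.ex'
    obtain ⟨u', v', w', hy⟩ := D.ex
    exact hn ((hall e1 e2 e3).1 ((hall (D.ne12 hy) (D.ne13 hy) (D.ne23 hy)).2 hy))
  have hiff : ∀ a b c, D.T (F.e a) (F.e b) (F.e c) → D.T (F.e (-a)) (F.e (-b)) (F.e (-c)) := by
    intro a b c hT
    by_contra hnot
    have hne : ∀ {i j : ZMod p}, F.e i ≠ F.e j → F.e (-i) ≠ F.e (-j) := fun h e =>
      h (by rw [neg_injective (F.e.injective e)])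
    have d1 : F.e 0 ≠ F.e 1 := F.e.injective.ne zero_ne_one
    have d2 : F.e 0 ≠ F.e (-1) := F.e.injective.ne fun e => one_ne_zero (neg_eq_zero.1 e.symm)
    have d3 : F.e 1 ≠ F.e (-1) := F.e.injective.ne fun e => F.neg_one_ne_one e.symm
    by_cases hs : D.T (F.e 0) (F.e 1) (F.e (-1))
    · obtain ⟨⟨m, hm⟩, m1, m2, m3⟩ := hmap _ _ _ _ _ _ d1 d2 d3 (D.ne12 hT) (D.ne13 hT) (D.ne23 hT)
        (iff_of_true hs hT)
      obtain ⟨m', -, pm⟩ := hnu m hm
      refine hnot ?_
      rw [← pm _ _ m1, ← pm _ _ m2, ← pm _ _ m3, D.inv_iff m', neg_zero, neg_neg]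
      exact D.s23 hs
    · obtain ⟨⟨m, hm⟩, m1, m2, m3⟩ := hmap _ _ _ _ _ _ d1 d2 d3 (hne (D.ne12 hT)) (hne (D.ne13 hT))
        (hne (D.ne23 hT)) (iff_of_false hs hnot)
      obtain ⟨m', -, pm⟩ := hnu m hm
      have q1 := pm _ _ m1
      have q2 := pm _ _ m2
      have q3 := pm _ _ m3
      simp only [neg_neg, neg_zero] at q1 q2 q3
      rw [← q1, ← q2, ← q3, D.inv_iff m'] at hT
      exact hs (D.s23 hT)
  have e : F.cS D 1 ↔ F.cS' D 1 := by
    constructor
    · intro h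
      have h' := hiff _ _ _ h
      rwa [neg_zero] at h'
    · intro h
      have h' := hiff _ _ _ h
      rwa [neg_zero, neg_neg, neg_neg] at h'
  by_cases h : F.cS D 1
  · exact (hnum 1 one_ne_zero).1 h (e.1 h)
  · exact h (e.2 (not_not.1 (mt (hnum 1 one_ne_zero).2 h)))

end Frame

end Cfsg.Agent.ItoTwoQ
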