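import Cfsg.Agent.Lib.ItoTwoQ.Modes
import Cfsg.Agent.Lib.ItoTwoQ.BlockTwo
import Cfsg.Agent.Lib.HalfNorm.Basic
import Cfsg.Agent.Lib.Perm.CharPerm
import Cfsg.Agent.Lib.Small.AbelianThreeChar
import Mathlib.GroupTheory.GroupAction.SubMulAction.OfStabilizer
import Mathlib.LinearAlgebra.Trace

/-!
Two colours of triples and two classes of elements of order `q` are impossible.
-/

set_option autoImplicit false
set_option linter.unusedSectionVars false
set_option linter.style.haveILetI false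

namespace Cfsg.Agent.ItoTwoQ

open MulAction Cfsg.Agent.Char
open scoped ComplexConjugate
open Cfsg.Agent.TwiceP (chi chi_one_ne)

universe u v

/-- A character without invariants on the cyclic group vanishes on the inverting involution. -/
theorem Dihedral.Hyp.value_eq_zero {G : Type u} [Group G] [Fintype G] {q : ℕ} [Fact q.Prime] {x t : G}
    (h : Dihedral.Hyp q x t) (χ : Cfsg.IrrCharacter G)
    (hsum : ∑ c : Subgroup.zpowers x, (χ : G → ℂ) c = 0) : (χ : G → ℂ) t = 0 := by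
  classical
  obtain ⟨n, ρ, hρ, hχ⟩ := χ.2
  have hq0 : (q : ℂ) ≠ 0 := Nat.cast_ne_zero.2 (Fact.out : q.Prime).ne_zero
  set E : Module.End ℂ (Fin n → ℂ) := ∑ c : Subgroup.zpowers x, ρ c with hE
  have hEE : E * E = (q : ℂ) • E := by
    conv_lhs => rw [hE]
    rw [Finset.sum_mul]
    have : ∀ a : Subgroup.zpowers x, ρ a * E = E := fun a => by
      rw [hE, Finset.mul_sum]
      refine Fintype.sum_equiv (Equiv.mulLeft a) _ _ fun c => ?_
      simp [map_mul]
    rw [← hE, Finset.sum_congr rfl fun a _ => this a, Finset.sum_const, Finset.card_univ, ← Nat.card_eq_fintype_card,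
      Nat.card_zpowers, h.ord, ← Nat.cast_smul_eq_nsmul ℂ]
  have hidem : IsIdempotentElem ((q : ℂ)⁻¹ • E) := by
    show ((q : ℂ)⁻¹ • E) * ((q : ℂ)⁻¹ • E) = (q : ℂ)⁻¹ • E
    rw [smul_mul_smul_comm, hEE, smul_smul]
    congr 1
    field_simp
  have htr := LinearMap.IsProj.trace (LinearMap.IsIdempotentElem.isProj_range _ hidem)
  have htE : LinearMap.trace ℂ _ E = 0 := by
    rw [hE, map_sum, ← hsum]
    exact Finset.sum_congr rfl fun c _ => by rw [← hχ]; rfl
  rw [map_smul, htE, smul_zero, eq_comm, Nat.cast_eq_zero, Submodule.finrank_eq_zero, LinearMap.range_eq_bot,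
    smul_eq_zero] at htr
  have hE0 : E = 0 := htr.resolve_left (inv_ne_zero hq0)
  have hconj : ∀ c : Subgroup.zpowers x, (χ : G → ℂ) (t * c) = (χ : G → ℂ) t := by
    intro c
    obtain ⟨r, hr⟩ := h.q_odd
    have hcq : (c : G) ^ q = 1 := by
      rw [← h.ord]; exact orderOf_dvd_iff_pow_eq_one.1 (orderOf_dvd_of_mem_zpowers c.2)
    set d : G := (c : G) ^ (r + 1) with hd
    have hdd : d * d = c := by
      rw [hd, ← pow_add, show r + 1 + (r + 1) = q + 1 by omega, pow_succ, hcq, one_mul]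
    have e : d⁻¹ * t * d⁻¹⁻¹ = t * c := by
      rw [inv_inv, ← h.conj_mem (pow_mem c.2 _ : d ∈ Subgroup.zpowers x),
        show t * d * t⁻¹ * t * d = t * (d * d) by group, hdd]
    rw [← e]
    exact IsCharacter.isClassFunction (IsIrrCharacter.isCharacter χ.2) t d⁻¹
  have h0 : LinearMap.trace ℂ _ (ρ t * E) = 0 := by rw [hE0, mul_zero, map_zero]
  rw [hE, Finset.mul_sum, map_sum,
    Finset.sum_congr rfl fun c _ => show _ = (χ : G → ℂ) t by
      rw [← hconj c, ← hχ]; simp [Representation.character],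
    Finset.sum_const, Finset.card_univ, ← Nat.card_eq_fintype_card, Nat.card_zpowers, h.ord, nsmul_eq_mul,
    mul_eq_zero] at h0
  exact h0.resolve_left hq0

variable {G : Type u} [Group G] {Ω : Type v} [MulAction G Ω] [Fintype G] [Fintype Ω]
variable {p q : ℕ} (F : Frame G Ω p q) [Fact p.Prime] [Fact q.Prime] [FaithfulSMul G Ω]
  [IsPretransitive G Ω] [F.Good]

namespace Frame

include F

theorem mem_zp {i : ZMod q} : F.nel i 0 ∈ Subgroup.zpowers (F.nel 1 0) :=
  ⟨(i.val : ℤ), show F.nel 1 0 ^ ((i.val : ℕ) : ℤ) = F.nel i 0 by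
    rw [zpow_natCast, F.nel_pow, mul_one, ZMod.natCast_zmod_val]⟩

theorem of_mem_zp {g : G} (hg : g ∈ Subgroup.zpowers (F.nel 1 0)) : ∃ i, g = F.nel i 0 := by
  obtain ⟨n, rfl⟩ := ((isOfFinOrder_of_finite _).mem_powers_iff_mem_zpowers).2 hg
  exact ⟨(n : ZMod q), by simp [F.nel_pow]⟩

theorem nel_inv_zero (i : ZMod q) : (F.nel i 0)⁻¹ = F.nel (-i) 0 := by
  rw [F.nel_inv, mul_zero, neg_zero]

theorem fix_point {k : ZMod q} (hk : k ≠ 0) {j : ZMod p} (h : F.nel k 0 • F.e j = F.e j) : j = 0 := by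
  rw [F.act', F.e.injective.eq_iff, add_zero] at h
  have h' : (F.rp k - 1) * j = 0 := by linear_combination h
  exact (mul_eq_zero.1 h').resolve_left (sub_ne_zero.2 fun e => hk (F.rp_eq_one.1 e))

/-- The inverting involution. -/
theorem exists_tau (hH : ∀ k : (ZMod q)ˣ, k ∈ F.hGroup ↔ k = 1 ∨ k = -1) :
    ∃ t, Dihedral.Hyp q (F.nel 1 0) t ∧ t • F.e 0 = F.e 0 ∧ Nat.card (fixedBy Ω t) ≤ 3 := by
  classical
  obtain ⟨t, ht⟩ := isConj_iff.1 ((hH (-1)).2 (Or.inr rfl) : IsConj (F.nel 1 0) (F.nel ((-1 : (ZMod q)ˣ) : ZMod q) 0))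
  rw [Units.val_neg, Units.val_one, ← F.nel_inv_zero] at ht
  have hpow : ∀ i : ZMod q, t * F.nel i 0 * t⁻¹ = F.nel (-i) 0 := by
    intro i
    have h := congrArg (fun g : G => g ^ i.val) ht
    simp only [conj_pow, inv_pow, F.nel_pow, mul_one, ZMod.natCast_zmod_val] at h
    rw [h, F.nel_inv_zero]
  have htt : t * t = 1 := by
    obtain ⟨i, hi⟩ := F.cent (t * t) (by
      show t * t * F.nel 1 0 = F.nel 1 0 * (t * t)
      refine mul_inv_eq_iff_eq_mul.1 ?_
      rw [show t * t * F.nel 1 0 * (t * t)⁻¹ = t * (t * F.nel 1 0 * t⁻¹) * t⁻¹ by group, ht, F.nel_inv_zero,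
        hpow, neg_neg])
    have h1 := hpow i
    rw [← hi, show t * (t * t) * t⁻¹ = t * t by group, hi] at h1
    have h2 := (F.nel_inj h1).1
    have h3 : (2 : ZMod q) * i = 0 := by linear_combination h2
    rw [hi, (mul_eq_zero.1 h3).resolve_left F.two_ne', F.nel_zero]
  have hy : Dihedral.Hyp q (F.nel 1 0) t :=
    { hq := by have := F.hq; omega
      ord := F.orderOf_nel one_ne_zero
      sq := F.not_sq_q
      cent := fun g hg => by obtain ⟨i, rfl⟩ := F.cent g hg; exact F.mem_zp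
      norm := fun g hg => by
        obtain ⟨i, hi⟩ := F.of_mem_zp hg
        have hi0 : i ≠ 0 := fun e => by
          rw [e, F.nel_zero, conj_eq_one_iff] at hi
          exact one_ne_zero (F.nel_inj (hi.trans F.nel_zero.symm)).1
        have hm : Units.mk0 i hi0 ∈ F.hGroup := by
          show IsConj (F.nel 1 0) (F.nel i 0)
          exact isConj_iff.2 ⟨g, hi⟩
        rcases (hH _).1 hm with e | e
        · have e' : i = 1 := congrArg Units.val e
          exact Or.inl (by rw [hi, e'])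
        · have e' : i = -1 := congrArg Units.val e
          exact Or.inr (by rw [hi, e', F.nel_inv_zero])
      inv := ht
      tt := htt }
  have hfix0 : t • F.e 0 = F.e 0 := by
    obtain ⟨j, hj⟩ := F.e.surjective (t • F.e 0)
    rw [← hj, F.fix_point (k := -1) (neg_ne_zero.2 one_ne_zero) (j := j) ?_]
    rw [hj, ← hpow 1, mul_smul, mul_smul, inv_smul_smul, F.act', mul_zero, zero_add]
  refine ⟨t, hy, hfix0, ?_⟩
  -- one fixed point at most in each cycle
  have hcy : ∀ w : ZMod p, w ≠ 0 → ∀ i : ZMod q, t • F.e w = F.e w →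
      t • F.e (F.rp i * w) = F.e (F.rp i * w) → i = 0 := by
    intro w hw i h1 h2
    have e : ∀ k : ZMod q, F.e (F.rp k * w) = F.nel k 0 • F.e w := fun k => by rw [F.act', add_zero]
    have h3 : t • F.e (F.rp i * w) = F.e (F.rp (-i) * w) := by
      rw [e, e, ← hpow, mul_smul, mul_smul, inv_smul_eq_iff.2 h1.symm]
    rw [h2, F.e.injective.eq_iff] at h3
    have h4 := F.rp_inj (mul_right_cancel₀ hw h3)
    have h5 : (2 : ZMod q) * i = 0 := by linear_combination h4
    exact (mul_eq_zero.1 h5).resolve_left F.two_ne'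
  let cl : fixedBy Ω t → Fin 3 := fun z =>
    if F.e.symm z.1 = 0 then 0 else if ∃ i, F.e.symm z.1 = F.rp i then 1 else 2
  refine (Nat.card_le_card_of_injective cl ?_).trans_eq (Nat.card_fin 3)
  rintro ⟨z, hz⟩ ⟨z', hz'⟩ hzz
  obtain ⟨j, rfl⟩ := F.e.surjective z
  obtain ⟨j', rfl⟩ := F.e.surjective z'
  refine Subtype.ext (congrArg F.e ?_)
  have same : ∀ (a b : ZMod q) (w : ZMod p), w ≠ 0 → j = F.rp a * w → j' = F.rp b * w → j = j' := by
    intro a b w hw ha hb
    have e : j' = F.rp (b - a) * j := by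
      rw [ha, hb, ← mul_assoc, ← F.rp_add, sub_add_cancel]
    have hj0 : j ≠ 0 := by rw [ha]; exact mul_ne_zero (F.rp_ne_zero a) hw
    rw [e, hcy j hj0 (b - a) hz (by rw [← e]; exact hz'), F.rp_zero, one_mul]
  simp only [cl, Equiv.symm_apply_apply] at hzz
  by_cases h0 : j = 0
  · by_cases h0' : j' = 0
    · rw [h0, h0']
    · rw [if_pos h0, if_neg h0'] at hzz
      split_ifs at hzz <;> exact absurd hzz (by decide)
  by_cases h0' : j' = 0
  · rw [if_neg h0, if_pos h0'] at hzz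
    split_ifs at hzz <;> exact absurd hzz (by decide)
  rw [if_neg h0, if_neg h0'] at hzz
  by_cases h1 : ∃ i, j = F.rp i <;> by_cases h1' : ∃ i, j' = F.rp i <;>
    simp only [h1, h1', if_true, if_false] at hzz
  · obtain ⟨a, ha⟩ := h1
    obtain ⟨b, hb⟩ := h1'
    exact same a b 1 one_ne_zero (by rw [ha, mul_one]) (by rw [hb, mul_one])
  · exact absurd hzz (by decide)
  · exact absurd hzz (by decide)
  · obtain ⟨a, ha⟩ := ((F.cover j).resolve_left h0).resolve_left h1
    obtain ⟨b, hb⟩ := ((F.cover j').resolve_left h0').resolve_left h1'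
    exact same a b (-1) (neg_ne_zero.2 one_ne_zero) (by rw [ha, mul_neg, mul_one]) (by rw [hb, mul_neg, mul_one])

/-- The exceptional family in the character on unordered pairs. -/
theorem family_two (hH : ∀ k : (ZMod q)ˣ, k ∈ F.hGroup ↔ k = 1 ∨ k = -1)
    (hfam : ∀ φ : Cfsg.IrrCharacter G, Cfsg.classInner (rho Ω) (φ : G → ℂ) ≠ 0 →
      F.md (φ : G → ℂ) 1 ≠ 0 → ¬ ∀ k, F.gT k φ = φ) :
    ∃ φ : Cfsg.IrrCharacter G, ((φ : G → ℂ) 1 = ((2 * q + 2 : ℕ) : ℂ) ∨ (φ : G → ℂ) 1 = ((4 * q + 2 : ℕ) : ℂ)) ∧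
      (φ : G → ℂ) (F.nel 1 0) = chi (1 : ZMod q) + chi (-1 : ZMod q) := by
  classical
  have hρc : Cfsg.IsCharacter G (rho (G := G) Ω) := isCharacter_rho
  have hρr : Rational (G := G) (rho Ω) := F.rational_rho
  obtain ⟨φ, hφ, hφ1, -, hfix, hmd⟩ := F.mode_orbit hρc hρr (fun j _ => F.md_rho j)
  have hstab : ∀ k, F.gT k φ = φ ↔ k = 1 ∨ k = -1 := fun k =>
    ((hfix.resolve_left (hfam φ (by rw [hφ]; exact one_ne_zero) (by rw [hφ1]; exact one_ne_zero))) k).trans (hH k)
  set O : Finset (Cfsg.IrrCharacter G) := Finset.univ.image fun k : (ZMod q)ˣ => F.gT k φ with hO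
  have hOc : q - 1 ≤ 2 * O.card := by
    have h1 : (Finset.univ : Finset (ZMod q)ˣ).card ≤ 2 * O.card := by
      refine Finset.card_le_mul_card_image _ 2 fun ψ hψ => ?_
      obtain ⟨k0, -, rfl⟩ := Finset.mem_image.1 hψ
      refine (Finset.card_le_card (t := {k0, -k0}) fun k hk => ?_).trans Finset.card_le_two
      have e := congrArg (F.gT k0⁻¹) (Finset.mem_filter.1 hk).2
      rw [F.gT_mul, F.gT_mul, inv_mul_cancel, F.gT_one, hstab] at e
      rcases e with e | e
      · simp [(inv_mul_eq_one.1 e).symm]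
      · have : k = -k0 := by rw [inv_mul_eq_iff_eq_mul.1 e, mul_neg_one]
        simp [this]
    rwa [Finset.card_univ, ZMod.card_units] at h1
  have hOin : ∀ ψ ∈ O, Cfsg.classInner (rho Ω) (ψ : G → ℂ) = 1 := fun ψ hψ => by
    obtain ⟨k, -, rfl⟩ := Finset.mem_image.1 hψ
    rw [F.inner_gT' hρr, hφ]
  have hO1 : ∀ ψ ∈ O, (ψ : G → ℂ) 1 = (φ : G → ℂ) 1 := fun ψ hψ => by
    obtain ⟨k, -, rfl⟩ := Finset.mem_image.1 hψ
    exact F.gT_regular k φ (by rw [orderOf_one]; exact (Fact.out : q.Prime).not_dvd_one)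
  -- the mode zero is not used
  have hmd0 : F.md (φ : G → ℂ) 0 = 0 := by
    obtain ⟨n0, hn0⟩ := F.md_nat (IsIrrCharacter.isCharacter φ.2) 0
    by_contra hne
    obtain ⟨ψ, -, -, hu⟩ := F.mode_unique hρc (F.md_rho 0)
    have hall : ∀ θ ∈ O, θ = ψ := fun θ hθ => by
      obtain ⟨k, -, rfl⟩ := Finset.mem_image.1 hθ
      refine hu _ (by rw [hOin _ hθ]; exact one_ne_zero) ?_
      rw [← mul_zero (k : ZMod q), F.md_gT]
      exact hne
    have : O.card ≤ 1 := Finset.card_le_one.2 fun a ha b hb => (hall a ha).trans (hall b hb).symm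
    have := F.hq
    omega
  have hm : ∀ j : ZMod q, F.md (φ : G → ℂ) j = if j = 1 ∨ j = -1 then 1 else 0 := by
    intro j
    by_cases hj : j = 0
    · subst hj
      rw [hmd0, if_neg]
      rintro (e | e)
      · exact zero_ne_one e
      · exact one_ne_zero (neg_eq_zero.1 e.symm)
    · have h1 := hmd (Units.mk0 j hj)
      rw [Units.val_mk0] at h1
      rw [h1]
      refine if_congr ((hstab _).trans ⟨?_, ?_⟩) rfl rfl
      · rintro (e | e)
        · exact Or.inl (congrArg Units.val e)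
        · exact Or.inr (congrArg Units.val e)
      · rintro (e | e)
        · exact Or.inl (Units.ext e)
        · exact Or.inr (Units.ext e)
  have hne11 : (1 : ZMod q) ≠ -1 := fun e => F.two_ne' (by linear_combination e)
  have hsum2 : ∀ f : ZMod q → ℂ, ∑ j : ZMod q, F.md (φ : G → ℂ) j * f j = f 1 + f (-1) := by
    intro f
    simp only [hm, ite_mul, one_mul, zero_mul]
    rw [← Finset.sum_filter, show (Finset.univ.filter fun j : ZMod q => j = 1 ∨ j = -1) = {1, -1} by
      ext j; simp, Finset.sum_pair hne11]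
  have hn : F.nfix (φ : G → ℂ) = 2 := by
    rw [← F.sum_md, ← Finset.sum_congr rfl fun j _ => mul_one (F.md (φ : G → ℂ) j), hsum2]
    norm_num
  obtain ⟨n, ε, hn', hε, hd⟩ := F.mode_degree hρc hρr (F.md_rho 1) (φ := φ) (by rw [hφ]; exact one_ne_zero)
    (by rw [hφ1]; exact one_ne_zero)
  have hn2 : n = 2 := by
    rw [hn] at hn'
    exact_mod_cast hn'.symm
  refine ⟨φ, ?_, ?_⟩
  · have hp' : (p : ℂ) = 2 * q + 1 := by rw [F.hpq]; push_cast; ring
    subst hn2
    rw [hp'] at hd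
    rcases hε with rfl | rfl | rfl
    · exfalso
      have hd' : (φ : G → ℂ) 1 = ((6 * q + 2 : ℕ) : ℂ) := by rw [hd]; push_cast; ring
      -- too many conjugates
      choose m hmm using fun ψ => inner_nat hρc ψ
      choose d hdd using fun ψ : Cfsg.IrrCharacter G => IsIrrCharacter.exists_degree ψ.2
      have h1 := congrFun (IsCharacter.eq_sum hρc) 1
      simp only [Finset.sum_apply, Pi.smul_apply, smul_eq_mul, hmm, F.rho_one, fun ψ => (hdd ψ).2,
        ← Nat.cast_mul, ← Nat.cast_sum, Nat.cast_inj] at h1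
      have h2 := Finset.sum_le_sum_of_subset (f := fun ψ => m ψ * d ψ) (Finset.subset_univ O)
      rw [Finset.sum_congr rfl fun ψ hψ => show m ψ * d ψ = 6 * q + 2 by
        have a1 : m ψ = 1 := by
          have := (hmm ψ).symm.trans (hOin ψ hψ)
          exact_mod_cast this
        have a2 : d ψ = 6 * q + 2 := by
          have := ((hdd ψ).2.symm.trans (hO1 ψ hψ)).trans hd'
          exact_mod_cast this
        rw [a1, a2, one_mul], Finset.sum_const, smul_eq_mul, ← h1] at h2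
      have := F.hq
      have hpq := F.hpq
      have h3 : (q - 1) * (6 * q + 2) ≤ 2 * O.card * (6 * q + 2) := Nat.mul_le_mul_right _ hOc
      obtain ⟨r, hr⟩ : ∃ r, q = r + 1 := ⟨q - 1, by omega⟩
      subst hr
      rw [Nat.add_sub_cancel] at h3
      subst hpq
      nlinarith
    · exact Or.inr (by rw [hd]; push_cast; ring)
    · exact Or.inl (by rw [hd]; push_cast; ring)
  · rw [F.value_x (F.irr_classFun φ) one_ne_zero, hsum2]
    simp

theorem arith {m U d δd : ℤ} (hq : 11 ≤ q) (hs : ∃ s : ℕ, q = 2 * s ^ 2 + 2 * s + 1)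
    (hm1 : 1 ≤ m) (hm3 : m ≤ 3) (hd : d = 2 * q + 2 ∧ δd = p ∨ d = 4 * q + 2 ∧ δd = 4 * q + 1)
    (h : m ^ 2 * ((q : ℤ) - 1) * d * δd = (p : ℤ) * (U - δd) ^ 2 * ((q : ℤ) - 2)) : False := by
  have hp0 : (p : ℤ) ≠ 0 := Int.natCast_ne_zero.2 (Fact.out : p.Prime).ne_zero
  have hpq : (p : ℤ) = 2 * q + 1 := by rw [F.hpq]; push_cast; ring
  have hdvd : ((q : ℤ) - 2) ∣ 18 * m ^ 2 := by
    rcases hd with ⟨rfl, rfl⟩ | ⟨rfl, rfl⟩
    · have h' : m ^ 2 * ((q : ℤ) - 1) * (2 * q + 2) = (U - p) ^ 2 * ((q : ℤ) - 2) :=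
        mul_left_cancel₀ hp0 (by linear_combination h)
      exact ⟨3 * ((U - p) ^ 2 - m ^ 2 * (2 * q + 4)), by linear_combination (3 : ℤ) * h'⟩
    · have h' : m ^ 2 * ((q : ℤ) - 1) * 2 * (4 * q + 1) = (U - (4 * q + 1)) ^ 2 * ((q : ℤ) - 2) :=
        mul_left_cancel₀ hp0 (by
          rw [hpq] at h ⊢
          linear_combination h)
      exact ⟨(U - (4 * q + 1)) ^ 2 - m ^ 2 * (8 * q + 10), by linear_combination h'⟩
  have hle := Int.le_of_dvd (by positivity) hdvd
  obtain ⟨s, rfl⟩ := hs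
  have hs9 : s ≤ 9 := by
    by_contra hlt
    have h10 : 10 ≤ s := by omega
    have hm9 : m ^ 2 ≤ 9 := by nlinarith
    push_cast at hle
    have : (10 : ℤ) ≤ (s : ℤ) := by exact_mod_cast h10
    nlinarith
  interval_cases s <;> interval_cases m <;> first | (norm_num at hdvd; done) | omega

/-- Two colours are impossible when the elements of order `q` are only conjugate to their inverses. -/
theorem false_of_two (h2 : IsMultiplyPretransitive G Ω 2) (D : Cfsg.Agent.HalfNorm.Tri G Ω)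
    (hs : ∃ s : ℕ, q = 2 * s ^ 2 + 2 * s + 1)
    (hH : ∀ k : (ZMod q)ˣ, k ∈ F.hGroup ↔ k = 1 ∨ k = -1)
    (hfam : ∀ φ : Cfsg.IrrCharacter G, Cfsg.classInner (rho Ω) (φ : G → ℂ) ≠ 0 →
      F.md (φ : G → ℂ) 1 ≠ 0 → ¬ ∀ k, F.gT k φ = φ) : False := by
  classical
  obtain ⟨t, hy, ht0, ht3⟩ := F.exists_tau hH
  set x := F.nel 1 0 with hx
  have hq11 := F.hq
  have hxq : ¬ q ∣ orderOf (1 : G) := by rw [orderOf_one]; exact (Fact.out : q.Prime).not_dvd_one
  -- the whole group
  obtain ⟨B⟩ := hy.exists_blk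
  obtain ⟨φ, hφd, hφx⟩ := F.family_two hH hfam
  have hx1 : x ≠ 1 := fun e => by
    have := hy.ord
    rw [e, orderOf_one] at this
    omega
  have hroot : ∀ r : ℤ, (r = 0 ∨ r = 1 ∨ r = -1) → (φ : G → ℂ) x ≠ r := by
    intro r hr he
    rw [hφx] at he
    set z : ℂ := chi (1 : ZMod q) with hz
    have hzz : chi (-1 : ZMod q) * z = 1 := by
      rw [hz, ← AddChar.map_add_eq_mul, neg_add_cancel, AddChar.map_zero_eq_one]
    have hz2 : z * z + 1 = r * z := by linear_combination z * he - hzz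
    have hzq : z ^ q = 1 := by
      rw [hz, ← AddChar.map_nsmul_eq_pow, nsmul_one, ZMod.natCast_self, AddChar.map_zero_eq_one]
    have h12 : z ^ 12 = 1 := by
      rcases hr with rfl | rfl | rfl <;> push_cast at hz2
      · linear_combination (z ^ 10 - z ^ 8 + z ^ 6 - z ^ 4 + z ^ 2 - 1) * hz2
      · linear_combination (z ^ 10 + z ^ 9 - z ^ 7 - z ^ 6 + z ^ 4 + z ^ 3 - z - 1) * hz2
      · linear_combination (z ^ 10 - z ^ 9 + z ^ 7 - z ^ 6 + z ^ 4 - z ^ 3 + z - 1) * hz2
    have h1 : z ^ Nat.gcd q 12 = 1 := pow_gcd_eq_one.2 ⟨hzq, h12⟩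
    rw [Nat.coprime_iff_gcd_eq_one.1 (((Fact.out : q.Prime).coprime_iff_not_dvd).2 fun h => by
      have h3 := Nat.le_of_dvd (by norm_num) h
      have hpr := (Fact.out : q.Prime)
      rcases (by omega : q = 11 ∨ q = 12) with e | e <;> rw [e] at h hpr <;>
        first | (norm_num at h; done) | (norm_num at hpr; done)), pow_one] at h1
    exact chi_one_ne h1
  have hφY : φ ∈ B.Y := by
    by_contra hne
    by_cases h1 : (φ : G → ℂ) = fun _ => 1
    · exact hroot 1 (Or.inr (Or.inl rfl)) (by rw [h1]; simp)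
    by_cases hK : φ = B.K
    · refine hroot B.s (Or.inr B.hs) ?_
      rw [hK, B.valK x (Subgroup.mem_zpowers x) hx1]
    · exact hroot 0 (Or.inl rfl) (by rw [(B.zero φ h1 hK hne).1]; simp)
  obtain ⟨d, hd, hdd⟩ : ∃ d : ℕ, (φ : G → ℂ) 1 = d ∧ (d = 2 * q + 2 ∨ d = 4 * q + 2) := by
    rcases hφd with e | e
    · exact ⟨_, e, Or.inl rfl⟩
    · exact ⟨_, e, Or.inr rfl⟩
  have hδ : B.δ = -1 := by
    refine B.hδ.resolve_left fun e => ?_
    have h1 := B.degY φ hφY
    have hcd : charDegree (φ : G → ℂ) = d := by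
      have := (Blocks.irr_one_eq_charDegree φ).symm.trans hd
      exact_mod_cast this
    rw [hcd, e, Int.modEq_iff_dvd] at h1
    have h4 : (q : ℤ) ∣ 4 := by
      rcases hdd with rfl | rfl
      · have := h1.add (dvd_mul_left (q : ℤ) 2)
        push_cast at this
        have := this.neg_right
        ring_nf at this ⊢
        exact this
      · have := h1.add (dvd_mul_left (q : ℤ) 4)
        push_cast at this
        have := this.neg_right
        ring_nf at this ⊢
        exact this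
    have := Int.le_of_dvd (by norm_num) h4
    omega
  obtain ⟨K1, -, hK1⟩ := IsIrrCharacter.exists_degree B.K.2
  have hr1 := B.rel φ hφY 1 hxq
  rw [hd, hK1, hδ] at hr1
  have hs1 : B.s = 1 ∧ (K1 : ℤ) = (d : ℤ) - 1 := by
    have hz : (1 : ℤ) + B.s * K1 + -1 * d = 0 := by exact_mod_cast hr1
    rcases B.hs with e | e <;> rw [e] at hz ⊢
    · exact ⟨rfl, by omega⟩
    · omega
  obtain ⟨U, hU⟩ := AbThree.exists_int_of_sq (IsIrrCharacter.isCharacter B.K.2) hy.t_order
  have hT : (φ : G → ℂ) t = 1 + U := by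
    have h1 := B.rel φ hφY t hy.not_q_dvd_t
    rw [hU, hδ, hs1.1] at h1
    push_cast at h1
    linear_combination (-1 : ℂ) * h1
  have hG := hy.class_formula
  rw [B.sum_eq hy hφY, hU, hT, hd, hK1, hδ, hs1.1] at hG
  -- the stabiliser of a point
  set a := F.e 0 with ha
  let H := stabilizer G a
  haveI : Fintype H := Fintype.ofFinite _
  have hxH : x ∈ H := mem_stabilizer_iff.2 (by rw [ha, hx, F.act', mul_zero, zero_add])
  let x' : H := ⟨x, hxH⟩
  let t' : H := ⟨t, mem_stabilizer_iff.2 ht0⟩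
  have hzp : ∀ g : H, (g : G) ∈ Subgroup.zpowers x → g ∈ Subgroup.zpowers x' := fun g hg => by
    obtain ⟨i, hi⟩ := Subgroup.mem_zpowers_iff.1 hg
    exact Subgroup.mem_zpowers_iff.2 ⟨i, Subtype.ext (by rw [← hi]; rfl)⟩
  have hzp' : ∀ g : H, g ∈ Subgroup.zpowers x' → (g : G) ∈ Subgroup.zpowers x := fun g hg => by
    obtain ⟨i, rfl⟩ := Subgroup.mem_zpowers_iff.1 hg
    exact Subgroup.mem_zpowers_iff.2 ⟨i, rfl⟩
  have hy' : Dihedral.Hyp q x' t' :=
    { hq := hy.hq
      ord := (Subgroup.orderOf_mk x hxH).trans hy.ord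
      sq := fun h => hy.sq (h.trans (Subgroup.card_subgroup_dvd_card H))
      cent := fun g hg => hzp g (hy.cent g (congrArg Subtype.val hg :))
      norm := fun g hg => (hy.norm g (hzp' _ hg)).imp (fun e => Subtype.ext e) fun e => Subtype.ext e
      inv := Subtype.ext hy.inv
      tt := Subtype.ext hy.tt }
  obtain ⟨B'⟩ := hy'.exists_blk
  -- the action on the other points
  let X' := SubMulAction.ofStabilizer G a
  haveI : Fintype X' := Fintype.ofFinite _
  haveI : DecidableEq Ω := Classical.decEq _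
  have hval : ∀ (g : H) (b : X'), ((g • b : X') : Ω) = (g : G) • (b : Ω) := fun g b => rfl
  haveI htr : IsPretransitive H X' := ⟨fun b c => by
    obtain ⟨g, hg1, hg2⟩ := is_two_pretransitive_iff.1 h2 (fun e : a = (b : Ω) => b.2 e.symm)
      (fun e : a = (c : Ω) => c.2 e.symm)
    exact ⟨⟨g, mem_stabilizer_iff.2 hg1⟩, Subtype.ext hg2⟩⟩
  obtain ⟨a1, b1, c1, hT1⟩ := D.ex
  obtain ⟨g, hg1, hg2⟩ := is_two_pretransitive_iff.1 h2 (D.ne12 hT1) (show a ≠ F.e 1 from
    fun e => zero_ne_one (F.e.injective e))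
  obtain ⟨a2, b2, c2, k1, k2, k3, hT2⟩ := D.ex'
  obtain ⟨g', hg1', hg2'⟩ := is_two_pretransitive_iff.1 h2 k1 (show a ≠ F.e 1 from
    fun e => zero_ne_one (F.e.injective e))
  let b : X' := ⟨F.e 1, fun e => one_ne_zero (F.e.injective e)⟩
  have hTc := D.inv g hT1
  rw [hg1, hg2] at hTc
  have hTc' : ¬ D.T a (F.e 1) (g' • c2) := fun h => hT2 ((D.inv_iff g').1 (by rwa [hg1', hg2']))
  let cT : X' := ⟨g • c1, fun e => D.ne13 hTc e.symm⟩
  let cN : X' := ⟨g' • c2, fun e => k2 (smul_left_cancel g' (hg1'.trans e.symm))⟩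
  have hcN : (cN : Ω) ≠ F.e 1 := fun e => k3 (smul_left_cancel g' (hg2'.trans e.symm))
  have hrank : Nat.card (orbitRel.Quotient (stabilizer H b) X') = 3 := by
    let cls : X' → Fin 3 := fun c => if (c : Ω) = F.e 1 then 0 else if D.T a (F.e 1) c then 1 else 2
    have hinv : ∀ (g : stabilizer H b) c, cls (g • c) = cls c := by
      intro g c
      have e1 : ((g : H) : G) • a = a := mem_stabilizer_iff.1 (g : H).2
      have e2 : ((g : H) : G) • F.e 1 = F.e 1 := congrArg Subtype.val (mem_stabilizer_iff.1 g.2)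
      have i1 : ((g : H) : G) • (c : Ω) = F.e 1 ↔ (c : Ω) = F.e 1 := by
        conv_lhs => rw [← e2, smul_left_cancel_iff]
      have i2 : D.T a (F.e 1) (((g : H) : G) • (c : Ω)) ↔ D.T a (F.e 1) c := by
        have h := D.inv_iff ((g : H) : G) (a := a) (b := F.e 1) (c := (c : Ω))
        rwa [e1, e2] at h
      show (if ((g : H) : G) • (c : Ω) = F.e 1 then (0 : Fin 3) else _) = _
      simp only [i1, cls, Subgroup.smul_def, hval, i2]
    let f : orbitRel.Quotient (stabilizer H b) X' → Fin 3 := Quotient.lift cls fun c c' h => by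
      obtain ⟨g, rfl⟩ := mem_orbit_iff.1 (orbitRel_apply.1 h)
      exact hinv g c'
    rw [Nat.card_eq_of_bijective f ⟨?_, ?_⟩, Nat.card_fin]
    · rintro ⟨c⟩ ⟨c'⟩ e
      change cls c = cls c' at e
      have mk : ∀ g : G, g • a = a → g • F.e 1 = F.e 1 → g • (c' : Ω) = c →
          ∃ k : stabilizer H b, k • c' = c := fun g h1 h2 h3 =>
        ⟨⟨⟨g, mem_stabilizer_iff.2 h1⟩, mem_stabilizer_iff.2 (Subtype.ext h2)⟩, Subtype.ext h3⟩
      have key : ∃ k : stabilizer H b, k • c' = c := by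
        simp only [cls] at e
        by_cases e1 : (c : Ω) = F.e 1
        · by_cases e1' : (c' : Ω) = F.e 1
          · exact ⟨1, by rw [one_smul]; exact Subtype.ext (e1'.trans e1.symm)⟩
          · rw [if_pos e1, if_neg e1'] at e
            split_ifs at e <;> exact absurd e (by decide)
        by_cases e1' : (c' : Ω) = F.e 1
        · rw [if_neg e1, if_pos e1'] at e
          split_ifs at e <;> exact absurd e (by decide)
        rw [if_neg e1, if_neg e1'] at e
        have hne : a ≠ F.e 1 := fun e => zero_ne_one (F.e.injective e)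
        by_cases e2 : D.T a (F.e 1) c <;> by_cases e2' : D.T a (F.e 1) c' <;>
          simp only [e2, e2', if_true, if_false] at e
        · obtain ⟨g, g1, g2, g3⟩ := D.orbit e2' e2
          exact mk g g1 g2 g3
        · exact absurd e (by decide)
        · exact absurd e (by decide)
        · obtain ⟨g, g1, g2, g3⟩ := D.orbit' hne (fun h => c'.2 h.symm) (fun h => e1' h.symm) e2'
            hne (fun h => c.2 h.symm) (fun h => e1 h.symm) e2
          exact mk g g1 g2 g3
      obtain ⟨k, hk⟩ := key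
      exact Quotient.sound (orbitRel_apply.2 ⟨k, hk⟩)
    · intro i
      fin_cases i
      · exact ⟨Quotient.mk _ b, if_pos rfl⟩
      · refine ⟨Quotient.mk _ cT, ?_⟩
        show cls cT = 1
        simp only [cls, cT]
        rw [if_neg (D.ne23 hTc).symm, if_pos hTc]
      · refine ⟨Quotient.mk _ cN, ?_⟩
        show cls cN = 2
        simp only [cls]
        rw [if_neg hcN, if_neg hTc']
  set π : H → ℂ := CharPerm.permChar H X' with hπ
  have hπc : Cfsg.IsCharacter H π := CharPerm.isCharacter_permChar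
  have hπr : Rational (G := H) π := rational_pc
  have h3 : Cfsg.classInner π π = 3 := by
    rw [hπ, CharPerm.classInner_permChar_self b, hrank]; norm_num
  haveI : Nonempty X' := ⟨b⟩
  let one : Cfsg.IrrCharacter H := ⟨fun _ => 1, isIrrCharacter_one⟩
  have hone : Cfsg.classInner π (one : H → ℂ) = 1 := CharPerm.classInner_permChar_one
  choose m hm using fun ψ => inner_nat hπc ψ
  have hsq : ∑ ψ : Cfsg.IrrCharacter H, m ψ * m ψ = 3 := by
    have h1 := h3
    conv_lhs at h1 => rw [IsCharacter.eq_sum hπc]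
    rw [classInner_combination₂] at h1
    simp only [hm, map_natCast, ← Nat.cast_mul, ← Nat.cast_sum] at h1
    exact_mod_cast h1
  have hm1 : m one = 1 := by
    have := (hm one).symm.trans hone
    exact_mod_cast this
  set S := (Finset.univ.erase one).filter fun ψ => m ψ ≠ 0 with hS
  rw [← Finset.add_sum_erase _ _ (Finset.mem_univ one), hm1,
    ← Finset.sum_filter_ne_zero, Finset.filter_congr (q := fun ψ => m ψ ≠ 0) (fun ψ _ => by simp), ← hS] at hsq
  have hS2 : ∑ ψ ∈ S, m ψ * m ψ = 2 := by omega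
  have hSm : ∀ ψ ∈ S, m ψ = 1 := fun ψ hψ => by
    have h1 := Finset.single_le_sum (f := fun ψ => m ψ * m ψ) (fun ψ _ => Nat.zero_le _) hψ
    beta_reduce at h1
    rw [hS2] at h1
    have := (Finset.mem_filter.1 hψ).2
    by_contra hne
    have := Nat.mul_le_mul (show 2 ≤ m ψ by omega) (show 2 ≤ m ψ by omega)
    omega
  have hScard : S.card = 2 := by
    rw [Finset.card_eq_sum_ones]
    rw [Finset.sum_congr rfl fun ψ hψ => show (1 : ℕ) = m ψ * m ψ by rw [hSm ψ hψ]]
    exact hS2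
  have hexp : ∀ g, π g = 1 + ∑ ψ ∈ S, (ψ : H → ℂ) g := fun g => by
    have h1 := congrFun (IsCharacter.eq_sum hπc) g
    simp only [Finset.sum_apply, Pi.smul_apply, smul_eq_mul, hm] at h1
    rw [h1, ← Finset.add_sum_erase _ _ (Finset.mem_univ one), hm1, Nat.cast_one, one_mul, hS, Finset.sum_filter]
    refine congrArg (_ + ·) (Finset.sum_congr rfl fun ψ hψ => ?_)
    split_ifs with h0
    · rw [hSm ψ (Finset.mem_filter.2 ⟨hψ, h0⟩), Nat.cast_one, one_mul]
    · rw [not_not.1 h0, Nat.cast_zero, zero_mul]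
  have hSY : ∀ ψ ∈ S, ψ ∉ B'.Y := by
    intro ψ hψ hY
    have hsub : B'.Y ⊆ S := fun θ hθ => by
      obtain ⟨σ, rfl⟩ := B'.orbit ψ hY θ hθ
      refine Finset.mem_filter.2 ⟨Finset.mem_erase.2 ⟨fun e => B'.one_not _ hθ (congrArg Subtype.val e),
        Finset.mem_univ _⟩, ?_⟩
      have h1 := inner_galT hπc hπr σ ψ
      rw [hm, hm, Nat.cast_inj] at h1
      rw [h1]
      exact (Finset.mem_filter.1 hψ).2
    have h1 := Finset.card_le_card hsub
    have := B'.cardY
    omega
  have hSone : ∀ ψ ∈ S, (ψ : H → ℂ) ≠ fun _ => 1 := fun ψ hψ e =>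
    (Finset.mem_erase.1 (Finset.mem_filter.1 hψ).1).1 (Subtype.ext e)
  have hx'1 : x' ≠ 1 := fun e => hx1 (congrArg Subtype.val e)
  have hπx : π x' = 0 := by
    rw [hπ]
    show ((Nat.card (fixedBy X' x') : ℕ) : ℂ) = 0
    rw [Nat.cast_eq_zero, Nat.card_eq_zero]
    refine Or.inl ⟨fun z => z.1.2 ?_⟩
    have h1 : x • ((z.1 : X') : Ω) = z.1 := congrArg Subtype.val z.2
    obtain ⟨j, hj⟩ := F.e.surjective (z.1 : Ω)
    rw [← hj] at h1 ⊢
    rw [F.fix_point one_ne_zero h1]
    rfl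
  have hπ1 : π 1 = ((2 * q : ℕ) : ℂ) := by
    rw [hπ]
    show ((Nat.card (fixedBy X' (1 : H)) : ℕ) : ℂ) = _
    rw [Nat.cast_inj, fixedBy_one_eq_univ, Nat.card_coe_set_eq, Set.ncard_univ]
    show Nat.card ({a}ᶜ : Set Ω) = _
    rw [Nat.card_coe_set_eq, Set.ncard_compl, Set.ncard_singleton, F.card_omega, F.hpq]
    omega
  have hKS : B'.K ∈ S := by
    by_contra hK
    have h1 := hexp x'
    rw [hπx, Finset.sum_eq_zero fun ψ hψ =>
      (B'.zero ψ (hSone ψ hψ) (fun e => hK (e ▸ hψ)) (hSY ψ hψ)).1, add_zero] at h1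
    exact zero_ne_one h1
  obtain ⟨ψ, hψ⟩ := Finset.card_eq_one.1 (show (S.erase B'.K).card = 1 by
    rw [Finset.card_erase_of_mem hKS, hScard])
  have hψS : ψ ∈ S ∧ ψ ≠ B'.K := by
    have := Finset.mem_singleton_self ψ
    rw [← hψ, Finset.mem_erase] at this
    exact ⟨this.2, this.1⟩
  have hψ0 := B'.zero ψ (hSone ψ hψS.1) hψS.2 (hSY ψ hψS.1)
  have hs' : B'.s = -1 := by
    have h1 := hexp x'
    rw [hπx, ← Finset.add_sum_erase _ _ hKS, hψ, Finset.sum_singleton, hψ0.1, add_zero,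
      B'.valK x' (Subgroup.mem_zpowers x') hx'1] at h1
    have : (0 : ℤ) = 1 + B'.s := by exact_mod_cast h1
    omega
  have hK'1 : (charDegree (B'.K : H → ℂ) : ℤ) = q - 1 := by
    have h1 := hexp 1
    rw [hπ1, ← Finset.add_sum_erase _ _ hKS, hψ, Finset.sum_singleton, Blocks.irr_one_eq_charDegree,
      Blocks.irr_one_eq_charDegree] at h1
    have h1' : (2 * q : ℕ) = 1 + (charDegree (B'.K : H → ℂ) + charDegree (ψ : H → ℂ)) := by exact_mod_cast h1
    obtain ⟨r, hr⟩ := hψ0.2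
    have h4 : 0 < charDegree (ψ : H → ℂ) := by
      refine Nat.pos_of_ne_zero fun e => IsIrrCharacter.one_ne_zero ψ.2 ?_
      rw [Blocks.irr_one_eq_charDegree, e, Nat.cast_zero]
    have h5 : 0 < charDegree (B'.K : H → ℂ) := by
      refine Nat.pos_of_ne_zero fun e => IsIrrCharacter.one_ne_zero B'.K.2 ?_
      rw [Blocks.irr_one_eq_charDegree, e, Nat.cast_zero]
    have hr1 : r = 1 := by
      have h6 : 0 < (q : ℤ) * r := by rw [← hr]; exact_mod_cast h4
      have h7 : (q : ℤ) * r < (q : ℤ) * 2 := by rw [← hr]; omega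
      have : 0 < r := pos_of_mul_pos_right h6 (by positivity)
      have : r < 2 := lt_of_mul_lt_mul_left h7 (by positivity)
      omega
    rw [hr1, mul_one] at hr
    omega
  obtain ⟨θ, hθ⟩ : B'.Y.Nonempty := by
    rw [← Finset.card_pos]
    have := B'.cardY
    omega
  have hK'c : (B'.K : H → ℂ) 1 = (q : ℂ) - 1 := by
    rw [Blocks.irr_one_eq_charDegree]
    have := congrArg (fun n : ℤ => (n : ℂ)) hK'1
    push_cast at this
    exact this
  have hU' : (B'.K : H → ℂ) t' = 0 := by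
    refine hy'.value_eq_zero B'.K ?_
    rw [← Finset.add_sum_erase _ _ (Finset.mem_univ (1 : Subgroup.zpowers x')), OneMemClass.coe_one, hK'c,
      Finset.sum_congr rfl fun (c : Subgroup.zpowers x') hc => show (B'.K : H → ℂ) (c : H) = ((B'.s : ℤ) : ℂ) from
        B'.valK c c.2 fun e => (Finset.ne_of_mem_erase hc) (Subtype.ext e),
      Finset.sum_const, Finset.card_erase_of_mem (Finset.mem_univ _), Finset.card_univ, ← Nat.card_eq_fintype_card,
      Nat.card_zpowers, hy'.ord, hs', nsmul_eq_mul, Nat.cast_sub (Fact.out : q.Prime).one_lt.le]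
    push_cast
    ring
  have hxq' : ¬ q ∣ orderOf (1 : H) := by rw [orderOf_one]; exact (Fact.out : q.Prime).not_dvd_one
  obtain ⟨d', -, hd'⟩ := IsIrrCharacter.exists_degree θ.2
  have hr' := B'.rel θ hθ 1 hxq'
  rw [hK'c, hd', hs'] at hr'
  have hδ' : B'.δ = 1 ∧ (d' : ℤ) = q - 2 := by
    have hz : (1 : ℤ) + -1 * ((q : ℤ) - 1) + B'.δ * d' = 0 := by exact_mod_cast hr'
    rcases B'.hδ with e | e <;> rw [e] at hz ⊢ <;> omega
  have hT' : (θ : H → ℂ) t' = -1 := by
    have h1 := B'.rel θ hθ t' hy'.not_q_dvd_t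
    rw [hU', hδ'.1, mul_zero, add_zero, Int.cast_one, one_mul] at h1
    linear_combination h1
  have hH' := hy'.class_formula
  rw [B'.sum_eq hy' hθ, hU', hT', hd', hδ'.1] at hH'
  -- the orders of the classes
  set C := Subgroup.centralizer ({t} : Set G) with hC
  set C' := Subgroup.centralizer ({t'} : Set H) with hC'
  have hmemC : ∀ g, g ∈ C ↔ g * t = t * g := fun g => Subgroup.mem_centralizer_singleton_iff
  set k := Nat.card (orbit C a) with hk
  have hk3 : k ≤ 3 := by
    refine le_trans (Nat.card_mono (Set.toFinite _) ?_) ht3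
    rintro _ ⟨c, rfl⟩
    show t • ((c : G) • a) = (c : G) • a
    rw [smul_smul, ← (hmemC c).1 c.2, mul_smul, ht0]
  have hk1 : 1 ≤ k := Nat.card_pos_iff.2 ⟨⟨⟨a, mem_orbit_self a⟩⟩, inferInstance⟩
  have hCk : Nat.card C = k * Nat.card C' := by
    have e : Nat.card C' = Nat.card (stabilizer C a) := Nat.card_congr
      { toFun := fun c => ⟨⟨(c.1 : G), (hmemC _).2 (congrArg Subtype.val
            (Subgroup.mem_centralizer_singleton_iff.1 c.2))⟩, mem_stabilizer_iff.2 (mem_stabilizer_iff.1 c.1.2)⟩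
        invFun := fun c => ⟨⟨(c.1 : G), mem_stabilizer_iff.2 (mem_stabilizer_iff.1 c.2 : _)⟩,
          Subgroup.mem_centralizer_singleton_iff.2 (Subtype.ext ((hmemC _).1 c.1.2))⟩
        left_inv := fun c => rfl
        right_inv := fun c => rfl }
    rw [e, hk, Nat.card_congr (orbitEquivQuotientStabilizer C a), ← Subgroup.card_eq_card_quotient_mul_card_subgroup]
  have hGH : Nat.card G = p * Nat.card H := by
    rw [← F.card_omega, ← index_stabilizer_of_transitive G a, Subgroup.index_mul_card]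
  set c := ((classFinset t).card : ℕ) with hc
  set c' := ((classFinset t').card : ℕ) with hc'
  have hcm : c * k = p * c' := by
    have h1 := Subgroup.index_mul_card C
    rw [hCk, hGH, ← Subgroup.index_mul_card C', ← card_classFinset, ← card_classFinset, ← hc, ← hc'] at h1
    refine Nat.eq_of_mul_eq_mul_right (Nat.card_pos (α := C')) ?_
    rw [mul_assoc, h1]
    ring
  have hcm' : (c : ℂ) * k = (p : ℂ) * c' := by exact_mod_cast hcm
  have hGH' : (Nat.card G : ℂ) = (p : ℂ) * Nat.card H := by exact_mod_cast hGH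
  have hd'c : (d' : ℂ) = (q : ℂ) - 2 := by
    have := congrArg (fun n : ℤ => (n : ℂ)) hδ'.2
    push_cast at this
    exact this
  have hK1c : (K1 : ℂ) = (d : ℂ) - 1 := by
    have := congrArg (fun n : ℤ => (n : ℂ)) hs1.2
    push_cast at this
    exact this
  rw [hd'c] at hH'
  rw [hK1c, hGH'] at hG
  have hq2 : (q : ℂ) - 2 ≠ 0 := sub_ne_zero.2 fun e => by
    have : q = 2 := by exact_mod_cast e
    omega
  have hd0 : (d : ℂ) ≠ 0 := Nat.cast_ne_zero.2 (by omega)
  have hd1 : (d : ℂ) - 1 ≠ 0 := sub_ne_zero.2 fun e => by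
    have : d = 1 := by exact_mod_cast e
    omega
  have hc0 : (c' : ℂ) ≠ 0 := by
    intro e
    have : c' = 0 := by exact_mod_cast e
    exact Finset.notMem_empty t' ((Finset.card_eq_zero.1 this) ▸ mem_classFinset.2 (IsConj.refl t'))
  have hp0 : (p : ℂ) ≠ 0 := Nat.cast_ne_zero.2 (Fact.out : p.Prime).ne_zero
  push_cast at hG hH'
  field_simp at hG hH'
  have hfin : ((k : ℂ) ^ 2) * ((q : ℂ) - 1) * d * ((d : ℂ) - 1) =
      (p : ℂ) * ((U : ℂ) - ((d : ℂ) - 1)) ^ 2 * ((q : ℂ) - 2) := by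
    refine mul_left_cancel₀ (mul_ne_zero hp0 (pow_ne_zero 2 hc0)) ?_
    linear_combination ((k : ℂ) ^ 2 * ((q : ℂ) - 2)) * hG - ((p : ℂ) * (k : ℂ) ^ 2 * d * ((d : ℂ) - 1)) * hH' +
      (((c : ℂ) * k + p * c') * ((U : ℂ) - ((d : ℂ) - 1)) ^ 2 * ((q : ℂ) - 2)) * hcm'
  refine F.arith (m := (k : ℤ)) (U := U) (d := (d : ℤ)) (δd := (d : ℤ) - 1) hq11 hs (by exact_mod_cast hk1)
    (by exact_mod_cast hk3) ?_ (by exact_mod_cast hfin)
  rcases hdd with rfl | rfl
  · exact Or.inl ⟨by push_cast; ring, by rw [F.hpq]; push_cast; ring⟩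
  · exact Or.inr ⟨by push_cast; ring, by push_cast; ring⟩

end Frame

end Cfsg.Agent.ItoTwoQ
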