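import Cfsg.Agent.Lib.ItoTwoQ.FamilyBlocks
import Mathlib.Data.Nat.Prime.Basic
import Mathlib.Algebra.Order.BigOperators.Group.Finset
import Mathlib.Tactic.Linarith
import Mathlib.Tactic.NormNum.Prime
import Mathlib.Tactic.IntervalCases

/-!
Sums of the fixed-point counts over the fixers of up to three points, and the size of the design.
-/

set_option autoImplicit false
set_option linter.unusedSectionVars false
set_option linter.style.haveILetI false

namespace Cfsg.Agent.ItoTwoQ.Quad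

open MulAction Finset

universe u v

variable {G : Type u} [Group G] [Fintype G] {Ω : Type v} [MulAction G Ω] [Fintype Ω] [DecidableEq Ω]
  [DecidableEq G]

variable (Ω) in
/-- The number of fixed points. -/
def fp (g : G) : ℕ := (univ.filter fun x : Ω => g • x = x).card

variable (Ω) in
/-- The number of exchanged ordered pairs. -/
def sw (g : G) : ℕ := ∑ x : Ω, (univ.filter fun y : Ω => x ≠ y ∧ g • x = y ∧ g • y = x).card

variable (Ω) in
/-- Twice the count of fixed unordered pairs less the fixed points. -/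
def s2 (g : G) : ℤ := (fp Ω g : ℤ) ^ 2 - 3 * fp Ω g + sw Ω g

variable (G) in
/-- The elements exchanging two points. -/
def swc (L : Finset Ω) (x y : Ω) : Finset G :=
  (fixer G L).filter fun g => x ≠ y ∧ g • x = y ∧ g • y = x

variable (G) in
/-- The weight of a point over a triple. -/
def wt (T : Finset Ω) (x : Ω) : ℕ :=
  (∑ g ∈ fixer G (insert x T), fp Ω g) + ∑ y : Ω, (swc G T x y).card

theorem sum_mul_fp (L : Finset Ω) (φ : G → ℤ) :
    ∑ g ∈ fixer G L, φ g * fp Ω g = ∑ x : Ω, ∑ g ∈ fixer G (insert x L), φ g := by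
  calc ∑ g ∈ fixer G L, φ g * fp Ω g = ∑ g ∈ fixer G L, ∑ x : Ω, if g • x = x then φ g else 0 := by
        refine sum_congr rfl fun g _ => ?_
        rw [← sum_filter, sum_const, fp, nsmul_eq_mul, mul_comm]
    _ = _ := by
        rw [sum_comm]
        refine sum_congr rfl fun x _ => ?_
        rw [← sum_filter]
        refine sum_congr ?_ fun g _ => rfl
        ext g
        simp [mem_insert_fixer, and_comm]

theorem sum_fp_sub (L : Finset Ω) (φ : G → ℤ) :
    ∑ g ∈ fixer G L, φ g * ((fp Ω g : ℤ) - L.card) = ∑ x ∈ Lᶜ, ∑ g ∈ fixer G (insert x L), φ g := by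
  simp only [mul_sub, sum_sub_distrib, sum_mul_fp, ← sum_mul]
  rw [← sum_add_sum_compl L, sum_congr rfl fun x (hx : x ∈ L) => by rw [fixer_insert_mem (subset_cl L hx)],
    sum_const, nsmul_eq_mul]
  ring

theorem sum_fp (L : Finset Ω) :
    ∑ g ∈ fixer G L, (fp Ω g : ℤ) =
      L.card * (fixer G L).card + ∑ x ∈ Lᶜ, ((fixer G (insert x L)).card : ℤ) := by
  have h := sum_fp_sub (G := G) L fun _ => 1
  simp only [one_mul, sum_sub_distrib, sum_const, nsmul_eq_mul, mul_one] at h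
  linarith

theorem sum_fp_sq (L : Finset Ω) :
    ∑ g ∈ fixer G L, (fp Ω g : ℤ) ^ 2 = L.card * ∑ g ∈ fixer G L, (fp Ω g : ℤ) +
      ∑ x ∈ Lᶜ, ∑ g ∈ fixer G (insert x L), (fp Ω g : ℤ) := by
  have h := sum_fp_sub (G := G) L fun g => (fp Ω g : ℤ)
  simp only [mul_sub, sum_sub_distrib, ← sum_mul] at h
  rw [sum_congr rfl fun g _ => pow_two (fp Ω g : ℤ)]
  linarith

theorem swc_zero {L : Finset Ω} {x y : Ω} (h : x ∈ L ∨ y ∈ L) : (swc G L x y).card = 0 := by
  rw [card_eq_zero, swc, filter_eq_empty_iff]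
  rintro g hg ⟨hne, h1, h2⟩
  rcases h with h | h
  · exact hne ((mem_fixer.1 hg x h).symm.trans h1)
  · exact hne (h2.symm.trans (mem_fixer.1 hg y h))

theorem sum_sw (L : Finset Ω) :
    ∑ g ∈ fixer G L, (sw Ω g : ℤ) = ∑ x ∈ Lᶜ, ∑ y ∈ Lᶜ, ((swc G L x y).card : ℤ) := by
  have h1 : ∑ g ∈ fixer G L, sw Ω g = ∑ x : Ω, ∑ y : Ω, (swc G L x y).card := by
    simp only [sw, swc, card_filter]
    rw [sum_comm]
    exact sum_congr rfl fun x _ => sum_comm
  rw [← Nat.cast_sum, h1, Nat.cast_sum, ← sum_add_sum_compl L,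
    sum_eq_zero fun x (hx : x ∈ L) => by
      rw [Nat.cast_eq_zero]; exact sum_eq_zero fun y _ => swc_zero (Or.inl hx),
    zero_add]
  refine sum_congr rfl fun x _ => ?_
  rw [Nat.cast_sum, ← sum_add_sum_compl L, sum_eq_zero fun y (hy : y ∈ L) => by
    rw [swc_zero (Or.inr hy), Nat.cast_zero], zero_add]

theorem sum_s2 (L : Finset Ω) :
    ∑ g ∈ fixer G L, s2 Ω g = ∑ g ∈ fixer G L, (fp Ω g : ℤ) ^ 2 - 3 * ∑ g ∈ fixer G L, (fp Ω g : ℤ) +
      ∑ x ∈ Lᶜ, ∑ y ∈ Lᶜ, ((swc G L x y).card : ℤ) := by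
  simp only [s2, sum_add_distrib, sum_sub_distrib, ← mul_sum, sum_sw]

variable {q t e : ℕ}

namespace Pre

variable (Γ : Pre G Ω q t e)
include Γ

theorem q_pos : 2 ≤ q := by
  have := Γ.te
  have := Nat.mul_le_mul Γ.pos_e Γ.pos_t
  omega

theorem sum_next {L : Finset Ω} (hL : L.card ≤ 2) :
    ∑ x ∈ Lᶜ, ((fixer G (insert x L)).card : ℤ) = (fixer G L).card := by
  have hq := Γ.q_pos
  obtain ⟨x₀, hx₀⟩ := Γ.exists_fourth (L := L) (by omega)
  have h : ∀ x ∈ Lᶜ, (2 * q + 1 - L.card) * (fixer G (insert x L)).card = (fixer G L).card := fun x hx => by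
    rw [card_fixer_eq L x, Γ.orb_small hL (mem_compl.1 hx)]
  have hc : ∀ x ∈ Lᶜ, (fixer G (insert x L)).card = (fixer G (insert x₀ L)).card := fun x hx =>
    Nat.eq_of_mul_eq_mul_left (by omega) ((h x hx).trans (h x₀ (mem_compl.2 hx₀)).symm)
  rw [sum_congr rfl fun x hx => by rw [hc x hx], sum_const, nsmul_eq_mul, card_compl, Γ.card, ← Nat.cast_mul,
    h x₀ (mem_compl.2 hx₀)]

theorem swc_eq {L : Finset Ω} (hL : L.card = 1 ∨ L.card = 2) {x y : Ω} (hx : x ∉ L) (hy : y ∉ L)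
    (hxy : x ≠ y) : (swc G L x y).card = (fixer G (insert y (insert x L))).card := by
  obtain ⟨g, g1, g2, g3⟩ : ∃ g : G, g • x = y ∧ g • y = x ∧ g ∈ fixer G L := by
    rcases hL with hL | hL
    · obtain ⟨a, rfl⟩ := card_eq_one.1 hL
      obtain ⟨w, hw⟩ := Γ.exists_fourth (L := {x, y, a}) card_le_three
      simp only [mem_singleton] at hx hy
      simp only [mem_insert, mem_singleton, not_or] at hw
      obtain ⟨g, h1, h2, h3, -⟩ := Γ.swap4 x y a w hxy hx (Ne.symm hw.1) hy (Ne.symm hw.2.1) (Ne.symm hw.2.2)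
      exact ⟨g, h1, h2, mem_fixer.2 fun z hz => by rw [mem_singleton.1 hz]; exact h3⟩
    · obtain ⟨a, b, hab, rfl⟩ := card_eq_two.1 hL
      simp only [mem_insert, mem_singleton, not_or] at hx hy
      obtain ⟨g, h1, h2, h3, h4⟩ := Γ.swap4 x y a b hxy hx.1 hx.2 hy.1 hy.2 hab
      exact ⟨g, h1, h2, mem_fixer.2 fun z hz => by
        simp only [mem_insert, mem_singleton] at hz
        rcases hz with rfl | rfl <;> assumption⟩
  refine card_bij' (fun h _ => g⁻¹ * h) (fun h _ => g * h) ?_ ?_ ?_ ?_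
  · intro h hh
    simp only [swc, mem_filter] at hh
    refine mem_insert_fixer.2 ⟨?_, mem_insert_fixer.2 ⟨?_, mul_mem (inv_mem g3) hh.1⟩⟩
    · rw [mul_smul, hh.2.2.2, inv_smul_eq_iff, g2]
    · rw [mul_smul, hh.2.2.1, inv_smul_eq_iff, g1]
  · intro h hh
    obtain ⟨e1, hh'⟩ := mem_insert_fixer.1 hh
    obtain ⟨e2, e3⟩ := mem_insert_fixer.1 hh'
    simp only [swc, mem_filter]
    exact ⟨mul_mem g3 e3, hxy, by rw [mul_smul, e2, g1], by rw [mul_smul, e1, g2]⟩
  · intro h _; exact mul_inv_cancel_left g h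
  · intro h _; exact inv_mul_cancel_left g h

theorem sum_swc {L : Finset Ω} (hL : L.card = 1 ∨ L.card = 2) (x : Ω) (hx : x ∈ Lᶜ) :
    ∑ y ∈ Lᶜ, ((swc G L x y).card : ℤ) = ∑ y ∈ (insert x L)ᶜ, ((fixer G (insert y (insert x L))).card : ℤ) := by
  rw [← sum_erase_add _ _ hx, show ((swc G L x x).card : ℤ) = 0 by simp [swc], add_zero,
    show Lᶜ.erase x = (insert x L)ᶜ by ext; simp [not_or]]
  refine sum_congr rfl fun y hy => ?_
  simp only [mem_compl, mem_insert, not_or] at hy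
  rw [Γ.swc_eq hL (mem_compl.1 hx) hy.2 (Ne.symm hy.1)]

theorem total_one (a : Ω) : ∑ g ∈ fixer G {a}, s2 Ω g = 0 := by
  have hc : ∀ x ∈ ({a} : Finset Ω)ᶜ, (insert x ({a} : Finset Ω)).card = 2 := fun x hx =>
    card_pair (by simpa using hx)
  have h1 := sum_fp (G := G) ({a} : Finset Ω)
  rw [Γ.sum_next (by simp), card_singleton] at h1
  rw [sum_s2, sum_fp_sq, h1, card_singleton, sum_congr rfl fun x hx => by
    rw [sum_fp, hc x hx, Γ.sum_next (hc x hx).le],
    sum_congr (s₁ := ({a} : Finset Ω)ᶜ) (f := fun x => ∑ y ∈ ({a} : Finset Ω)ᶜ, ((swc G {a} x y).card : ℤ)) rfl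
      fun x hx => (Γ.sum_swc (Or.inl (card_singleton a)) x hx).trans (Γ.sum_next (hc x hx).le)]
  simp only [sum_add_distrib, ← mul_sum, Γ.sum_next (L := ({a} : Finset Ω)) (by simp)]
  push_cast
  ring

theorem total_two_of {o : ℕ} (ho : ∀ T : Finset Ω, T.card = 3 →
    ∑ x ∈ Tᶜ, ((fixer G (insert x T)).card : ℤ) = o * (fixer G T).card) {a b : Ω} (hab : a ≠ b) :
    ∑ g ∈ fixer G {b, a}, s2 Ω g = 2 * o * (fixer G {b, a}).card := by
  have hL : ({b, a} : Finset Ω).card = 2 := card_pair hab.symm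
  have hc : ∀ x ∈ ({b, a} : Finset Ω)ᶜ, (insert x ({b, a} : Finset Ω)).card = 3 := fun x hx => by
    rw [card_insert_of_notMem (mem_compl.1 hx), hL]
  have h1 := sum_fp (G := G) ({b, a} : Finset Ω)
  rw [Γ.sum_next hL.le, hL] at h1
  rw [sum_s2, sum_fp_sq, h1, hL, sum_congr rfl fun x hx => by
    rw [sum_fp, hc x hx, ho _ (hc x hx)],
    sum_congr (s₁ := ({b, a} : Finset Ω)ᶜ) (f := fun x => ∑ y ∈ ({b, a} : Finset Ω)ᶜ, ((swc G {b, a} x y).card : ℤ))
      rfl fun x hx => (Γ.sum_swc (Or.inr hL) x hx).trans (ho _ (hc x hx))]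
  simp only [sum_add_distrib, ← mul_sum, Γ.sum_next hL.le]
  push_cast
  ring

theorem univ_eq : fixer G (∅ : Finset Ω) = univ := by ext g; simp [mem_fixer]

theorem sum_one : ∑ a : Ω, ((fixer G {a}).card : ℤ) = (Nat.card G : ℤ) := by
  have h := Γ.sum_next (L := (∅ : Finset Ω)) (by simp)
  rw [compl_empty, Γ.univ_eq, card_univ, ← Nat.card_eq_fintype_card] at h
  simp only [insert_empty_eq] at h
  exact h

theorem first_sum : ∑ g : G, s2 Ω g * fp Ω g = 0 := by
  have h := sum_fp_sub (G := G) (∅ : Finset Ω) (s2 Ω)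
  rw [Γ.univ_eq, card_empty, compl_empty] at h
  simp only [Nat.cast_zero, sub_zero, insert_empty_eq, Γ.total_one] at h
  rw [h, sum_const_zero]

theorem second_sum {o : ℕ} (ho : ∀ T : Finset Ω, T.card = 3 →
    ∑ x ∈ Tᶜ, ((fixer G (insert x T)).card : ℤ) = o * (fixer G T).card) :
    ∑ g : G, s2 Ω g * (fp Ω g * ((fp Ω g : ℤ) - 1)) = 2 * o * Nat.card G := by
  have h := sum_fp_sub (G := G) (∅ : Finset Ω) fun g => s2 Ω g * ((fp Ω g : ℤ) - 1)
  rw [Γ.univ_eq, card_empty, compl_empty] at h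
  simp only [Nat.cast_zero, sub_zero, insert_empty_eq] at h
  rw [sum_congr rfl fun a _ => show ∑ g ∈ fixer G {a}, s2 Ω g * ((fp Ω g : ℤ) - 1) =
      2 * o * (fixer G {a}).card by
    have h' := sum_fp_sub (G := G) ({a} : Finset Ω) (s2 Ω)
    rw [card_singleton, Nat.cast_one] at h'
    rw [h', sum_congr rfl fun b hb => Γ.total_two_of ho (Ne.symm (by simpa using hb)), ← mul_sum,
      Γ.sum_next (L := ({a} : Finset Ω)) (by simp)]] at h
  rw [← mul_sum, Γ.sum_one] at h
  rw [← h]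
  exact sum_congr rfl fun g _ => by ring

/-- The orbit lengths from divisibility and the second moment. -/
theorem to_geo (hdvd : ∀ a b c d : Ω, a ≠ b → a ≠ c → a ≠ d → b ≠ c → b ≠ d → c ≠ d →
      2 * e ∣ (orb G {a, b, c} d).card)
    (hnorm : ∑ g : G, s2 Ω g * (fp Ω g : ℤ) ^ 2 = 2 * t * Nat.card G) : Geo G Ω q t e := by
  classical
  obtain ⟨a₀, -⟩ := Γ.exists_fourth (L := (∅ : Finset Ω)) (by simp)
  obtain ⟨b₀, hb₀⟩ := Γ.exists_fourth (L := ({a₀} : Finset Ω)) (by simp)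
  obtain ⟨c₀, hc₀⟩ := Γ.exists_fourth (L := ({a₀, b₀} : Finset Ω)) (card_le_two.trans (by norm_num))
  simp only [mem_insert, mem_singleton, not_or] at hb₀ hc₀
  set num : Finset Ω → ℕ := fun T => (Tᶜ.image fun x => orb G T x).card with hnum
  have hfib : ∀ (T : Finset Ω) (φ : Ω → ℕ), (∀ x ∈ Tᶜ, ∑ y ∈ orb G T x, φ y = (fixer G T).card) →
      ∑ x ∈ Tᶜ, φ x = num T * (fixer G T).card := by
    intro T φ hφ
    rw [← sum_fiberwise_of_maps_to (t := Tᶜ.image fun x => orb G T x) (g := fun x => orb G T x)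
      (fun x hx => mem_image_of_mem _ hx)]
    refine Finset.sum_const_nat fun o ho => ?_
    obtain ⟨x, hx, rfl⟩ := mem_image.1 ho
    rw [← hφ x hx]
    refine sum_congr ?_ fun _ _ => rfl
    ext y
    simp only [mem_filter, mem_compl]
    exact ⟨fun h => h.2 ▸ self_mem_orb T y, fun h => ⟨orb_not_mem (mem_compl.1 hx) h, orb_eq h⟩⟩
  have hsum : ∀ T : Finset Ω, ∑ x ∈ Tᶜ, (fixer G (insert x T)).card = num T * (fixer G T).card := by
    refine fun T => hfib T _ fun x hx => ?_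
    rw [Finset.sum_const_nat (m := (fixer G (insert x T)).card) fun y hy => ?_, ← card_fixer_eq]
    obtain ⟨k, hk, rfl⟩ := mem_orb.1 hy
    rw [← card_fixer_image (insert x T) k, image_insert]
    congr 3
    ext z
    simp only [mem_image]
    exact ⟨fun hz => ⟨z, hz, mem_fixer.1 hk z hz⟩, fun ⟨w, hw, e⟩ => e ▸ (mem_fixer.1 hk w hw).symm ▸ hw⟩
  have hnum0 : ∀ T : Finset Ω, T.card = 3 → num T = num {a₀, b₀, c₀} := by
    intro T hT
    obtain ⟨a, b, c, hab, hac, hbc, rfl⟩ := card_eq_three.1 hT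
    obtain ⟨g, g1, g2, g3⟩ := Γ.three a₀ b₀ c₀ a b c (Ne.symm hb₀) (Ne.symm hc₀.1) (Ne.symm hc₀.2) hab hac hbc
    have him : ({a, b, c} : Finset Ω) = ({a₀, b₀, c₀} : Finset Ω).image fun x => g • x := by
      simp [g1, g2, g3]
    refine Nat.eq_of_mul_eq_mul_right (fixer_pos (G := G) ({a, b, c} : Finset Ω)) ?_
    rw [← hsum]
    conv_rhs => rw [him, card_fixer_image, ← hsum]
    refine sum_bij' (fun x _ => g⁻¹ • x) (fun x _ => g • x) ?_ ?_ ?_ ?_ ?_
    · intro x hx
      refine mem_compl.2 fun h => mem_compl.1 hx ?_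
      rw [him]
      exact mem_image.2 ⟨_, h, smul_inv_smul g x⟩
    · intro x hx
      refine mem_compl.2 fun h => mem_compl.1 hx ?_
      rw [him] at h
      obtain ⟨w, hw, e⟩ := mem_image.1 h
      exact smul_left_cancel g e ▸ hw
    · intro x _; exact smul_inv_smul g x
    · intro x _; exact inv_smul_smul g x
    · intro x _
      rw [← card_fixer_image (insert (g⁻¹ • x) {a₀, b₀, c₀}) g, image_insert, smul_inv_smul, ← him]
  have ho : ∀ T : Finset Ω, T.card = 3 →
      ∑ x ∈ Tᶜ, ((fixer G (insert x T)).card : ℤ) = (num {a₀, b₀, c₀} : ℕ) * (fixer G T).card := by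
    intro T hT
    rw [← Nat.cast_sum, hsum, hnum0 T hT, Nat.cast_mul]
  have h2 := Γ.second_sum ho
  rw [show ∑ g : G, s2 Ω g * (fp Ω g * ((fp Ω g : ℤ) - 1)) =
      ∑ g : G, s2 Ω g * (fp Ω g : ℤ) ^ 2 - ∑ g : G, s2 Ω g * fp Ω g by
    rw [← sum_sub_distrib]; exact sum_congr rfl fun g _ => by ring, Γ.first_sum, sub_zero, hnorm] at h2
  have hot : num {a₀, b₀, c₀} = t := by
    have h3 : (2 * t * Nat.card G : ℕ) = 2 * num {a₀, b₀, c₀} * Nat.card G := by exact_mod_cast h2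
    have := Nat.eq_of_mul_eq_mul_right Nat.card_pos h3
    omega
  refine { toPre := Γ, orbit := fun a b c d hab hac had hbc hbd hcd => ?_ }
  have hT : ({a, b, c} : Finset Ω).card = 3 := by simp [hab, hac, hbc]
  set T : Finset Ω := {a, b, c} with hTe
  have hd : d ∈ Tᶜ := by simp [hTe, Ne.symm had, Ne.symm hbd, Ne.symm hcd]
  set J := Tᶜ.image fun x => orb G T x with hJ
  have hJc : J.card = t := (hnum0 T hT).trans hot
  have htot : ∑ o ∈ J, o.card = J.card * (2 * e) := by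
    have h := sum_fiberwise_of_maps_to (s := Tᶜ) (t := J) (g := fun x => orb G T x)
      (fun x hx => mem_image_of_mem _ hx) (fun _ => (1 : ℕ))
    simp only [sum_const, smul_eq_mul, mul_one, card_compl, Γ.card, hT] at h
    rw [hJc, show t * (2 * e) = 2 * q + 1 - 3 by
      rw [Γ.te, mul_comm e t, show t * (2 * e) = 2 * (t * e) by ring]; omega, ← h]
    refine sum_congr rfl fun o ho => ?_
    obtain ⟨x, hx, rfl⟩ := mem_image.1 ho
    congr 1
    ext y
    simp only [mem_filter, mem_compl]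
    exact ⟨fun h => ⟨orb_not_mem (mem_compl.1 hx) h, orb_eq h⟩, fun h => h.2 ▸ self_mem_orb T y⟩
  have hge : ∀ o ∈ J, 2 * e ≤ o.card := by
    intro o ho
    obtain ⟨x, hx, rfl⟩ := mem_image.1 ho
    simp only [hTe, mem_compl, mem_insert, mem_singleton, not_or] at hx
    exact Nat.le_of_dvd (card_pos.2 ⟨x, self_mem_orb _ x⟩)
      (hdvd a b c x hab hac (Ne.symm hx.1) hbc (Ne.symm hx.2.1) (Ne.symm hx.2.2))
  by_contra hne
  have hmem : orb G T d ∈ J := mem_image_of_mem _ hd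
  have := sum_lt_sum hge ⟨_, hmem, lt_of_le_of_ne (hge _ hmem) (Ne.symm hne)⟩
  rw [sum_const, smul_eq_mul, htot] at this
  exact lt_irrefl _ this

end Pre

namespace Geo

variable (Γ : Geo G Ω q t e)
include Γ

theorem sum_next_three {T : Finset Ω} (hT : T.card = 3) :
    ∑ x ∈ Tᶜ, ((fixer G (insert x T)).card : ℤ) = t * (fixer G T).card := by
  have hq := Γ.q_pos
  obtain ⟨x₀, hx₀⟩ := Γ.exists_fourth (L := T) (by omega)
  have h : ∀ x ∈ Tᶜ, 2 * e * (fixer G (insert x T)).card = (fixer G T).card := fun x hx => by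
    rw [card_fixer_eq T x, Γ.orb_three hT (mem_compl.1 hx)]
  have hc : ∀ x ∈ Tᶜ, (fixer G (insert x T)).card = (fixer G (insert x₀ T)).card := fun x hx =>
    Nat.eq_of_mul_eq_mul_left (by have := Γ.pos_e; omega) ((h x hx).trans (h x₀ (mem_compl.2 hx₀)).symm)
  rw [sum_congr rfl fun x hx => by rw [hc x hx], sum_const, nsmul_eq_mul, card_compl, Γ.card, hT,
    ← h x₀ (mem_compl.2 hx₀), ← Nat.cast_mul, ← Nat.cast_mul, Nat.cast_inj,
    show 2 * q + 1 - 3 = t * (2 * e) by rw [Γ.te, mul_comm e t, show t * (2 * e) = 2 * (t * e) by ring]; omega]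
  ring

theorem total_two {a b : Ω} (hab : a ≠ b) :
    ∑ g ∈ fixer G {b, a}, s2 Ω g = 2 * t * (fixer G {b, a}).card :=
  Γ.toPre.total_two_of (fun _ hT => Γ.sum_next_three hT) hab

theorem total_three {T : Finset Ω} (hT : T.card = 3) :
    ∑ g ∈ fixer G T, s2 Ω g = ∑ x ∈ Tᶜ, (wt G T x : ℤ) := by
  rw [sum_s2, sum_fp_sq, hT]
  simp only [wt, Nat.cast_add, Nat.cast_sum, sum_add_distrib]
  have : ∀ x ∈ Tᶜ, ∑ y ∈ Tᶜ, ((swc G T x y).card : ℤ) = ∑ y : Ω, ((swc G T x y).card : ℤ) := fun x _ => by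
    rw [← sum_add_sum_compl T, sum_eq_zero fun y (hy : y ∈ T) => by rw [swc_zero (Or.inr hy), Nat.cast_zero],
      zero_add]
  rw [sum_congr rfl this]
  push_cast
  ring

theorem two_mul_fixer_le (L : Finset Ω) (y : Ω) :
    2 * (fixer G (insert y L)).card ≤ (fixer G L).card + if y ∈ cl G L then (fixer G L).card else 0 := by
  split_ifs with h
  · rw [fixer_insert_mem h]; omega
  · rw [add_zero, card_fixer_eq L y]
    refine Nat.mul_le_mul_right _ ?_
    by_contra hlt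
    refine h (mem_cl.2 fun g hg => ?_)
    exact card_le_one.1 (by omega) _ (mem_orb.2 ⟨g, hg, rfl⟩) _ (self_mem_orb L y)

theorem wt_le (T : Finset Ω) (x : Ω) :
    2 * wt G T x ≤ (fixer G (insert x T)).card *
      ((2 * q + 1 + (cl G (insert x T)).card) + ((orb G T x).card - 1 + ((cl G (insert x T) ∩ orb G T x).card - 1))) := by
  set L := insert x T with hL
  set h := (fixer G L).card with hh
  rw [wt, mul_add 2, mul_add h]
  refine Nat.add_le_add ?_ ?_
  · have e : ∑ g ∈ fixer G L, fp Ω g = ∑ y : Ω, (fixer G (insert y L)).card := by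
      have := sum_mul_fp (G := G) L fun _ => 1
      simp only [one_mul, sum_const, nsmul_eq_mul, mul_one] at this
      exact_mod_cast this
    rw [← hL, e, mul_sum]
    refine (sum_le_sum fun y _ => two_mul_fixer_le Γ L y).trans ?_
    rw [sum_add_distrib, sum_const, card_univ, Γ.card, ← sum_filter, sum_const, filter_mem_eq_inter, univ_inter,
      smul_eq_mul, smul_eq_mul, ← hh]
    exact le_of_eq (by ring)
  · have hzero : ∀ y, y ∉ (orb G T x).erase x → (swc G T x y).card = 0 := by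
      intro y hy
      rw [card_eq_zero, swc, filter_eq_empty_iff]
      rintro g hg ⟨hne, h1, -⟩
      exact hy (mem_erase.2 ⟨Ne.symm hne, mem_orb.2 ⟨g, hg, h1⟩⟩)
    have hle : ∀ y, (swc G T x y).card ≤ (fixer G (insert y L)).card := by
      intro y
      rcases (swc G T x y).eq_empty_or_nonempty with e | ⟨g, hg⟩
      · simp [e]
      simp only [swc, mem_filter] at hg
      refine card_le_card_of_injOn (fun k => g⁻¹ * k) (fun k hk => ?_) fun a _ b _ e => mul_left_cancel e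
      simp only [swc, mem_coe, mem_filter] at hk ⊢
      refine mem_insert_fixer.2 ⟨?_, mem_insert_fixer.2 ⟨?_, mul_mem (inv_mem hg.1) hk.1⟩⟩
      · rw [mul_smul, hk.2.2.2, inv_smul_eq_iff, hg.2.2.2]
      · rw [mul_smul, hk.2.2.1, inv_smul_eq_iff, hg.2.2.1]
    rw [← sum_subset (subset_univ ((orb G T x).erase x)) fun y _ hy => hzero y hy, mul_sum]
    refine (sum_le_sum fun y _ => (Nat.mul_le_mul_left 2 (hle y)).trans (two_mul_fixer_le Γ L y)).trans ?_
    rw [sum_add_distrib, sum_const, card_erase_of_mem (self_mem_orb T x), ← sum_filter, sum_const,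
      filter_mem_eq_inter, erase_inter, inter_comm,
      card_erase_of_mem (mem_inter.2 ⟨subset_cl L (mem_insert_self x T), self_mem_orb T x⟩),
      smul_eq_mul, smul_eq_mul, ← hh]
    exact le_of_eq (by ring)

/-- The design is large. -/
theorem large {Sing : Finset G} (hS : q * Sing.card ≤ t * Nat.card G)
    (hsing : ∀ g ∈ Sing, fp Ω g = 1 ∧ sw Ω g = 0) (hreg : ∀ g, g ∉ Sing → 0 ≤ s2 Ω g)
    (hfaith : ∀ g : G, (∀ x : Ω, g • x = x) → g = 1) :
    ∃ n a u j : ℕ, 1 ≤ a ∧ 1 ≤ u ∧ 1 ≤ j ∧ j ≤ t ∧ n = a * j ∧ a * u = 2 * e ∧ n + 1 ∣ u * (2 * q - 1) ∧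
      2 * q ≤ n + a + 2 * e + 6 ∧
      (n + 2 = 2 * q → Nat.card G = (2 * q + 1) * (2 * q) * (2 * q - 1) * (2 * e)) := by
  have hq := Γ.q_pos
  have hN : ∑ g ∈ fixer G (∅ : Finset Ω), (1 : ℤ) = (Nat.card G : ℤ) := by
    rw [sum_const, nsmul_eq_mul, mul_one, Nat.card_eq_fintype_card, ← card_univ]
    congr 2
    ext g
    simp [mem_fixer]
  have hU : fixer G (∅ : Finset Ω) = univ := by ext g; simp [mem_fixer]
  -- the three sums
  have t1 := Γ.toPre.first_sum
  have t2 := Γ.toPre.second_sum (fun _ hT => Γ.sum_next_three hT)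
  have t3 : ∑ g : G, s2 Ω g * (fp Ω g * (((fp Ω g : ℤ) - 1) * ((fp Ω g : ℤ) - 2))) =
      ∑ a : Ω, ∑ b ∈ ({a} : Finset Ω)ᶜ, ∑ c ∈ ({b, a} : Finset Ω)ᶜ, ∑ x ∈ ({c, b, a} : Finset Ω)ᶜ,
        (wt G {c, b, a} x : ℤ) := by
    have h := sum_fp_sub (G := G) (∅ : Finset Ω) fun g => s2 Ω g * (((fp Ω g : ℤ) - 2) * ((fp Ω g : ℤ) - 1))
    rw [hU, card_empty, compl_empty] at h
    simp only [Nat.cast_zero, sub_zero, insert_empty_eq] at h
    rw [show ∑ g : G, s2 Ω g * (fp Ω g * (((fp Ω g : ℤ) - 1) * ((fp Ω g : ℤ) - 2))) =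
      ∑ g : G, s2 Ω g * (((fp Ω g : ℤ) - 2) * ((fp Ω g : ℤ) - 1)) * fp Ω g from
        sum_congr rfl fun g _ => by ring, h]
    refine sum_congr rfl fun a _ => ?_
    have h' := sum_fp_sub (G := G) ({a} : Finset Ω) fun g => s2 Ω g * ((fp Ω g : ℤ) - 2)
    rw [card_singleton, Nat.cast_one] at h'
    rw [sum_congr rfl fun g _ => (mul_assoc (s2 Ω g) _ _).symm, h']
    refine sum_congr rfl fun b hb => ?_
    have hb' : b ≠ a := by simpa using hb
    have h'' := sum_fp_sub (G := G) ({b, a} : Finset Ω) (s2 Ω)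
    rw [card_pair hb'] at h''
    rw [show ((2 : ℕ) : ℤ) = 2 from rfl] at h''
    rw [h'']
    refine sum_congr rfl fun c hc => Γ.total_three ?_
    rw [card_insert_of_notMem (mem_compl.1 hc), card_pair hb']
  -- the inequality
  have t0 : -(2 * (q : ℤ) * t * Nat.card G) ≤
      ∑ g : G, s2 Ω g * (fp Ω g * ((fp Ω g : ℤ) - (q + 1)) ^ 2) := by
    rw [← sum_add_sum_compl Sing]
    have h1 : ∑ g ∈ Sing, s2 Ω g * (fp Ω g * ((fp Ω g : ℤ) - (q + 1)) ^ 2) =
        -(2 * (q : ℤ) ^ 2 * Sing.card) := by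
      rw [sum_congr rfl fun g hg => show _ = -(2 * (q : ℤ) ^ 2) by
        obtain ⟨e1, e2⟩ := hsing g hg
        rw [s2, e1, e2]; push_cast; ring, sum_const, nsmul_eq_mul]
      ring
    have h2 : 0 ≤ ∑ g ∈ Singᶜ, s2 Ω g * (fp Ω g * ((fp Ω g : ℤ) - (q + 1)) ^ 2) :=
      sum_nonneg fun g hg => mul_nonneg (hreg g (mem_compl.1 hg)) (mul_nonneg (Nat.cast_nonneg _) (sq_nonneg _))
    have h3 : (q : ℤ) * Sing.card ≤ (t : ℤ) * Nat.card G := by exact_mod_cast hS
    have h4 := mul_le_mul_of_nonneg_left h3 (by positivity : (0 : ℤ) ≤ 2 * q)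
    rw [h1]
    nlinarith
  have t4 : (2 * ((q : ℤ) - 1)) * t * Nat.card G ≤
      ∑ g : G, s2 Ω g * (fp Ω g * (((fp Ω g : ℤ) - 1) * ((fp Ω g : ℤ) - 2))) := by
    have e : ∑ g : G, s2 Ω g * (fp Ω g * (((fp Ω g : ℤ) - 1) * ((fp Ω g : ℤ) - 2))) =
        ∑ g : G, s2 Ω g * (fp Ω g * ((fp Ω g : ℤ) - (q + 1)) ^ 2) +
          (2 * (q : ℤ) - 1) * ∑ g : G, s2 Ω g * (fp Ω g * ((fp Ω g : ℤ) - 1)) +
          (2 * (q : ℤ) - 1 + 2 - ((q : ℤ) + 1) ^ 2) * ∑ g : G, s2 Ω g * fp Ω g := by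
      rw [mul_sum, mul_sum, ← sum_add_distrib, ← sum_add_distrib]
      exact sum_congr rfl fun g _ => by ring
    rw [e, t1, t2]
    linarith
  -- some point is heavy
  obtain ⟨T, x, hT, hx, hbig⟩ : ∃ (T : Finset Ω) (x : Ω), T.card = 3 ∧ x ∉ T ∧
      2 * (q - 1) * (fixer G (insert x T)).card ≤ wt G T x := by
    by_contra hno
    push Not at hno
    obtain ⟨a₀, -⟩ := Γ.exists_fourth (L := (∅ : Finset Ω)) (by simp)
    have key : ∀ (a b c : Ω), b ≠ a → c ∉ ({b, a} : Finset Ω) →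
        ∑ x ∈ ({c, b, a} : Finset Ω)ᶜ, (wt G {c, b, a} x : ℤ) <
          (2 * ((q : ℤ) - 1) * t) * (fixer G {c, b, a}).card := by
      intro a b c hba hc
      have hT : ({c, b, a} : Finset Ω).card = 3 := by rw [card_insert_of_notMem hc, card_pair hba]
      rw [mul_assoc _ (t : ℤ), ← Γ.sum_next_three hT, mul_sum]
      obtain ⟨x, hx⟩ := Γ.exists_fourth (L := ({c, b, a} : Finset Ω)) hT.le
      refine sum_lt_sum_of_nonempty ⟨x, mem_compl.2 hx⟩ fun y hy => ?_
      have h := hno _ y hT (mem_compl.1 hy)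
      have h' : ((wt G {c, b, a} y : ℕ) : ℤ) < ((2 * (q - 1) * (fixer G (insert y {c, b, a})).card : ℕ) : ℤ) := by
        exact_mod_cast h
      rw [Nat.cast_mul, Nat.cast_mul, Nat.cast_sub (by omega)] at h'
      simpa using h'
    have hlt : ∑ a : Ω, ∑ b ∈ ({a} : Finset Ω)ᶜ, ∑ c ∈ ({b, a} : Finset Ω)ᶜ, ∑ x ∈ ({c, b, a} : Finset Ω)ᶜ,
        (wt G {c, b, a} x : ℤ) < (2 * ((q : ℤ) - 1) * t) * Nat.card G := by
      rw [← hN, show ∑ g ∈ fixer G (∅ : Finset Ω), (1 : ℤ) = ((fixer G (∅ : Finset Ω)).card : ℤ) by simp,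
        ← Γ.sum_next (L := (∅ : Finset Ω)) (by simp), compl_empty, mul_sum]
      refine sum_lt_sum_of_nonempty ⟨a₀, mem_univ _⟩ fun a _ => ?_
      rw [insert_empty_eq, ← Γ.sum_next (L := ({a} : Finset Ω)) (by simp), mul_sum]
      obtain ⟨b₀, hb₀⟩ := Γ.exists_fourth (L := ({a} : Finset Ω)) (by simp)
      refine sum_lt_sum_of_nonempty ⟨b₀, mem_compl.2 hb₀⟩ fun b hb => ?_
      have hba : b ≠ a := by simpa using hb
      rw [← Γ.sum_next (L := ({b, a} : Finset Ω)) (card_pair hba).le, mul_sum]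
      obtain ⟨c₀, hc₀⟩ := Γ.exists_fourth (L := ({b, a} : Finset Ω)) ((card_pair hba).le.trans (by norm_num))
      exact sum_lt_sum_of_nonempty ⟨c₀, mem_compl.2 hc₀⟩ fun c hc => key a b c hba (mem_compl.1 hc)
    rw [t3] at t4
    linarith
  obtain ⟨n, a, u, j, hn, ha, ha1, hu1, hj1, hjt, hna, hau, hdvd⟩ := Γ.design hT hx
  refine ⟨n, a, u, j, ha1, hu1, hj1, hjt, hna, hau, hdvd, ?_, fun hfull => ?_⟩
  · have h1 := Γ.wt_le T x
    rw [hn, ha, Γ.orb_three hT hx] at h1
    have h2 : (fixer G (insert x T)).card * (4 * (q - 1)) ≤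
        (fixer G (insert x T)).card * (2 * q + 1 + (n + 3) + (2 * e - 1 + (a - 1))) :=
      le_trans (le_of_eq (by ring)) ((Nat.mul_le_mul_left 2 hbig).trans h1)
    have h3 := Nat.le_of_mul_le_mul_left h2 (fixer_pos _)
    have := Γ.pos_e
    omega
  · have hcl : cl G (insert x T) = univ := eq_univ_of_card _ (by rw [hn, Γ.card]; omega)
    have h1 : (fixer G (insert x T)).card = 1 := card_eq_one.2 ⟨1, eq_singleton_iff_unique_mem.2 ⟨one_mem _,
      fun g hg => hfaith g fun y => mem_cl.1 (hcl ▸ mem_univ y) g hg⟩⟩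
    rw [← Γ.card_four (L := insert x T) (by rw [card_insert_of_notMem hx, hT]), h1, mul_one]

end Geo

/-- The arithmetic of the design. -/
theorem arith {q t e n a u j : ℕ} (hq : q.Prime) (hp : (2 * q + 1).Prime) (h23 : 23 ≤ q) (hte : q = e * t + 1)
    (ht : 2 ≤ t) (he : 2 ≤ e) (hu : 1 ≤ u) (hj : 1 ≤ j) (hjt : j ≤ t) (hna : n = a * j) (hau : a * u = 2 * e)
    (hdvd : n + 1 ∣ u * (2 * q - 1)) (hbig : 2 * q ≤ n + a + 2 * e + 6) : n + 2 = 2 * q := by
  have hq1 : 2 * q - 1 = 2 * e * t + 1 := by rw [hte, mul_assoc]; omega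
  rw [hq1] at hdvd
  subst hna
  rcases Nat.lt_or_ge u 2 with h1 | h2
  · obtain rfl : u = 1 := by omega
    rw [mul_one] at hau
    subst hau
    rw [one_mul] at hdvd
    obtain ⟨k, rfl⟩ := Nat.exists_eq_add_of_le hjt
    rcases Nat.eq_zero_or_pos k with rfl | hk
    · rw [hte]; ring
    exfalso
    have e2 : 2 * e * (j + k) + 1 = (2 * e * j + 1) + 2 * e * k := by ring
    rw [e2, Nat.dvd_add_right (dvd_refl _)] at hdvd
    have hco : (2 * e * j + 1).Coprime (2 * e) := by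
      rw [Nat.coprime_comm, add_comm, Nat.coprime_add_mul_left_right]
      exact Nat.coprime_one_right _
    have h3 := Nat.le_of_dvd hk (hco.dvd_of_dvd_mul_left hdvd)
    have h4 : e * k ≤ 2 * e + 2 := by
      rw [hte] at hbig
      ring_nf at hbig ⊢
      omega
    have h5 := Nat.mul_le_mul_right k he
    have h6 : 2 * 2 * 1 ≤ 2 * e * j := Nat.mul_le_mul (Nat.mul_le_mul_left 2 he) hj
    have h7 : k ≤ 3 := by nlinarith
    omega
  · exfalso
    have hae : a ≤ e := by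
      have := Nat.mul_le_mul_left a h2
      omega
    have hu5 : 2 * q ≤ a * (j + 1) + 2 * e + 6 := by rw [mul_add, mul_one]; omega
    have ht5 : t ≤ 5 := by
      by_contra hlt
      have h1 : a * (j + 1) ≤ e * (t + 1) := Nat.mul_le_mul hae (by omega)
      have h3 : e * 6 ≤ e * t := Nat.mul_le_mul_left e (by omega)
      rw [hte] at hu5
      rw [mul_add e t 1, mul_one] at h1
      omega
    have h1 : a * (j + 1) ≤ e * (t + 1) := Nat.mul_le_mul hae (by omega)
    interval_cases t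
    · -- two classes
      have he11 : 11 ≤ e := by omega
      have h3 : u * (2 * e) ≤ 2 * e * (j + 1) + 4 * u := by
        have : (2 * e * (j + 1)) = u * (a * (j + 1)) := by rw [← hau]; ring
        rw [this, mul_comm 4 u, ← mul_add]
        exact Nat.mul_le_mul_left u (by omega)
      have h4 : 2 * e * (j + 1) ≤ 2 * e * 3 := Nat.mul_le_mul_left _ (by omega)
      have h5 : u ≤ 3 := by
        by_contra hlt
        have : 4 * (2 * e) ≤ u * (2 * e) := Nat.mul_le_mul_right _ (by omega)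
        have : u * 22 ≤ u * (2 * e) := Nat.mul_le_mul_left _ (by omega)
        omega
      interval_cases u
      · -- two translates
        have : a = e := by omega
        subst this
        interval_cases j
        · have h6 : a + 1 ∣ 2 * (2 * a * 2 + 1) := by simpa using hdvd
          have h7 : a + 1 ∣ 8 * (a + 1) := dvd_mul_left _ _
          have h8 := Nat.dvd_sub h7 h6
          rw [show 8 * (a + 1) - 2 * (2 * a * 2 + 1) = 6 by omega] at h8
          have := Nat.le_of_dvd (by norm_num) h8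
          omega
        · have h7 : a * 2 + 1 ∣ 4 * (a * 2 + 1) := dvd_mul_left _ _
          have h8 := Nat.dvd_sub h7 hdvd
          rw [show 4 * (a * 2 + 1) - 2 * (2 * a * 2 + 1) = 2 by omega] at h8
          have := Nat.le_of_dvd (by norm_num) h8
          omega
      · -- three translates
        have h3d : 3 ∣ e := by omega
        have : 3 ∣ 2 * q + 1 := by omega
        rcases hp.eq_one_or_self_of_dvd 3 this with h | h <;> omega
    · have : 3 ∣ 2 * q + 1 := by omega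
      rcases hp.eq_one_or_self_of_dvd 3 this with h | h <;> omega
    · omega
    · omega

end Cfsg.Agent.ItoTwoQ.Quad
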