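import Cfsg.Agent.Lib.ItoTwoQ.Modes
import Cfsg.Agent.Lib.ItoTwoQ.FamilySums
import Cfsg.Agent.Lib.FGStruct.JordanCycle
import Cfsg.Agent.Lib.Char.Integral
import Cfsg.Agent.Lib.Perm.Burnside

/-!
The exceptional family on triply but not quadruply transitive groups of degree `2q + 1` is impossible.
-/

set_option autoImplicit false
set_option linter.unusedSectionVars false
set_option linter.style.haveILetI false

namespace Cfsg.Agent.ItoTwoQ

open MulAction Cfsg.Agent.Char
open Quad (fixer orb fp sw s2)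

universe u v

variable {G : Type u} [Group G] {Ω : Type v} [MulAction G Ω] [Fintype G] [Fintype Ω]

open scoped Classical in
theorem pc_eq_fp (g : G) : pc Ω g = (fp Ω g : ℂ) := by
  rw [pc, fp, Nat.cast_inj, Nat.card_eq_fintype_card, Fintype.card_subtype]
  rfl

open scoped Classical in
theorem two_rho_sub (g : G) : 2 * (rho Ω g - pc Ω g) = (s2 Ω g : ℂ) := by
  have h1 : ∑ x : Pr Ω, (if g • x = x then (1 : ℂ) else 0) = (fp Ω g : ℂ) * ((fp Ω g : ℂ) - 1) := by
    rw [← pc_eq, pc_Pr, pc_eq_fp]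
  have hsw : sw Ω g =
      ((Finset.univ : Finset (Ω × Ω)).filter fun v => v.1 ≠ v.2 ∧ g • v.1 = v.2 ∧ g • v.2 = v.1).card := by
    simp only [sw, Finset.card_filter, Fintype.sum_prod_type]
  have h2 : ∑ x : Pr Ω, (if g • x = swp x then (1 : ℂ) else 0) = (sw Ω g : ℂ) := by
    rw [Finset.sum_boole, Nat.cast_inj, hsw]
    refine Finset.card_bij (fun x _ => x.1) (fun x hx => ?_) (fun a _ b _ e => Subtype.ext e) fun v hv => ?_
    · rw [Finset.mem_filter] at hx ⊢
      exact ⟨Finset.mem_univ _, x.2, congrArg (fun y : Pr Ω => y.1.1) hx.2, congrArg (fun y : Pr Ω => y.1.2) hx.2⟩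
    · rw [Finset.mem_filter] at hv
      exact ⟨⟨v, hv.2.1⟩, Finset.mem_filter.2 ⟨Finset.mem_univ _, Pr.ext' hv.2.2.1 hv.2.2.2⟩, rfl⟩
  simp only [rho, tw, Finset.sum_add_distrib, Int.cast_one]
  rw [h1, h2, pc_eq_fp, s2]
  push_cast
  ring

variable {p q : ℕ} (F : Frame G Ω p q) [Fact p.Prime] [Fact q.Prime] [FaithfulSMul G Ω]
  [IsPretransitive G Ω] [F.Good]

namespace Frame

include F

/-- The number of elements of order divisible by `q`. -/
theorem sing_count {e : ℕ}
    (hH : ∀ i : ZMod q, i ≠ 0 → e ≤ Nat.card {k : (ZMod q)ˣ // IsConj (F.nel i 0) (F.nel ((k : ZMod q) * i) 0)})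
    [DecidableEq G] :
    e * (q * (Finset.univ.filter fun g : G => q ∣ orderOf g).card) ≤ (q - 1) * Nat.card G := by
  classical
  set Sing := Finset.univ.filter fun g : G => q ∣ orderOf g
  set I := (Finset.univ : Finset (ZMod q)).erase 0
  have hlow : ∀ g ∈ Sing, e ≤ (I.filter fun i => IsConj (F.nel i 0) g).card := by
    intro g hg
    obtain ⟨i, hi0, hi⟩ := F.sing_conj (Finset.mem_filter.1 hg).2
    refine (hH i hi0).trans ?_
    rw [← Fintype.card_coe, ← Nat.card_eq_fintype_card]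
    refine Nat.card_le_card_of_injective
      (fun k => ⟨(k.1 : ZMod q) * i, Finset.mem_filter.2 ⟨Finset.mem_erase.2
        ⟨mul_ne_zero k.1.ne_zero hi0, Finset.mem_univ _⟩, (IsConj.symm k.2).trans hi⟩⟩) fun a b h =>
      Subtype.ext (Units.ext (mul_right_cancel₀ hi0 (congrArg Subtype.val h)))
  have hup : ∀ i ∈ I, q * (Sing.filter fun g => IsConj (F.nel i 0) g).card ≤ Nat.card G := by
    intro i hi
    have hC : q ≤ Nat.card (Subgroup.centralizer ({F.nel i 0} : Set G)) := by
      refine Nat.le_of_dvd Nat.card_pos ?_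
      have h := Subgroup.orderOf_dvd_natCard (Subgroup.centralizer ({F.nel i 0} : Set G))
        (Subgroup.mem_centralizer_singleton_iff.2 rfl : F.nel i 0 ∈ _)
      rwa [F.orderOf_nel (Finset.ne_of_mem_erase hi)] at h
    rw [← Subgroup.index_mul_card (Subgroup.centralizer ({F.nel i 0} : Set G)), ← card_classFinset, mul_comm q]
    refine Nat.mul_le_mul (Finset.card_le_card fun g hg => mem_classFinset.2 (Finset.mem_filter.1 hg).2) hC
  calc e * (q * Sing.card) = ∑ g ∈ Sing, q * e := by rw [Finset.sum_const, smul_eq_mul]; ring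
    _ ≤ ∑ g ∈ Sing, q * (I.filter fun i => IsConj (F.nel i 0) g).card :=
        Finset.sum_le_sum fun g hg => Nat.mul_le_mul_left q (hlow g hg)
    _ = ∑ i ∈ I, q * (Sing.filter fun g => IsConj (F.nel i 0) g).card := by
        simp only [Finset.card_filter, Finset.mul_sum]
        exact Finset.sum_comm
    _ ≤ ∑ i ∈ I, Nat.card G := Finset.sum_le_sum hup
    _ = _ := by
        rw [Finset.sum_const, smul_eq_mul, Finset.card_erase_of_mem (Finset.mem_univ _), Finset.card_univ, ZMod.card]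

/-- The number of Sylow `p`-subgroups. -/
theorem card_sylow : ∃ m : ℕ, Nat.card G = m * (q * p) ∧ m % p = 1 := by
  classical
  set y1 := F.nel 0 1
  have hord : orderOf y1 = p := F.orderOf_nel' one_ne_zero
  obtain ⟨P, hP⟩ := (IsPGroup.of_card (n := 1) (p := p) (G := Subgroup.zpowers y1)
    (by rw [Nat.card_zpowers, hord, pow_one])).exists_le_sylow
  have hPc : Nat.card (P : Subgroup G) = p := PermPrime.sylow_card F.card_omega P
  have hPz : (P : Subgroup G) = Subgroup.zpowers y1 :=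
    (Subgroup.eq_of_le_of_card_ge hP (by rw [Nat.card_zpowers, hord, hPc])).symm
  have hmem : ∀ z, F.nel 0 z ∈ Subgroup.zpowers y1 := fun z =>
    ⟨(z.val : ℤ), show y1 ^ ((z.val : ℕ) : ℤ) = _ by
      rw [zpow_natCast, F.nel_pow', mul_one, ZMod.natCast_zmod_val]⟩
  have hof : ∀ g ∈ Subgroup.zpowers y1, ∃ z, g = F.nel 0 z := fun g hg => by
    obtain ⟨n, rfl⟩ := ((isOfFinOrder_of_finite _).mem_powers_iff_mem_zpowers).2 hg
    exact ⟨(n : ZMod p), by simp [y1, F.nel_pow']⟩
  have heq : Subgroup.normalizer ((P : Subgroup G) : Set G) = F.nsub := by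
    rw [hPz]
    ext g
    constructor
    · intro hg
      obtain ⟨c, hc⟩ := hof _ ((Subgroup.mem_normalizer_iff.1 hg y1).1 (Subgroup.mem_zpowers y1))
      obtain ⟨i, z, rfl⟩ := F.norm g c hc
      exact ⟨(i, z), rfl⟩
    · rintro ⟨⟨i, z⟩, rfl⟩
      refine Subgroup.mem_normalizer_iff.2 fun h => ⟨fun hh => ?_, fun hh => ?_⟩
      · obtain ⟨c, rfl⟩ := hof h hh
        rw [F.nel_conj]
        exact hmem _
      · obtain ⟨c, hc⟩ := hof _ hh
        have h3 : h = (F.nel i z)⁻¹ * F.nel 0 c * (F.nel i z)⁻¹⁻¹ := by rw [← hc]; group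
        rw [h3, F.nel_inv i z, F.nel_conj]
        exact hmem _
  refine ⟨(Subgroup.normalizer ((P : Subgroup G) : Set G)).index, ?_, ?_⟩
  · have h := (Subgroup.normalizer ((P : Subgroup G) : Set G)).index_mul_card
    conv_lhs at h => arg 2; rw [heq, Nat.card_congr F.nEquiv.symm, Nat.card_prod, Nat.card_zmod, Nat.card_zmod]
    exact h.symm
  · have h := card_sylow_modEq_one p G
    rw [P.card_eq_index_normalizer] at h
    exact Nat.mod_eq_of_modEq h (Fact.out : p.Prime).one_lt

/-- The degree twenty-three. -/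
theorem no_eleven {t e : ℕ} [DecidableEq G] [DecidableEq Ω] (Γ : Quad.Geo G Ω q t e) (hq : q = 11) (ht : 2 ≤ t)
    (he : 2 ≤ e) (hz : ∀ g : G, ¬ q ∣ orderOf g → (2 * t : ℤ) ∣ s2 Ω g) : False := by
  classical
  haveI : Fact (Nat.Prime 7) := ⟨by norm_num⟩
  have hp : p = 23 := by rw [F.hpq, hq]
  have hΩ : Fintype.card Ω = 23 := by rw [← Nat.card_eq_fintype_card, F.card_omega, hp]
  have h7 : 7 ∣ Nat.card G := by
    have hne : ∀ i j : ZMod p, i ≠ j → F.e i ≠ F.e j := fun i j h h' => h (F.e.injective h')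
    have e2 : (2 : ZMod p) ≠ 0 := F.two_ne
    have h := Γ.toPre.card_three' (a := F.e 0) (b := F.e 1) (c := F.e 2) (hne _ _ zero_ne_one)
      (hne _ _ e2.symm) (hne _ _ fun e => one_ne_zero (α := ZMod p) (by linear_combination -e))
    rw [← h]
    refine Dvd.dvd.mul_right ?_ _
    rw [show (2 * q + 1) * (2 * q) * (2 * q - 1) = 23 * 22 * 21 from by simp only [hq]]
    norm_num
  obtain ⟨g, hg⟩ := exists_prime_orderOf_dvd_card' 7 h7
  have hgq : ¬ q ∣ orderOf g := by rw [hg, hq]; norm_num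
  have hg1 : g ≠ 1 := fun e => by rw [e, orderOf_one] at hg; omega
  -- the fixed points
  have hf : fp Ω g % 7 = 2 := by
    have h := (IsPGroup.of_card (n := 1) (p := 7) (G := Subgroup.zpowers g)
      (by rw [Nat.card_zpowers, hg, pow_one])).card_modEq_card_fixedPoints Ω
    have hfx : Nat.card (fixedPoints (Subgroup.zpowers g) Ω) = fp Ω g := by
      rw [fp, ← Fintype.card_subtype, ← Nat.card_eq_fintype_card]
      refine Nat.card_congr (Equiv.subtypeEquivRight fun x => ⟨fun h => h ⟨g, Subgroup.mem_zpowers g⟩, ?_⟩)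
      rintro h ⟨c, hc⟩
      obtain ⟨n, rfl⟩ := Subgroup.mem_zpowers_iff.1 hc
      exact (mem_stabilizer_iff (G := G) (a := x)).1 (zpow_mem (mem_stabilizer_iff.2 h) n)
    rw [hfx, Nat.card_eq_fintype_card, hΩ] at h
    exact h.symm
  have hsw : sw Ω g = 0 := by
    rw [sw]
    refine Finset.sum_eq_zero fun x _ => Finset.card_eq_zero.2 (Finset.filter_eq_empty_iff.2 ?_)
    rintro y - ⟨hne, h1, h2⟩
    have hg2 : (g * g) • x = x := by rw [mul_smul, h1, h2]
    have h8 : g = (g * g) ^ 4 := by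
      rw [← pow_two, ← pow_mul, show 2 * 4 = 7 + 1 from rfl, pow_succ, ← hg, pow_orderOf_eq_one, one_mul]
    refine hne ?_
    rw [← h1, h8]
    exact (mem_stabilizer_iff.1 (pow_mem (mem_stabilizer_iff.2 hg2) 4)).symm
  have hfle : fp Ω g ≤ 23 := hΩ ▸ Finset.card_le_univ _
  have hflt : fp Ω g ≠ 23 := fun h => hg1 (by
    have hu : (Finset.univ.filter fun x : Ω => g • x = x) = Finset.univ :=
      Finset.eq_univ_of_card _ (by rw [hΩ]; exact h)
    refine FaithfulSMul.eq_of_smul_eq_smul fun x : Ω => ?_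
    rw [one_smul]
    have hm : x ∈ Finset.univ.filter fun x : Ω => g • x = x := by rw [hu]; exact Finset.mem_univ x
    exact (Finset.mem_filter.1 hm).2)
  have hs := hz g hgq
  rw [s2, hsw] at hs
  have hte := Γ.te
  rw [hq] at hte
  have hte' : e * t = 10 := by omega
  have ht5 : t ≤ 5 := by
    have := Nat.mul_le_mul_right t he
    omega
  have hsol : fp Ω g = 16 ∧ t = 2 := by
    rcases (by omega : fp Ω g = 2 ∨ fp Ω g = 9 ∨ fp Ω g = 16) with e1 | e1 | e1 <;> rw [e1] at hs ⊢ <;>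
      interval_cases t <;> first | exact ⟨rfl, rfl⟩ | omega
  obtain ⟨hf16, rfl⟩ := hsol
  -- a seven cycle
  let φ := MulAction.toPermHom G Ω
  have hinj : Function.Injective φ := fun a b h =>
    FaithfulSMul.eq_of_smul_eq_smul fun x : Ω => Equiv.congr_fun h x
  have hord : orderOf (φ g) = 7 := (orderOf_injective φ hinj g).trans hg
  have hsupp : (φ g).support.card = 7 := by
    have h1 : (φ g).support = (Finset.univ.filter fun x : Ω => g • x = x)ᶜ := by
      ext x; simp [φ, Equiv.Perm.mem_support]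
    rw [h1, Finset.card_compl, hΩ]
    change 23 - fp Ω g = 7
    omega
  haveI : IsPretransitive φ.range Ω := ⟨fun a b => by
    obtain ⟨h, hh⟩ := MulAction.exists_smul_eq G a b
    exact ⟨⟨φ h, h, rfl⟩, hh⟩⟩
  have hprim : IsPreprimitive φ.range Ω :=
    IsPreprimitive.of_prime_card (by rw [F.card_omega]; exact Fact.out)
  have halt := JordanCycle.alternatingGroup_le_of_prime_cycle hprim (p := 7) (by norm_num) (by rw [hΩ]; norm_num)
    (Equiv.Perm.isCycle_of_prime_order (by rw [hord]; norm_num) (by rw [hord, hsupp]; norm_num)) hsupp ⟨g, rfl⟩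
  -- the fixer of three points is transitive on the rest
  obtain ⟨T, hT⟩ : ∃ T : Finset Ω, T.card = 3 := by
    obtain ⟨T, -, h⟩ := Finset.exists_subset_card_eq (s := (Finset.univ : Finset Ω)) (n := 3)
      (by rw [Finset.card_univ, hΩ]; norm_num)
    exact ⟨T, h⟩
  obtain ⟨d, hd⟩ := Γ.toPre.exists_fourth (L := T) hT.le
  have horb : orb G T d = Tᶜ := by
    ext d'
    rw [Finset.mem_compl]
    refine ⟨fun h => Quad.orb_not_mem hd h, fun hd' => ?_⟩
    by_cases hdd : d = d'
    · exact hdd ▸ Quad.self_mem_orb T d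
    obtain ⟨u, hu, u', hu', huu⟩ := Finset.one_lt_card.1 (show 1 < (insert d (insert d' T))ᶜ.card by
      rw [Finset.card_compl, hΩ]
      have := (Finset.card_insert_le d (insert d' T)).trans (Nat.add_le_add_right (Finset.card_insert_le d' T) 1)
      omega)
    simp only [Finset.mem_compl, Finset.mem_insert, not_or] at hu hu'
    obtain ⟨h, hh⟩ := halt (show Equiv.swap d d' * Equiv.swap u u' ∈ alternatingGroup Ω by
      rw [Equiv.Perm.mem_alternatingGroup, map_mul, Equiv.Perm.sign_swap hdd, Equiv.Perm.sign_swap huu]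
      rfl)
    have hv : ∀ z, h • z = Equiv.swap d d' (Equiv.swap u u' z) := fun z => Equiv.congr_fun hh z
    refine Quad.mem_orb.2 ⟨h, Quad.mem_fixer.2 fun z hz => ?_, ?_⟩
    · have n1 : ∀ w, w ∉ T → z ≠ w := fun w hw e => hw (e ▸ hz)
      rw [hv, Equiv.swap_apply_of_ne_of_ne (n1 u hu.2.2) (n1 u' hu'.2.2),
        Equiv.swap_apply_of_ne_of_ne (n1 d hd) (n1 d' hd')]
    · rw [hv, Equiv.swap_apply_of_ne_of_ne (Ne.symm hu.1) (Ne.symm hu'.1), Equiv.swap_apply_left]
  have h := Γ.orb_three hT hd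
  rw [horb, Finset.card_compl, hΩ, hT] at h
  omega

set_option maxHeartbeats 1000000 in
/-- Case (C), the family. -/
theorem false_of_family (h3 : IsMultiplyPretransitive G Ω 3)
    (hsym : ∀ v : Fin 4 → Ω, Function.Injective v → ∀ π : Equiv.Perm (Fin 4), ∃ g : G, ∀ i, g • v i = v (π i))
    {t e : ℕ} (ht : 2 ≤ t) (he : 2 ≤ e) (hte : e * t = q - 1)
    (hH : ∀ i : ZMod q, i ≠ 0 → e ≤ Nat.card {k : (ZMod q)ˣ // IsConj (F.nel i 0) (F.nel ((k : ZMod q) * i) 0)})
    (hdvd : ∀ a b c d : Ω, a ≠ b → a ≠ c → a ≠ d → b ≠ c → b ≠ d → c ≠ d →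
      2 * e ∣ Nat.card (orbit ↥(stabilizer G a ⊓ stabilizer G b ⊓ stabilizer G c) d))
    (hnorm : ∑ g : G, (rho Ω g - pc Ω g) * pc Ω g ^ 2 = t * Nat.card G)
    (hdiv : ∀ g : G, ¬ q ∣ orderOf g → ∃ z : ℂ, IsIntegral ℤ z ∧ rho Ω g - pc Ω g = t * z) : False := by
  classical
  have hq11 := F.hq
  have hpq := F.hpq
  have hΩ : Fintype.card Ω = 2 * q + 1 := by rw [← Nat.card_eq_fintype_card, F.card_omega, hpq]
  have hte' : q = e * t + 1 := by omega
  -- the geometry
  have hpre : Quad.Pre G Ω q t e :=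
    { card := hΩ
      te := hte'
      pos_t := by omega
      pos_e := by omega
      three := fun a b c a' b' c' hab hac hbc hab' hac' hbc' => by
        haveI := h3
        let v : Fin 3 ↪ Ω := ⟨![a, b, c], by intro i j h; fin_cases i <;> fin_cases j <;> simp_all [eq_comm]⟩
        let w : Fin 3 ↪ Ω := ⟨![a', b', c'], by intro i j h; fin_cases i <;> fin_cases j <;> simp_all [eq_comm]⟩
        obtain ⟨g, hg⟩ := MulAction.exists_smul_eq G v w
        exact ⟨g, DFunLike.congr_fun hg 0, DFunLike.congr_fun hg 1, DFunLike.congr_fun hg 2⟩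
      swap4 := fun a b c d hab hac had hbc hbd hcd => by
        obtain ⟨g, hg⟩ := hsym ![a, b, c, d] (by intro i j h; fin_cases i <;> fin_cases j <;> simp_all [eq_comm])
          (Equiv.swap 0 1)
        have e2 : (Equiv.swap (0 : Fin 4) 1) 2 = 2 := by decide
        have e3 : (Equiv.swap (0 : Fin 4) 1) 3 = 3 := by decide
        have g2 := hg 2
        have g3 := hg 3
        rw [e2] at g2
        rw [e3] at g3
        exact ⟨g, by simpa using hg 0, by simpa using hg 1, g2, g3⟩ }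
  have Γ : Quad.Geo G Ω q t e := by
    refine hpre.to_geo (fun a b c d hab hac had hbc hbd hcd => ?_) ?_
    · refine (hdvd a b c d hab hac had hbc hbd hcd).trans (dvd_of_eq ?_)
      rw [← Fintype.card_coe, ← Nat.card_eq_fintype_card]
      refine Nat.card_congr (Equiv.subtypeEquivRight fun x => ?_)
      rw [mem_orbit_iff, Quad.mem_orb]
      constructor
      · rintro ⟨⟨g, hg⟩, rfl⟩
        simp only [Subgroup.mem_inf, mem_stabilizer_iff] at hg
        refine ⟨g, Quad.mem_fixer.2 fun z hz => ?_, rfl⟩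
        simp only [Finset.mem_insert, Finset.mem_singleton] at hz
        rcases hz with rfl | rfl | rfl
        exacts [hg.1.1, hg.1.2, hg.2]
      · rintro ⟨g, hg, rfl⟩
        refine ⟨⟨g, ?_⟩, rfl⟩
        simp only [Subgroup.mem_inf, mem_stabilizer_iff]
        have hg' := Quad.mem_fixer.1 hg
        exact ⟨⟨hg' a (by simp), hg' b (by simp)⟩, hg' c (by simp)⟩
    · have h2 : ((∑ g : G, s2 Ω g * (fp Ω g : ℤ) ^ 2 : ℤ) : ℂ) = ((2 * t * Nat.card G : ℤ) : ℂ) := by
        push_cast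
        rw [mul_assoc, ← hnorm, Finset.mul_sum]
        refine Finset.sum_congr rfl fun g _ => ?_
        rw [← two_rho_sub, pc_eq_fp]
        ring
      exact_mod_cast h2
  -- divisibility
  have hz : ∀ g : G, ¬ q ∣ orderOf g → (2 * t : ℤ) ∣ s2 Ω g := by
    intro g hg
    obtain ⟨z, hzi, hz⟩ := hdiv g hg
    have ht0 : (t : ℂ) ≠ 0 := Nat.cast_ne_zero.2 (by omega)
    have hzr : z = (((s2 Ω g : ℚ) / (2 * t) : ℚ) : ℂ) := by
      push_cast
      rw [← two_rho_sub, hz]
      field_simp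
    obtain ⟨m, hm⟩ := exists_int_of_isIntegral (hzr ▸ hzi)
    refine ⟨m, ?_⟩
    have ht0' : (2 * t : ℚ) ≠ 0 := by
      have : (0 : ℚ) < t := by exact_mod_cast (by omega : 0 < t)
      linarith
    rw [div_eq_iff ht0'] at hm
    have : (s2 Ω g : ℚ) = ((2 * t * m : ℤ) : ℚ) := by rw [hm]; push_cast; ring
    exact_mod_cast this
  set Sing := Finset.univ.filter fun g : G => q ∣ orderOf g with hSing
  have hsing : ∀ g ∈ Sing, fp Ω g = 1 ∧ sw Ω g = 0 := by
    intro g hg
    obtain ⟨i, hi0, hi⟩ := F.sing_conj (Finset.mem_filter.1 hg).2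
    obtain ⟨c, rfl⟩ := isConj_iff.1 hi
    have hne : F.nel i 0 ≠ 1 := fun e => hi0 (F.nel_inj (e.trans F.nel_zero.symm)).1
    have hpc : pc Ω (c * F.nel i 0 * c⁻¹) = (1 : ℂ) := by
      rw [show pc Ω (c * F.nel i 0 * c⁻¹) = pc Ω (F.nel i 0) from
        IsCharacter.isClassFunction isCharacter_pc (F.nel i 0) c]
      rw [pc, F.fixed_count, if_neg hi0, Nat.cast_one]
    have hrho : rho Ω (c * F.nel i 0 * c⁻¹) = (0 : ℂ) := by
      rw [show rho Ω (c * F.nel i 0 * c⁻¹) = rho Ω (F.nel i 0) from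
        IsCharacter.isClassFunction isCharacter_rho (F.nel i 0) c, rho, F.tw_nel hne, mul_zero]
    have hfp : fp Ω (c * F.nel i 0 * c⁻¹) = 1 := by
      rw [pc_eq_fp] at hpc
      exact_mod_cast hpc
    refine ⟨hfp, ?_⟩
    have h := two_rho_sub (Ω := Ω) (c * F.nel i 0 * c⁻¹)
    rw [hrho, hpc, s2, hfp] at h
    have h' : (2 * (0 - 1) : ℤ) = (1 : ℤ) ^ 2 - 3 * 1 + sw Ω (c * F.nel i 0 * c⁻¹) := by
      push_cast at h
      exact_mod_cast h
    omega
  have hreg : ∀ g : G, g ∉ Sing → 0 ≤ s2 Ω g := by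
    intro g hg
    obtain ⟨m, hm⟩ := hz g fun h => hg (Finset.mem_filter.2 ⟨Finset.mem_univ _, h⟩)
    have hlow : -2 ≤ s2 Ω g := by
      rw [s2]
      rcases (by omega : fp Ω g ≤ 2 ∨ 3 ≤ fp Ω g) with h | h
      · interval_cases hfe : fp Ω g <;> push_cast <;> omega
      · have h1 : (3 : ℤ) ≤ (fp Ω g : ℤ) := by exact_mod_cast h
        nlinarith
    rw [hm] at hlow ⊢
    have ht2 : (2 : ℤ) ≤ t := by exact_mod_cast ht
    rcases le_or_gt 0 m with h | h
    · positivity
    · exfalso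
      nlinarith
  have hS : q * Sing.card ≤ t * Nat.card G := by
    refine Nat.le_of_mul_le_mul_left (c := e) ?_ (by omega)
    rw [← mul_assoc e t, hte]
    exact F.sing_count hH
  obtain ⟨n, a, u, j, -, hu1, hj1, hjt, hna, hau, hdvd, hbig, hfull⟩ :=
    Γ.large hS hsing hreg fun g hg => FaithfulSMul.eq_of_smul_eq_smul fun x : Ω => by rw [hg x, one_smul]
  by_cases h23 : 23 ≤ q
  · have hn := Quad.arith (Fact.out : q.Prime) (hpq ▸ (Fact.out : p.Prime)) h23 hte' ht he hu1 hj1 hjt hna hau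
      hdvd hbig
    have hN := hfull hn
    obtain ⟨m, hm, hm1⟩ := F.card_sylow
    rw [hm, hpq] at hN
    have hmq : m = 4 * e * (2 * q - 1) := by
      refine Nat.eq_of_mul_eq_mul_right (m := q * (2 * q + 1)) (Nat.mul_pos (by omega) (by omega)) ?_
      rw [hN]
      ring
    have h4 : (8 * e + 1) % p = 0 := by
      have e1 : (m + 8 * e) % p = 0 := by
        rw [hmq, hpq, show 4 * e * (2 * q - 1) + 8 * e = 4 * e * (2 * q + 1) by
          obtain ⟨r, rfl⟩ : ∃ r, q = r + 1 := ⟨q - 1, by omega⟩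
          rw [show 2 * (r + 1) - 1 = 2 * r + 1 by omega]; ring]
        exact Nat.mul_mod_left _ _
      rw [Nat.add_mod, hm1] at e1
      rwa [add_comm (8 * e) 1, Nat.add_mod, Nat.one_mod_eq_one.2 (Fact.out : p.Prime).ne_one]
    obtain ⟨k, hk⟩ := Nat.dvd_of_mod_eq_zero h4
    have hke : e * 2 ≤ e * t := Nat.mul_le_mul_left e ht
    have hk1 : k = 1 := by
      rcases Nat.lt_or_ge k 2 with h | h
      · rcases Nat.eq_zero_or_pos k with rfl | hk0
        · omega
        · omega
      · have := Nat.mul_le_mul_left p h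
        omega
    rw [hk1, mul_one, hpq] at hk
    have hq4 : 2 ∣ q := ⟨2 * e, by omega⟩
    rcases (Fact.out : q.Prime).eq_one_or_self_of_dvd 2 hq4 with h | h <;> omega
  · have hp' := (Fact.out : p.Prime)
    have hq' := (Fact.out : q.Prime)
    have hq11' : q = 11 := by
      rw [hpq] at hp'
      interval_cases q <;> first | rfl | (exfalso; revert hp' hq'; norm_num; done)
    exact F.no_eleven Γ hq11' ht he hz

end Frame

end Cfsg.Agent.ItoTwoQ
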