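import Cfsg.Agent.Lib.ItoTwoQ.Quads
import Cfsg.Agent.Lib.ItoTwoQ.FamilyCount

/-!
Triply transitive groups of degree `2q + 1` are quadruply transitive.
-/

set_option autoImplicit false
set_option linter.unusedSectionVars false
set_option linter.style.haveILetI false

namespace Cfsg.Agent.ItoTwoQ

open MulAction Cfsg.Agent.Char
open scoped ComplexConjugate

universe u v

variable {G : Type u} [Group G] {Ω : Type v} [MulAction G Ω] [Fintype G] [Fintype Ω]
variable {p q : ℕ} (F : Frame G Ω p q) [Fact p.Prime] [Fact q.Prime] [FaithfulSMul G Ω]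
  [IsPretransitive G Ω] [F.Good]

namespace Frame

include F

variable (h3 : IsMultiplyPretransitive G Ω 3) (hins : ¬ Group.IsSolvable G)
  (hH : ∃ k ∈ F.hGroup, k ≠ 1)

include h3 hins hH

theorem four_of_orbit (h : ∀ a b c d : Ω, a ≠ b → a ≠ c → a ≠ d → b ≠ c → b ≠ d → c ≠ d →
    2 * (q - 1) ∣ Nat.card (orbit ↥(stabilizer G a ⊓ stabilizer G b ⊓ stabilizer G c) d)) :
    IsMultiplyPretransitive G Ω 4 := by
  classical
  rw [isMultiplyPretransitive_iff]
  intro x y
  obtain ⟨g, g0, g1, g2⟩ := exists_triple h3 (x.injective.ne (show (0 : Fin 4) ≠ 1 by decide))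
    (x.injective.ne (show (0 : Fin 4) ≠ 2 by decide)) (x.injective.ne (show (1 : Fin 4) ≠ 2 by decide))
    (y.injective.ne (show (0 : Fin 4) ≠ 1 by decide)) (y.injective.ne (show (0 : Fin 4) ≠ 2 by decide))
    (y.injective.ne (show (1 : Fin 4) ≠ 2 by decide))
  set H := stabilizer G (y 0) ⊓ stabilizer G (y 1) ⊓ stabilizer G (y 2)
  have hd : ∀ z, z ≠ y 0 → z ≠ y 1 → z ≠ y 2 → z ∈ orbit H (g • x 3) := by
    have hne : ∀ i : Fin 4, i ≠ 3 → g • x i ≠ g • x 3 := fun i hi e => hi (x.injective (smul_left_cancel g e))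
    have hx3 : (g • x 3) ≠ y 0 ∧ (g • x 3) ≠ y 1 ∧ (g • x 3) ≠ y 2 :=
      ⟨fun e => hne 0 (by decide) (g0.trans e.symm), fun e => hne 1 (by decide) (g1.trans e.symm),
        fun e => hne 2 (by decide) (g2.trans e.symm)⟩
    have h' := h _ _ _ (g • x 3) (y.injective.ne (show (0 : Fin 4) ≠ 1 by decide))
      (y.injective.ne (show (0 : Fin 4) ≠ 2 by decide)) hx3.1.symm
      (y.injective.ne (show (1 : Fin 4) ≠ 2 by decide)) hx3.2.1.symm hx3.2.2.symm
    have hpos : 0 < Nat.card (orbit H (g • x 3)) :=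
      Nat.card_pos_iff.2 ⟨⟨⟨_, mem_orbit_self _⟩⟩, inferInstance⟩
    have h2 := Nat.le_of_dvd hpos h'
    have hsub : (orbit H (g • x 3)).toFinset ⊆ Finset.univ \ {y 0, y 1, y 2} := by
      intro z hz
      rw [Set.mem_toFinset] at hz
      obtain ⟨⟨k, ⟨⟨ka, kb⟩, kc⟩⟩, rfl⟩ := hz
      simp only [Finset.mem_sdiff, Finset.mem_univ, true_and, Finset.mem_insert, Finset.mem_singleton, not_or]
      refine ⟨fun e => hx3.1 ?_, fun e => hx3.2.1 ?_, fun e => hx3.2.2 ?_⟩
      · exact smul_left_cancel k (e.trans (mem_stabilizer_iff.1 ka).symm)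
      · exact smul_left_cancel k (e.trans (mem_stabilizer_iff.1 kb).symm)
      · exact smul_left_cancel k (e.trans (mem_stabilizer_iff.1 kc).symm)
    have hcard : (Finset.univ \ ({y 0, y 1, y 2} : Finset Ω)).card ≤ 2 * (q - 1) := by
      rw [Finset.card_univ_sdiff, Finset.card_eq_three.2 ⟨y 0, y 1, y 2, y.injective.ne (by decide),
        y.injective.ne (by decide), y.injective.ne (by decide), rfl⟩, ← Nat.card_eq_fintype_card, F.card_omega,
        F.hpq]
      omega
    rw [Nat.card_eq_card_toFinset] at h2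
    have := Finset.eq_of_subset_of_card_le hsub (hcard.trans h2)
    intro z z0 z1 z2
    rw [← Set.mem_toFinset, this]
    simp [z0, z1, z2]
  obtain ⟨⟨k, ⟨⟨ka, kb⟩, kc⟩⟩, hk⟩ := hd (y 3) (y.injective.ne (by decide)) (y.injective.ne (by decide))
    (y.injective.ne (by decide))
  refine ⟨k * g, Function.Embedding.ext fun i => ?_⟩
  rw [Function.Embedding.smul_apply, mul_smul]
  fin_cases i
  · exact (congrArg (k • ·) g0).trans ka
  · exact (congrArg (k • ·) g1).trans kb
  · exact (congrArg (k • ·) g2).trans kc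
  · exact hk

/-- Triply transitive gives quadruply transitive. -/
theorem four_trans : IsMultiplyPretransitive G Ω 4 := by
  classical
  obtain ⟨φ, hR⟩ := F.rho_cases h3 hins hH
  set e := (F.stabU φ).card with he
  set T := (F.orbU φ).card with hT
  have heT : e * T = q - 1 := F.stab_mul_orb φ
  have hdvd : ∀ a b c d : Ω, a ≠ b → a ≠ c → a ≠ d → b ≠ c → b ≠ d → c ≠ d →
      2 * e ∣ Nat.card (orbit ↥(stabilizer G a ⊓ stabilizer G b ⊓ stabilizer G c) d) :=
    fun a b c d h1 h2 h3' h4 h5 h6 => F.quad_length h3 hins hH hR h1 h2 h3' h4 h5 h6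
  rcases Nat.lt_or_ge T 2 with hT2 | hT2
  · refine F.four_of_orbit h3 hins hH fun a b c d h1 h2 h3' h4 h5 h6 => ?_
    obtain hT0 | hT1 : T = 0 ∨ T = 1 := by omega
    · rw [hT0, mul_zero] at heT
      have := F.hq
      omega
    · rw [hT1, mul_one] at heT
      rw [← heT]
      exact hdvd a b c d h1 h2 h3' h4 h5 h6
  exfalso
  have hnc : F.chiP h3 ∉ F.orbU φ := fun h => by
    obtain ⟨k, hk⟩ := F.mem_orbU.1 h
    have := F.md_chiP h3 (k : ZMod q)
    rw [← hk, hR.mode.md_gT] at this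
    exact one_ne_zero this
  have hnp : principal G ∉ insert (F.chiP h3) (F.orbU φ) := by
    rw [Finset.mem_insert]
    rintro (h | h)
    · exact F.chiP_ne h3 h.symm
    · have := hR.zero0 _ h
      rw [F.md_one h3, if_pos rfl] at this
      exact one_ne_zero this
  have hexp : rho (G := G) Ω =
      (principal G : G → ℂ) + ((F.chiP h3 : G → ℂ) + ∑ ψ ∈ F.orbU φ, (ψ : G → ℂ)) := by
    conv_lhs => rw [IsCharacter.eq_sum (isCharacter_rho (G := G) (Ω := Ω))]
    rw [← Finset.sum_subset (Finset.subset_univ (insert (principal G) (insert (F.chiP h3) (F.orbU φ))))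
      fun ψ _ hψ => ?_, Finset.sum_insert hnp, Finset.sum_insert hnc, F.rho_principal h3, F.rho_chiP h3,
      one_smul, one_smul, Finset.sum_congr rfl fun ψ hψ => ?_]
    · obtain ⟨k, rfl⟩ := F.mem_orbU.1 hψ
      rw [hR.mode.mult, one_smul]
    · simp only [Finset.mem_insert, not_or] at hψ
      have h0 : Cfsg.classInner (rho Ω) (ψ : G → ℂ) = 0 := by
        by_contra h
        exact (hR.cover ψ h hψ.1).elim hψ.2.1 hψ.2.2
      rw [h0, zero_smul]
  have halt : ∀ ψ ∈ F.orbU φ, Cfsg.classInner (alt Ω) (ψ : G → ℂ) = 0 := by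
    intro ψ hψ
    by_contra ha
    obtain ⟨l, rfl⟩ := F.mem_orbU.1 hψ
    have hmd0 : F.md (F.gT l φ : G → ℂ) 0 = 0 := hR.zero0 _ hψ
    have hdeg : (F.gT l φ : G → ℂ) 1 = (p : ℂ) * e := by rw [F.gT_degree, hR.deg]
    have hnc' : F.gT l φ ≠ F.chiP h3 := fun h => hnc (h ▸ hψ)
    rcases F.alt_cases h3 hins hH with ⟨φ', hO⟩ | ⟨φ', φ0, d0, hS⟩
    · rw [(hO.cover _ ha).resolve_left hnc', hO.md0] at hmd0
      exact one_ne_zero hmd0
    · rcases (hS.cover _ ha).resolve_left hnc' with h | h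
      · rw [h, hS.md0] at hmd0
        exact one_ne_zero hmd0
      · obtain ⟨k, hk⟩ := F.mem_orbU.1 h
        rw [← hk, F.gT_degree, hS.deg] at hdeg
        have h' : (((p : ℤ) * (F.stabU φ').card - 2 * q : ℤ) : ℂ) = (((p : ℤ) * e : ℤ) : ℂ) := by
          push_cast; exact hdeg
        rw [Int.cast_inj] at h'
        have h2q : (p : ℤ) ∣ ((2 * q : ℕ) : ℤ) :=
          ⟨(F.stabU φ').card - e, by push_cast; linear_combination -h'⟩
        have := Nat.le_of_dvd (by have := F.q_pos; omega) (Int.natCast_dvd_natCast.1 h2q)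
        have := F.hpq
        omega
  have hrr : Cfsg.classInner (rho (G := G) Ω) (rho Ω) = 2 + T := by
    conv_lhs => arg 2; rw [hexp]
    have h1 : ∀ ψ ∈ F.orbU φ, Cfsg.classInner (rho Ω) (ψ : G → ℂ) = 1 := fun ψ hψ => by
      obtain ⟨k, rfl⟩ := F.mem_orbU.1 hψ
      exact hR.mode.mult k
    rw [classInner_add_right, classInner_add_right, F.rho_principal h3, F.rho_chiP h3, classInner_sum_right,
      Finset.sum_congr rfl h1, Finset.sum_const, nsmul_eq_mul, mul_one, ← hT]
    ring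
  have har : Cfsg.classInner (alt (G := G) Ω) (rho Ω) = 1 := by
    rw [hexp, classInner_add_right, classInner_add_right,
      show Cfsg.classInner (alt (G := G) Ω) (principal G : G → ℂ) = 0 from (F.inner_one h3).2, F.alt_chiP h3,
      classInner_sum_right, Finset.sum_eq_zero halt]
    ring
  have hsq : ∀ g : G, pc Ω g ^ 2 = pc Ω g + (rho Ω g + alt Ω g) := fun g => by
    rw [rho_add_alt, pc_Pr]; ring
  have hreal : ∀ g : G, conj (pc Ω g) = pc Ω g := fun g => by simp [pc]
  have hrreal : ∀ g : G, conj (rho Ω g) = rho Ω g := fun g => by simp [rho, tw, map_ofNat]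
  refine F.false_of_family h3 (F.quad_sym h3 hins hH) hT2 (F.stabU_two φ hH) heT ?_ hdvd ?_ ?_
  · intro i _
    rcases hR.mode.stab with hall | hst
    · have : T = 1 := Finset.card_eq_one.2 ⟨φ, Finset.eq_singleton_iff_unique_mem.2
        ⟨F.mem_orbU.2 ⟨1, F.gT_one φ⟩, fun ψ hψ => by obtain ⟨k, rfl⟩ := F.mem_orbU.1 hψ; exact hall k⟩⟩
      omega
    · rw [← Nat.card_eq_finsetCard]
      exact Nat.card_le_card_of_injective
        (fun k => ⟨k.1, F.isConj_of_mem ((hst k.1).1 (F.mem_stabU.1 k.2)) i⟩) fun a b h =>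
          Subtype.ext (Subtype.mk.inj h)
  · have hl : ∑ g : G, (rho Ω g - pc Ω g) * pc Ω g ^ 2 = (Nat.card G : ℂ) *
        Cfsg.classInner (pc Ω + (rho Ω + alt Ω)) (rho (G := G) Ω - pc Ω) := by
      rw [Cfsg.classInner, ← mul_assoc, mul_inv_cancel₀ (Nat.cast_ne_zero.2 Nat.card_pos.ne'), one_mul]
      refine Finset.sum_congr rfl fun g _ => ?_
      simp only [Pi.add_apply, Pi.sub_apply, map_sub, hreal, hrreal, hsq g]
      ring
    rw [hl, classInner_sub_right, classInner_add_left, classInner_add_left, classInner_add_left,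
      classInner_add_left, hrr, har, (F.inner_points h3).1, (F.inner_points h3).2, F.inner_pc_pc h3,
      classInner_comm_of_isCharacter isCharacter_pc isCharacter_rho, (F.inner_points h3).1]
    ring
  · intro g hg
    refine ⟨(φ : G → ℂ) g, IsCharacter.isIntegral (IsIrrCharacter.isCharacter φ.2) g, ?_⟩
    rw [hexp, F.pc_eq_add h3]
    simp only [Pi.add_apply, Finset.sum_apply]
    have h1 : ∀ ψ ∈ F.orbU φ, (ψ : G → ℂ) g = (φ : G → ℂ) g := fun ψ hψ => by
      obtain ⟨k, rfl⟩ := F.mem_orbU.1 hψ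
      exact F.gT_regular k φ hg
    rw [Finset.sum_congr rfl h1, Finset.sum_const, nsmul_eq_mul, ← hT]
    ring

end Frame

end Cfsg.Agent.ItoTwoQ
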