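import Mathlib.GroupTheory.GroupAction.MultipleTransitivity
import Mathlib.Data.Fintype.Perm
import Mathlib.Algebra.BigOperators.Ring.Finset
import Mathlib.Tactic.LinearCombination
import Mathlib.Tactic.FinCases

/-!
Triply transitive groups whose four-point sets carry the symmetric group and whose three-point fixers have orbits
of one length: the fixed sets of the four-point fixers form a design, and sums over the fixers count its size.
-/

set_option autoImplicit false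
set_option linter.unusedSectionVars false
set_option linter.style.haveILetI false

namespace Cfsg.Agent.ItoTwoQ.Quad

open MulAction Finset

universe u v

variable {G : Type u} [Group G] [Fintype G] {Ω : Type v} [MulAction G Ω] [Fintype Ω] [DecidableEq Ω]
  [DecidableEq G]

variable (G) in
/-- The pointwise stabiliser, as a finite set. -/
def fixer (L : Finset Ω) : Finset G := univ.filter fun g => ∀ x ∈ L, g • x = x

variable (G) in
/-- The points fixed by the pointwise stabiliser. -/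
def cl (L : Finset Ω) : Finset Ω := univ.filter fun x => ∀ g ∈ fixer G L, g • x = x

variable (G) in
/-- The orbit of a point under a pointwise stabiliser. -/
def orb (L : Finset Ω) (x : Ω) : Finset Ω := (fixer G L).image fun g => g • x

theorem mem_fixer {L : Finset Ω} {g : G} : g ∈ fixer G L ↔ ∀ x ∈ L, g • x = x := by simp [fixer]

theorem mem_cl {L : Finset Ω} {x : Ω} : x ∈ cl G L ↔ ∀ g ∈ fixer G L, g • x = x := by simp [cl]

theorem mem_orb {L : Finset Ω} {x y : Ω} : y ∈ orb G L x ↔ ∃ g ∈ fixer G L, g • x = y := by simp [orb]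

theorem one_mem (L : Finset Ω) : (1 : G) ∈ fixer G L := mem_fixer.2 fun x _ => one_smul G x

theorem mul_mem {L : Finset Ω} {g h : G} (hg : g ∈ fixer G L) (hh : h ∈ fixer G L) : g * h ∈ fixer G L :=
  mem_fixer.2 fun x hx => by rw [mul_smul, mem_fixer.1 hh x hx, mem_fixer.1 hg x hx]

theorem inv_mem {L : Finset Ω} {g : G} (hg : g ∈ fixer G L) : g⁻¹ ∈ fixer G L :=
  mem_fixer.2 fun x hx => by rw [inv_smul_eq_iff, mem_fixer.1 hg x hx]

theorem mem_insert_fixer {L : Finset Ω} {x : Ω} {g : G} :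
    g ∈ fixer G (insert x L) ↔ g • x = x ∧ g ∈ fixer G L := by
  simp [mem_fixer]

theorem fixer_pos (L : Finset Ω) : 0 < (fixer G L).card := card_pos.2 ⟨1, one_mem L⟩

theorem fixer_insert_mem {L : Finset Ω} {x : Ω} (h : x ∈ cl G L) : fixer G (insert x L) = fixer G L := by
  ext g
  exact ⟨fun hg => (mem_insert_fixer.1 hg).2, fun hg => mem_insert_fixer.2 ⟨mem_cl.1 h g hg, hg⟩⟩

theorem subset_cl (L : Finset Ω) : L ⊆ cl G L := fun x hx => mem_cl.2 fun _ hg => mem_fixer.1 hg x hx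

theorem self_mem_orb (L : Finset Ω) (x : Ω) : x ∈ orb G L x := mem_orb.2 ⟨1, one_mem L, one_smul G x⟩

theorem orb_eq {L : Finset Ω} {x y : Ω} (h : y ∈ orb G L x) : orb G L y = orb G L x := by
  obtain ⟨k, hk, rfl⟩ := mem_orb.1 h
  ext z
  simp only [mem_orb]
  constructor
  · rintro ⟨g, hg, rfl⟩
    exact ⟨g * k, mul_mem hg hk, mul_smul g k x⟩
  · rintro ⟨g, hg, rfl⟩
    exact ⟨g * k⁻¹, mul_mem hg (inv_mem hk), by rw [mul_smul, inv_smul_smul]⟩

theorem orb_not_mem {L : Finset Ω} {x y : Ω} (hx : x ∉ L) (h : y ∈ orb G L x) : y ∉ L := fun hy => by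
  obtain ⟨g, hg, rfl⟩ := mem_orb.1 h
  exact hx (by rwa [smul_left_cancel g (mem_fixer.1 hg _ hy)] at hy)

theorem card_fixer_eq (L : Finset Ω) (x : Ω) :
    (fixer G L).card = (orb G L x).card * (fixer G (insert x L)).card := by
  rw [card_eq_sum_card_fiberwise (f := fun g : G => g • x) (t := orb G L x)
    (fun g hg => mem_orb.2 ⟨g, hg, rfl⟩), Finset.sum_const_nat]
  intro y hy
  obtain ⟨k, hk, rfl⟩ := mem_orb.1 hy
  refine card_bij' (fun g _ => k⁻¹ * g) (fun g _ => k * g) ?_ ?_ ?_ ?_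
  · intro g hg
    simp only [mem_filter] at hg
    exact mem_insert_fixer.2 ⟨by rw [mul_smul, hg.2, inv_smul_smul], mul_mem (inv_mem hk) hg.1⟩
  · intro g hg
    have hg' := mem_insert_fixer.1 hg
    exact mem_filter.2 ⟨mul_mem hk hg'.2, by rw [mul_smul, hg'.1]⟩
  · intro g _; exact mul_inv_cancel_left k g
  · intro g _; exact inv_mul_cancel_left k g

theorem mem_fixer_image {L : Finset Ω} {g h : G} :
    h ∈ fixer G (L.image fun x => g • x) ↔ g⁻¹ * h * g ∈ fixer G L := by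
  simp only [mem_fixer, forall_mem_image, mul_smul, inv_smul_eq_iff]

theorem card_fixer_image (L : Finset Ω) (g : G) :
    (fixer G (L.image fun x => g • x)).card = (fixer G L).card := by
  refine card_bij' (fun h _ => g⁻¹ * h * g) (fun h _ => g * h * g⁻¹) ?_ ?_ ?_ ?_
  · intro h hh; exact mem_fixer_image.1 hh
  · intro h hh
    refine mem_fixer_image.2 ?_
    rw [show g⁻¹ * (g * h * g⁻¹) * g = h by group]
    exact hh
  · intro h _; group
  · intro h _; group

theorem cl_image (L : Finset Ω) (g : G) : cl G (L.image fun x => g • x) = (cl G L).image fun x => g • x := by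
  ext y
  simp only [mem_image, mem_cl]
  constructor
  · intro hy
    refine ⟨g⁻¹ • y, fun h hh => ?_, smul_inv_smul g y⟩
    have h1 := hy (g * h * g⁻¹) (mem_fixer_image.2 (by
      rw [show g⁻¹ * (g * h * g⁻¹) * g = h by group]; exact hh))
    rw [mul_smul, mul_smul] at h1
    exact eq_inv_smul_iff.2 h1
  · rintro ⟨x, hx, rfl⟩ h hh
    have h1 := hx _ (mem_fixer_image.1 hh)
    rwa [mul_smul, mul_smul, inv_smul_eq_iff] at h1

theorem card_img (L : Finset Ω) (g : G) : (L.image fun x => g • x).card = L.card :=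
  card_image_of_injective _ (MulAction.injective g)

theorem img_img (L : Finset Ω) (g h : G) :
    (L.image fun x => h • x).image (fun x => g • x) = L.image fun x => (g * h) • x := by
  rw [image_image]
  exact image_congr fun x _ => (mul_smul g h x).symm

/-- The hypotheses on the action on triples and quadruples. -/
structure Pre (G : Type u) [Group G] [Fintype G] (Ω : Type v) [MulAction G Ω] [Fintype Ω] [DecidableEq Ω]
    [DecidableEq G] (q t e : ℕ) : Prop where
  card : Fintype.card Ω = 2 * q + 1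
  te : q = e * t + 1
  pos_t : 1 ≤ t
  pos_e : 1 ≤ e
  three : ∀ a b c a' b' c' : Ω, a ≠ b → a ≠ c → b ≠ c → a' ≠ b' → a' ≠ c' → b' ≠ c' →
    ∃ g : G, g • a = a' ∧ g • b = b' ∧ g • c = c'
  swap4 : ∀ a b c d : Ω, a ≠ b → a ≠ c → a ≠ d → b ≠ c → b ≠ d → c ≠ d →
    ∃ g : G, g • a = b ∧ g • b = a ∧ g • c = c ∧ g • d = d

/-- All the hypotheses, with the orbit lengths. -/
structure Geo (G : Type u) [Group G] [Fintype G] (Ω : Type v) [MulAction G Ω] [Fintype Ω] [DecidableEq Ω]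
    [DecidableEq G] (q t e : ℕ) : Prop extends Pre G Ω q t e where
  orbit : ∀ a b c d : Ω, a ≠ b → a ≠ c → a ≠ d → b ≠ c → b ≠ d → c ≠ d →
    (orb G {a, b, c} d).card = 2 * e

variable {q t e : ℕ}

namespace Pre

variable (Γ : Pre G Ω q t e)
include Γ

theorem exists_fourth {L : Finset Ω} (h : L.card ≤ 3) : ∃ d, d ∉ L := by
  have h1 := Γ.card
  have h2 := Γ.te
  have h3 := Nat.mul_le_mul Γ.pos_e Γ.pos_t
  obtain ⟨d, -, hd⟩ := exists_mem_notMem_of_card_lt_card (s := L) (t := (univ : Finset Ω))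
    (by rw [card_univ]; omega)
  exact ⟨d, hd⟩

theorem orb_small {L : Finset Ω} (hL : L.card ≤ 2) {x : Ω} (hx : x ∉ L) :
    (orb G L x).card = 2 * q + 1 - L.card := by
  have key : orb G L x = Lᶜ := by
    ext y
    rw [mem_compl]
    refine ⟨fun hy => orb_not_mem hx hy, fun hy => ?_⟩
    obtain ⟨a, b, hab, hLab⟩ : ∃ a b, a ≠ b ∧ a ≠ x ∧ b ≠ x ∧ a ≠ y ∧ b ≠ y ∧ L ⊆ {a, b} := by
      obtain ⟨L', hLL', hxy, hL'⟩ := exists_subsuperset_card_eq (s := L) (t := univ \ {x, y}) (n := 2)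
        (by intro z hz; simp only [mem_sdiff, mem_univ, true_and, mem_insert, mem_singleton, not_or]
            exact ⟨fun e => hx (e ▸ hz), fun e => hy (e ▸ hz)⟩)
        hL (by
          rw [card_univ_diff]
          have h1 : ({x, y} : Finset Ω).card ≤ 2 := card_le_two
          have h2 := Γ.card
          have h3 := Γ.te
          have h4 := Nat.mul_le_mul Γ.pos_e Γ.pos_t
          omega)
      obtain ⟨a, b, hab, rfl⟩ := card_eq_two.1 hL'
      have ha := hxy (mem_insert_self a {b})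
      have hb := hxy (mem_insert_of_mem (mem_singleton_self b))
      simp only [mem_sdiff, mem_univ, true_and, mem_insert, mem_singleton, not_or] at ha hb
      exact ⟨a, b, hab, ha.1, hb.1, ha.2, hb.2, hLL'⟩
    obtain ⟨hax, hbx, hay, hby, hsub⟩ := hLab
    obtain ⟨g, g1, g2, g3⟩ := Γ.three a b x a b y hab hax hbx hab hay hby
    refine mem_orb.2 ⟨g, mem_fixer.2 fun z hz => ?_, g3⟩
    rcases mem_insert.1 (hsub hz) with rfl | h
    · exact g1
    · rw [mem_singleton.1 h]; exact g2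
  rw [key, card_compl, Γ.card]

theorem card_one {a : Ω} : (2 * q + 1) * (fixer G {a}).card = Nat.card G := by
  have h := card_fixer_eq (G := G) ∅ a
  rw [Γ.orb_small (by simp) (notMem_empty a), card_empty, Nat.sub_zero, insert_empty_eq] at h
  rw [← h, Nat.card_eq_fintype_card, ← card_univ]
  congr 1
  ext g
  simp [mem_fixer]

theorem card_two {a b : Ω} (hab : a ≠ b) : 2 * q * (fixer G {b, a}).card = (fixer G {a}).card := by
  rw [card_fixer_eq {a} b, Γ.orb_small (by simp) (by simp [hab.symm]), card_singleton]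
  rfl

theorem card_three {a b c : Ω} (hab : a ≠ b) (hac : a ≠ c) (hbc : b ≠ c) :
    (2 * q - 1) * (fixer G {c, b, a}).card = (fixer G {b, a}).card := by
  rw [card_fixer_eq {b, a} c, Γ.orb_small ((card_pair hab.symm).le) (by simp [hac.symm, hbc.symm]),
    card_pair hab.symm, show 2 * q + 1 - 2 = 2 * q - 1 by omega]

theorem card_three' {a b c : Ω} (hab : a ≠ b) (hac : a ≠ c) (hbc : b ≠ c) :
    (2 * q + 1) * (2 * q) * (2 * q - 1) * (fixer G {a, b, c}).card = Nat.card G := by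
  rw [show ({a, b, c} : Finset Ω) = {c, b, a} by ext; simp; tauto, mul_assoc, Γ.card_three hab hac hbc,
    mul_assoc, Γ.card_two hab, Γ.card_one]

end Pre

namespace Geo

variable (Γ : Geo G Ω q t e)
include Γ

theorem orb_three {T : Finset Ω} (hT : T.card = 3) {x : Ω} (hx : x ∉ T) : (orb G T x).card = 2 * e := by
  obtain ⟨a, b, c, hab, hac, hbc, rfl⟩ := card_eq_three.1 hT
  simp only [mem_insert, mem_singleton, not_or] at hx
  exact Γ.orbit a b c x hab hac (Ne.symm hx.1) hbc (Ne.symm hx.2.1) (Ne.symm hx.2.2)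

theorem card_four {L : Finset Ω} (hL : L.card = 4) :
    (2 * q + 1) * (2 * q) * (2 * q - 1) * (2 * e) * (fixer G L).card = Nat.card G := by
  obtain ⟨d, hd⟩ := card_pos.1 (by omega : 0 < L.card)
  have hT : (L.erase d).card = 3 := by rw [card_erase_of_mem hd, hL]
  have h := card_fixer_eq (G := G) (L.erase d) d
  rw [Γ.orb_three hT (notMem_erase d L), insert_erase hd] at h
  obtain ⟨a, b, c, hab, hac, hbc, hTe⟩ := card_eq_three.1 hT
  rw [mul_assoc _ (2 * e), ← h, hTe, Γ.card_three' hab hac hbc]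

theorem four_eq {L L' : Finset Ω} (hL : L.card = 4) (hL' : L'.card = 4) :
    (fixer G L).card = (fixer G L').card := by
  refine Nat.eq_of_mul_eq_mul_left ?_ ((Γ.card_four hL).trans (Γ.card_four hL').symm)
  refine Nat.pos_of_ne_zero fun h0 => ?_
  have := Γ.card_four hL
  rw [h0, zero_mul] at this
  exact Nat.card_pos.ne this

theorem cl_eq {L L' : Finset Ω} (hL : L.card = 4) (hL' : L'.card = 4) (h : L ⊆ cl G L') :
    cl G L = cl G L' := by
  have he : fixer G L' = fixer G L :=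
    eq_of_subset_of_card_le (fun g hg => mem_fixer.2 fun x hx => mem_cl.1 (h hx) g hg) (Γ.four_eq hL hL').le
  ext x
  simp only [mem_cl, he]

section Lines

variable {L₀ : Finset Ω} (hL₀ : L₀.card = 4)

include hL₀

/-- A translate of the fixed set is determined by any four of its points. -/
theorem line {g : G} {L : Finset Ω} (hL : L.card = 4) (h : L ⊆ (cl G L₀).image fun x => g • x) :
    (cl G L₀).image (fun x => g • x) = cl G L := by
  rw [← cl_image] at h ⊢
  exact (Γ.cl_eq hL (by rw [card_img, hL₀]) h).symm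

theorem swap_in {x y z w : Ω} (hx : x ∈ cl G L₀) (hy : y ∈ cl G L₀) (hz : z ∈ cl G L₀) (hw : w ∈ cl G L₀)
    (hxy : x ≠ y) (hxz : x ≠ z) (hxw : x ≠ w) (hyz : y ≠ z) (hyw : y ≠ w) (hzw : z ≠ w) :
    ∃ g : G, (cl G L₀).image (fun x => g • x) = cl G L₀ ∧ g • x = y ∧ g • y = x ∧ g • z = z := by
  obtain ⟨g, g1, g2, g3, g4⟩ := Γ.swap4 x y z w hxy hxz hxw hyz hyw hzw
  refine ⟨g, ?_, g1, g2, g3⟩
  have hL : ({x, y, z, w} : Finset Ω).card = 4 := by simp [hxy, hxz, hxw, hyz, hyw, hzw]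
  have hsub : ({x, y, z, w} : Finset Ω) ⊆ cl G L₀ := by
    simp [insert_subset_iff, hx, hy, hz, hw]
  rw [Γ.line hL₀ hL fun r hr => ?_, Γ.cl_eq hL hL₀ hsub]
  rw [mem_image]
  simp only [mem_insert, mem_singleton] at hr
  rcases hr with rfl | rfl | rfl | rfl
  exacts [⟨y, hy, g2⟩, ⟨x, hx, g1⟩, ⟨_, hz, g3⟩, ⟨_, hw, g4⟩]

theorem fourth_in {x y z : Ω} : ∃ w ∈ cl G L₀, w ≠ x ∧ w ≠ y ∧ w ≠ z := by
  obtain ⟨w, hw, hw'⟩ := exists_mem_notMem_of_card_lt_card (s := ({x, y, z} : Finset Ω)) (t := cl G L₀) (by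
    refine lt_of_le_of_lt card_le_three ?_
    have := card_le_card (subset_cl (G := G) L₀)
    omega)
  simp only [mem_insert, mem_singleton, not_or] at hw'
  exact ⟨w, hw, hw'.1, hw'.2.1, hw'.2.2⟩

/-- One point of a triple can be moved anywhere outside the other two. -/
theorem move {x x' y z : Ω} (hx : x ∈ cl G L₀) (hx' : x' ∈ cl G L₀) (hy : y ∈ cl G L₀) (hz : z ∈ cl G L₀)
    (hxy : x ≠ y) (hxz : x ≠ z) (hyz : y ≠ z) (h1 : x' ≠ y) (h2 : x' ≠ z) :
    ∃ g : G, (cl G L₀).image (fun x => g • x) = cl G L₀ ∧ g • x = x' ∧ g • y = y ∧ g • z = z := by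
  by_cases e : x = x'
  · exact ⟨1, by simp, by simp [e], one_smul G y, one_smul G z⟩
  obtain ⟨g, g1, g2, g3, g4⟩ := Γ.swap4 x x' y z e hxy hxz h1 h2 hyz
  refine ⟨g, ?_, g1, g3, g4⟩
  have hL : ({x, x', y, z} : Finset Ω).card = 4 := by simp [e, hxy, hxz, h1, h2, hyz]
  have hsub : ({x, x', y, z} : Finset Ω) ⊆ cl G L₀ := by simp [insert_subset_iff, hx, hx', hy, hz]
  rw [Γ.line hL₀ hL fun r hr => ?_, Γ.cl_eq hL hL₀ hsub]
  rw [mem_image]
  simp only [mem_insert, mem_singleton] at hr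
  rcases hr with rfl | rfl | rfl | rfl
  exacts [⟨x', hx', g2⟩, ⟨x, hx, g1⟩, ⟨_, hy, g3⟩, ⟨_, hz, g4⟩]

theorem stab_trans {x y z x' y' z' : Ω} (hx : x ∈ cl G L₀) (hy : y ∈ cl G L₀) (hz : z ∈ cl G L₀)
    (hxy : x ≠ y) (hxz : x ≠ z) (hyz : y ≠ z) (hx' : x' ∈ cl G L₀) (hy' : y' ∈ cl G L₀) (hz' : z' ∈ cl G L₀)
    (hxy' : x' ≠ y') (hxz' : x' ≠ z') (hyz' : y' ≠ z') :
    ∃ g : G, (cl G L₀).image (fun x => g • x) = cl G L₀ ∧ g • x = x' ∧ g • y = y' ∧ g • z = z' := by
  have hin : ∀ {g : G}, (cl G L₀).image (fun x => g • x) = cl G L₀ → ∀ {r : Ω}, r ∈ cl G L₀ → g • r ∈ cl G L₀ :=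
    fun hg _ hr => hg ▸ mem_image_of_mem _ hr
  have hmul : ∀ {g h : G}, (cl G L₀).image (fun x => g • x) = cl G L₀ →
      (cl G L₀).image (fun x => h • x) = cl G L₀ → (cl G L₀).image (fun x => (g * h) • x) = cl G L₀ :=
    fun hg hh => by rw [← img_img, hh, hg]
  -- the first point
  obtain ⟨g₁, hg₁, e₁⟩ : ∃ g : G, (cl G L₀).image (fun x => g • x) = cl G L₀ ∧ g • x = x' := by
    by_cases h1 : x' = y
    · obtain ⟨w, hw, wx, wy, wz⟩ := Γ.fourth_in hL₀ (x := x) (y := y) (z := z)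
      obtain ⟨g, a, b, -, -⟩ := Γ.swap_in hL₀ hx hy hz hw hxy hxz wx.symm hyz wy.symm wz.symm
      exact ⟨g, a, b.trans h1.symm⟩
    by_cases h2 : x' = z
    · obtain ⟨w, hw, wx, wy, wz⟩ := Γ.fourth_in hL₀ (x := x) (y := y) (z := z)
      obtain ⟨g, a, b, -, -⟩ := Γ.swap_in hL₀ hx hz hy hw hxz hxy wx.symm hyz.symm wz.symm wy.symm
      exact ⟨g, a, b.trans h2.symm⟩
    obtain ⟨g, a, b, -, -⟩ := Γ.move hL₀ hx hx' hy hz hxy hxz hyz h1 h2
    exact ⟨g, a, b⟩
  -- the second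
  have hy₁ := hin hg₁ hy
  have hz₁ := hin hg₁ hz
  have nxy : x' ≠ g₁ • y := e₁ ▸ fun e => hxy (smul_left_cancel g₁ e)
  have nxz : x' ≠ g₁ • z := e₁ ▸ fun e => hxz (smul_left_cancel g₁ e)
  have nyz : g₁ • y ≠ g₁ • z := fun e => hyz (smul_left_cancel g₁ e)
  obtain ⟨g₂, hg₂, f₁, f₂⟩ : ∃ g : G, (cl G L₀).image (fun x => g • x) = cl G L₀ ∧ g • x' = x' ∧
      g • (g₁ • y) = y' := by
    by_cases h1 : y' = g₁ • z
    · obtain ⟨w, hw, wx, wy, wz⟩ := Γ.fourth_in hL₀ (x := x') (y := g₁ • y) (z := g₁ • z)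
      obtain ⟨g, a, b, -, c⟩ := Γ.swap_in hL₀ hy₁ hz₁ hx' hw nyz nxy.symm wy.symm nxz.symm wz.symm wx.symm
      exact ⟨g, a, c, b.trans h1.symm⟩
    obtain ⟨g, a, b, c, -⟩ := Γ.move hL₀ hy₁ hy' hx' hz₁ nxy.symm nyz nxz hxy'.symm h1
    exact ⟨g, a, c, b⟩
  -- the third
  have hz₂ := hin hg₂ hz₁
  have nxz₂ : x' ≠ g₂ • g₁ • z := f₁ ▸ fun e => nxz (smul_left_cancel g₂ e)
  have nyz₂ : y' ≠ g₂ • g₁ • z := f₂ ▸ fun e => nyz (smul_left_cancel g₂ e)
  obtain ⟨g₃, hg₃, k₁, k₂, k₃⟩ := Γ.move hL₀ hz₂ hz' hx' hy' nxz₂.symm nyz₂.symm hxy' hxz'.symm hyz'.symm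
  refine ⟨g₃ * (g₂ * g₁), hmul hg₃ (hmul hg₂ hg₁), ?_, ?_, ?_⟩
  · rw [mul_smul, mul_smul, e₁, f₁, k₂]
  · rw [mul_smul, mul_smul, f₂, k₃]
  · rw [mul_smul, mul_smul, k₁]

end Lines

/-- The counting of the design. -/
theorem design {T : Finset Ω} (hT : T.card = 3) {d : Ω} (hd : d ∉ T) :
    ∃ n a u j : ℕ, (cl G (insert d T)).card = n + 3 ∧ (cl G (insert d T) ∩ orb G T d).card = a ∧
      1 ≤ a ∧ 1 ≤ u ∧ 1 ≤ j ∧ j ≤ t ∧ n = a * j ∧ a * u = 2 * e ∧ n + 1 ∣ u * (2 * q - 1) := by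
  classical
  obtain ⟨a₀, b₀, c₀, hab, hac, hbc, hTe⟩ := card_eq_three.1 hT
  set L₀ := insert d T with hL₀e
  have hL₀ : L₀.card = 4 := by rw [hL₀e, card_insert_of_notMem hd, hT]
  set Y := cl G L₀ with hY
  have hTY : T ⊆ Y := (subset_insert d T).trans (subset_cl L₀)
  have hdY : d ∈ Y := subset_cl L₀ (mem_insert_self d T)
  set Fam : Finset (Finset Ω) := univ.image fun g : G => Y.image fun x => g • x with hFam
  set famT : Finset (Finset Ω) := Fam.filter fun Z => T ⊆ Z with hfamT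
  have hline : ∀ {Z : Finset Ω}, Z ∈ Fam → ∀ {L : Finset Ω}, L.card = 4 → L ⊆ Z → Z = cl G L := by
    intro Z hZ L hL hLZ
    obtain ⟨g, -, rfl⟩ := mem_image.1 hZ
    exact Γ.line hL₀ hL hLZ
  have hcardZ : ∀ {Z : Finset Ω}, Z ∈ Fam → Z.card = Y.card := by
    intro Z hZ
    obtain ⟨g, -, rfl⟩ := mem_image.1 hZ
    exact card_img Y g
  -- the translates through T come from the fixer of T
  have hrep : ∀ {Z : Finset Ω}, Z ∈ famT → ∃ k ∈ fixer G T, Z = Y.image fun x => k • x := by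
    intro Z hZ
    obtain ⟨hZ, hTZ⟩ := mem_filter.1 hZ
    obtain ⟨g, -, rfl⟩ := mem_image.1 hZ
    have hpre : ∀ r ∈ T, g⁻¹ • r ∈ Y := fun r hr => by
      obtain ⟨y, hy, e⟩ := mem_image.1 (hTZ hr)
      rwa [← e, inv_smul_smul]
    have ha : a₀ ∈ T := by simp [hTe]
    have hb : b₀ ∈ T := by simp [hTe]
    have hc : c₀ ∈ T := by simp [hTe]
    obtain ⟨h, hh, k1, k2, k3⟩ := Γ.stab_trans hL₀ (hTY ha) (hTY hb) (hTY hc) hab hac hbc
      (hpre _ ha) (hpre _ hb) (hpre _ hc) (fun e => hab (smul_left_cancel _ e))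
      (fun e => hac (smul_left_cancel _ e)) (fun e => hbc (smul_left_cancel _ e))
    refine ⟨g * h, mem_fixer.2 fun r hr => ?_, ?_⟩
    · rw [mul_smul]
      simp only [hTe, mem_insert, mem_singleton] at hr
      rcases hr with rfl | rfl | rfl
      exacts [by rw [k1, smul_inv_smul], by rw [k2, smul_inv_smul], by rw [k3, smul_inv_smul]]
    · rw [← img_img, hh]
  have hmk : ∀ {k : G}, k ∈ fixer G T → (Y.image fun x => k • x) ∈ famT := fun hk =>
    mem_filter.2 ⟨mem_image.2 ⟨_, mem_univ _, rfl⟩, fun r hr =>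
      mem_image.2 ⟨r, hTY hr, mem_fixer.1 hk r hr⟩⟩
  have huniq : ∀ {Z : Finset Ω}, Z ∈ famT → ∀ {x : Ω}, x ∈ Z → x ∉ T → Z = cl G (insert x T) :=
    fun hZ x hx hxT => hline (mem_filter.1 hZ).1 (by rw [card_insert_of_notMem hxT, hT])
      (insert_subset hx (mem_filter.1 hZ).2)
  obtain ⟨n, hn⟩ : ∃ n, Y.card = n + 3 := ⟨Y.card - 3, by have := card_le_card hTY; omega⟩
  set O := orb G T d with hO
  set a := (Y ∩ O).card with ha
  set u := famT.card with hu
  have hYmem : Y ∈ famT := by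
    have := hmk (one_mem T)
    simpa using this
  -- the points of the orbit
  have hOpart : a * u = 2 * e := by
    have hZ : ∀ Z ∈ famT, (Z ∩ O).card = a := by
      intro Z hZ
      obtain ⟨k, hk, rfl⟩ := hrep hZ
      rw [ha, ← card_img (Y ∩ O) k, image_inter _ _ (MulAction.injective k)]
      congr 2
      ext y
      simp only [hO, mem_image, mem_orb]
      constructor
      · rintro ⟨g, hg, rfl⟩
        exact ⟨(k⁻¹ * g) • d, ⟨k⁻¹ * g, mul_mem (inv_mem hk) hg, rfl⟩, by rw [mul_smul, smul_inv_smul]⟩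
      · rintro ⟨_, ⟨g, hg, rfl⟩, rfl⟩
        exact ⟨k * g, mul_mem hk hg, mul_smul k g d⟩
    have hmaps : ∀ x ∈ O, cl G (insert x T) ∈ famT := by
      intro x hx
      obtain ⟨k, hk, rfl⟩ := mem_orb.1 hx
      have hm := hmk hk
      rwa [huniq hm (mem_image_of_mem (fun x => k • x) hdY) (orb_not_mem hd hx)] at hm
    rw [← Γ.orb_three hT hd, ← hO, card_eq_sum_card_fiberwise hmaps, Finset.sum_const_nat (m := a), mul_comm]
    intro Z hZm
    rw [← hZ Z hZm]
    congr 1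
    ext x
    simp only [mem_filter, mem_inter]
    constructor
    · rintro ⟨hxO, rfl⟩
      exact ⟨subset_cl _ (mem_insert_self x T), hxO⟩
    · rintro ⟨hxZ, hxO⟩
      exact ⟨hxO, (huniq hZm hxZ (orb_not_mem hd hxO)).symm⟩
  -- all outside points
  set U := (famT.biUnion id) \ T with hU
  have hUc : U.card = u * n := by
    have hmaps : ∀ x ∈ U, cl G (insert x T) ∈ famT := by
      intro x hx
      simp only [hU, mem_sdiff, mem_biUnion, id] at hx
      obtain ⟨⟨Z, hZ, hxZ⟩, hxT⟩ := hx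
      rwa [← huniq hZ hxZ hxT]
    rw [card_eq_sum_card_fiberwise hmaps, Finset.sum_const_nat (m := n)]
    intro Z hZ
    have : (Z \ T).card = n := by
      rw [card_sdiff_of_subset (mem_filter.1 hZ).2, hcardZ (mem_filter.1 hZ).1, hn, hT, Nat.add_sub_cancel]
    refine Eq.trans ?_ this
    congr 1
    ext x
    simp only [hU, mem_filter, mem_sdiff, mem_biUnion, id]
    constructor
    · rintro ⟨⟨-, hxT⟩, rfl⟩
      exact ⟨subset_cl _ (mem_insert_self x T), hxT⟩
    · rintro ⟨hxZ, hxT⟩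
      exact ⟨⟨⟨Z, hZ, hxZ⟩, hxT⟩, (huniq hZ hxZ hxT).symm⟩
  set J := U.image fun x => orb G T x with hJ
  have hUorb : ∀ x ∈ U, orb G T x ⊆ U := by
    intro x hx y hy
    simp only [hU, mem_sdiff, mem_biUnion, id] at hx ⊢
    obtain ⟨⟨Z, hZ, hxZ⟩, hxT⟩ := hx
    obtain ⟨g, hg, rfl⟩ := mem_orb.1 hy
    obtain ⟨k, hk, rfl⟩ := hrep hZ
    refine ⟨⟨_, hmk (mul_mem hg hk), ?_⟩, orb_not_mem hxT hy⟩
    rw [← img_img]
    exact mem_image_of_mem _ hxZ
  have hUj : U.card = J.card * (2 * e) := by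
    rw [card_eq_sum_card_fiberwise (f := fun x => orb G T x) (t := J) (fun x hx => mem_image_of_mem _ hx),
      Finset.sum_const_nat (m := 2 * e)]
    intro o ho
    obtain ⟨x, hx, rfl⟩ := mem_image.1 ho
    have hxT : x ∉ T := (mem_sdiff.1 hx).2
    rw [← Γ.orb_three hT hxT]
    congr 1
    ext y
    simp only [mem_filter]
    exact ⟨fun h => h.2 ▸ self_mem_orb T y, fun h => ⟨hUorb x hx h, orb_eq h⟩⟩
  have hdU : d ∈ U := by
    simp only [hU, mem_sdiff, mem_biUnion, id]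
    exact ⟨⟨Y, hYmem, hdY⟩, hd⟩
  have hjpos : 1 ≤ J.card := card_pos.2 ⟨_, mem_image_of_mem _ hdU⟩
  have hjt : J.card ≤ t := by
    have h1 : U.card ≤ Tᶜ.card := card_le_card fun x hx => mem_compl.2 (mem_sdiff.1 hx).2
    rw [card_compl, Γ.card, hT, hUj, Γ.te] at h1
    refine Nat.le_of_mul_le_mul_right (c := 2 * e) ?_ (by have := Γ.pos_e; omega)
    rw [show t * (2 * e) = 2 * (e * t) by ring]
    omega
  have hu1 : 1 ≤ u := card_pos.2 ⟨Y, hYmem⟩
  have hna : n = a * J.card := by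
    refine Nat.eq_of_mul_eq_mul_left hu1 ?_
    rw [← hUc, hUj, ← hOpart]
    ring
  -- the translates through two points
  have hdvd : n + 1 ∣ u * (2 * q - 1) := by
    set E₂ : Finset Ω := {a₀, b₀}
    set fam2 := Fam.filter fun Z => E₂ ⊆ Z
    have hT' : T = insert c₀ E₂ := by rw [hTe]; ext; simp [E₂]; tauto
    have hc0 : ∀ c ∈ E₂ᶜ, (fam2.filter fun Z => c ∈ Z).card = u := by
      intro c hc
      simp only [E₂, mem_compl, mem_insert, mem_singleton, not_or] at hc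
      obtain ⟨g, g1, g2, g3⟩ := Γ.three a₀ b₀ c₀ a₀ b₀ c hab hac hbc hab (Ne.symm hc.1) (Ne.symm hc.2)
      refine (card_bij' (fun Z _ => Z.image fun x => g • x) (fun Z _ => Z.image fun x => g⁻¹ • x) ?_ ?_ ?_ ?_).symm
      · intro Z hZ
        obtain ⟨hZF, hTZ⟩ := mem_filter.1 hZ
        obtain ⟨k, -, rfl⟩ := mem_image.1 hZF
        refine mem_filter.2 ⟨mem_filter.2 ⟨?_, ?_⟩, ?_⟩
        · exact mem_image.2 ⟨g * k, mem_univ _, (img_img Y g k).symm⟩
        · intro r hr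
          refine mem_image.2 ⟨r, hTZ (hT' ▸ mem_insert_of_mem hr), ?_⟩
          simp only [E₂, mem_insert, mem_singleton] at hr
          rcases hr with rfl | rfl <;> assumption
        · exact mem_image.2 ⟨c₀, hTZ (hT' ▸ mem_insert_self _ _), g3⟩
      · intro Z hZ
        obtain ⟨hZ2, hcZ⟩ := mem_filter.1 hZ
        obtain ⟨hZF, hEZ⟩ := mem_filter.1 hZ2
        obtain ⟨k, -, rfl⟩ := mem_image.1 hZF
        refine mem_filter.2 ⟨mem_image.2 ⟨g⁻¹ * k, mem_univ _, (img_img Y g⁻¹ k).symm⟩, ?_⟩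
        intro r hr
        rw [hTe] at hr
        simp only [mem_insert, mem_singleton] at hr
        rcases hr with rfl | rfl | rfl
        · exact mem_image.2 ⟨r, hEZ (show r ∈ E₂ by simp [E₂]), by rw [inv_smul_eq_iff, g1]⟩
        · exact mem_image.2 ⟨r, hEZ (show r ∈ E₂ by simp [E₂]), by rw [inv_smul_eq_iff, g2]⟩
        · exact mem_image.2 ⟨_, hcZ, by rw [inv_smul_eq_iff, g3]⟩
      · intro Z _; rw [img_img]; simp
      · intro Z _; rw [img_img]; simp
    have hZ2 : ∀ Z ∈ fam2, (E₂ᶜ.filter fun c => c ∈ Z).card = n + 1 := by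
      intro Z hZ
      obtain ⟨hZF, hEZ⟩ := mem_filter.1 hZ
      have : (Z \ E₂).card = n + 1 := by
        rw [card_sdiff_of_subset hEZ, hcardZ hZF, hn, card_pair hab]
        omega
      refine Eq.trans ?_ this
      congr 1
      ext x
      simp [and_comm]
    have hsum : fam2.card * (n + 1) = E₂ᶜ.card * u := by
      calc fam2.card * (n + 1) = ∑ Z ∈ fam2, (E₂ᶜ.filter fun c => c ∈ Z).card :=
            (Finset.sum_const_nat hZ2).symm
        _ = ∑ c ∈ E₂ᶜ, (fam2.filter fun Z => c ∈ Z).card := by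
            simp only [card_filter]
            exact sum_comm
        _ = _ := Finset.sum_const_nat hc0
    rw [card_compl, Γ.card, card_pair hab, show 2 * q + 1 - 2 = 2 * q - 1 by omega] at hsum
    exact ⟨fam2.card, by rw [mul_comm (n + 1), hsum, mul_comm]⟩
  refine ⟨n, a, u, J.card, hn, rfl, ?_, hu1, hjpos, hjt, hna, hOpart, hdvd⟩
  exact card_pos.2 ⟨d, mem_inter.2 ⟨hdY, self_mem_orb T d⟩⟩

end Geo

end Cfsg.Agent.ItoTwoQ.Quad
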