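import Cfsg.Agent.Lib.Char.Convolution
import Cfsg.Agent.Lib.Char.Complete
import Cfsg.Agent.Lib.Char.TwoTrans
import Cfsg.Prelude.Def_Perm
import Mathlib.LinearAlgebra.PID

/-!
Class functions attached to invariant kernels of a permutation action.
-/

set_option autoImplicit false
set_option linter.unusedSectionVars false
set_option linter.style.haveILetI false

namespace Cfsg.Agent.ItoTwoQ

open MulAction Cfsg.Agent.Char
open scoped ComplexConjugate

universe u v w

variable {G : Type u} [Group G] [Fintype G]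

/-- The permutation character. -/
noncomputable def pc (X : Type v) [MulAction G X] (g : G) : ℂ := Nat.card (fixedBy X g)

variable {X : Type v} [MulAction G X] [Fintype X]

open scoped Classical in
theorem pc_eq (g : G) : pc X g = ∑ x : X, if g • x = x then (1 : ℂ) else 0 := by
  rw [pc, Finset.sum_boole, Nat.card_eq_fintype_card, Fintype.card_subtype]
  rfl

theorem pc_inv (g : G) : pc X g⁻¹ = pc X g := by
  simp only [pc, fixedBy_inv]

theorem isCharacter_pc : Cfsg.IsCharacter G (pc X) := by
  have h := isCharacter_of_rep (Representation.ofMulAction ℂ G X)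
  rwa [show (Representation.ofMulAction ℂ G X).character = pc X from
    funext fun g => character_ofMulAction X g] at h

/-- The trace of a kernel composed with a group element. -/
noncomputable def kerFn (K : X → X → ℤ) (g : G) : ℂ := ∑ x : X, (K x (g • x) : ℂ)

/-- An invariant kernel. -/
def Inv (G : Type u) [Group G] {Y : Type w} [MulAction G Y] {X : Type v} [MulAction G X]
    (K : X → Y → ℤ) : Prop :=
  ∀ (g : G) x y, K (g • x) (g • y) = K x y

theorem isClassFunction_kerFn {K : X → X → ℤ} (hK : Inv G K) :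
    Cfsg.IsClassFunction G (kerFn K) := by
  intro g h
  refine Fintype.sum_equiv (MulAction.toPerm h⁻¹) _ _ fun x => ?_
  simp only [toPerm_apply]
  rw [← hK h⁻¹ x ((h * g * h⁻¹) • x)]
  simp [mul_smul]

theorem kerFn_one (K : X → X → ℤ) : (kerFn K (1 : G)) = ((∑ x : X, K x x : ℤ) : ℂ) := by
  simp [kerFn]

theorem kerFn_expansion {K : X → X → ℤ} (hK : Inv G K) (g : G) :
    kerFn K g = ∑ φ : Cfsg.IrrCharacter G, Cfsg.classInner (kerFn K) (φ : G → ℂ) * (φ : G → ℂ) g := by
  conv_lhs => rw [classFunction_eq_sum (isClassFunction_kerFn hK)]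
  simp [Finset.sum_apply, Pi.smul_apply, smul_eq_mul]

theorem conv_sum (φ : Cfsg.IrrCharacter G) (F : G → ℂ) :
    ∑ g : G, ∑ h : G, conj ((φ : G → ℂ) g) * (φ : G → ℂ) h * F (g⁻¹ * h) =
      (Nat.card G : ℂ) / (φ : G → ℂ) 1 * ∑ k : G, F k * (φ : G → ℂ) k := by
  classical
  calc ∑ g : G, ∑ h : G, conj ((φ : G → ℂ) g) * (φ : G → ℂ) h * F (g⁻¹ * h)
      = ∑ g : G, ∑ k : G, conj ((φ : G → ℂ) g) * (φ : G → ℂ) (g * k) * F k :=
        Finset.sum_congr rfl fun g _ => (Fintype.sum_equiv (Equiv.mulLeft g) _ _ fun k => by simp).symm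
    _ = ∑ k : G, F k * ∑ x : G, (φ : G → ℂ) x * (φ : G → ℂ) (x⁻¹ * k) := by
        rw [Finset.sum_comm]
        refine Finset.sum_congr rfl fun k _ => ?_
        rw [Finset.mul_sum]
        refine Fintype.sum_equiv (Equiv.inv G) _ _ fun g => ?_
        simp only [Equiv.inv_apply, inv_inv, IsCharacter.inv (IsIrrCharacter.isCharacter φ.2)]
        ring
    _ = _ := by
        rw [Finset.mul_sum]
        refine Finset.sum_congr rfl fun k _ => ?_
        rw [CharX.convolution, if_pos rfl]
        ring

/-- A kernel function is orthogonal to all characters outside the permutation character. -/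
theorem classInner_kerFn_eq_zero (K : X → X → ℤ) (φ : Cfsg.IrrCharacter G)
    (hφ : Cfsg.classInner (pc X) (φ : G → ℂ) = 0) :
    Cfsg.classInner (kerFn K) (φ : G → ℂ) = 0 := by
  classical
  let P : X → X → ℂ := fun x y => ∑ g : G, if g • x = y then conj ((φ : G → ℂ) g) else 0
  have h0 : ∑ k : G, pc X k * (φ : G → ℂ) k = 0 := by
    have h1 : ∑ k : G, pc X k * conj ((φ : G → ℂ) k) = 0 := by
      simpa [Cfsg.classInner, Nat.card_pos.ne'] using hφ
    have h2 := congrArg (starRingEnd ℂ) h1
    rw [map_sum, map_zero] at h2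
    simpa [pc] using h2
  have hn : ∑ x : X, ∑ y : X, P x y * conj (P x y) = 0 := by
    have : ∑ x : X, ∑ y : X, P x y * conj (P x y) =
        ∑ g : G, ∑ h : G, conj ((φ : G → ℂ) g) * (φ : G → ℂ) h * pc X (g⁻¹ * h) := by
      simp only [P, map_sum, Finset.sum_mul, Finset.mul_sum, pc_eq]
      calc _ = ∑ x : X, ∑ g : G, ∑ h : G, ∑ y : X, (if g • x = y then conj ((φ : G → ℂ) g) else 0) *
            conj (if h • x = y then conj ((φ : G → ℂ) h) else 0) :=
          Finset.sum_congr rfl fun x _ => by
            conv_lhs => rw [Finset.sum_comm]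
            conv_rhs => rw [Finset.sum_comm]
            exact Finset.sum_congr rfl fun h _ => by rw [Finset.sum_comm]
        _ = _ := by
          rw [Finset.sum_comm]
          refine Finset.sum_congr rfl fun g _ => ?_
          rw [Finset.sum_comm]
          refine Finset.sum_congr rfl fun h _ => Finset.sum_congr rfl fun x _ => ?_
          rw [Finset.sum_eq_single (g • x)]
          · have e : (g⁻¹ * h) • x = x ↔ h • x = g • x := by rw [mul_smul, inv_smul_eq_iff]
            by_cases hh : h • x = g • x <;> simp [hh, e]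
          · intro y _ hy; rw [if_neg (Ne.symm hy), zero_mul]
          · exact fun h => absurd (Finset.mem_univ _) h
    rw [this, conv_sum, h0, mul_zero]
  have hP : ∀ x y, P x y = 0 := by
    have hre : ∑ x : X, ∑ y : X, Complex.normSq (P x y) = 0 := by
      have := congrArg Complex.re hn
      simpa [Complex.mul_conj] using this
    intro x y
    have h1 := (Finset.sum_eq_zero_iff_of_nonneg fun x _ =>
      Finset.sum_nonneg fun y _ => Complex.normSq_nonneg _).1 hre x (Finset.mem_univ _)
    exact Complex.normSq_eq_zero.1 ((Finset.sum_eq_zero_iff_of_nonneg fun y _ =>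
      Complex.normSq_nonneg _).1 h1 y (Finset.mem_univ _))
  have : ∑ g : G, kerFn K g * conj ((φ : G → ℂ) g) = ∑ x : X, ∑ y : X, (K x y : ℂ) * P x y := by
    simp only [kerFn, P, Finset.sum_mul, Finset.mul_sum]
    rw [Finset.sum_comm]
    refine Finset.sum_congr rfl fun x _ => ?_
    conv_rhs => rw [Finset.sum_comm]
    refine Finset.sum_congr rfl fun g _ => ?_
    rw [Finset.sum_eq_single (g • x)]
    · rw [if_pos rfl]
    · intro y _ hy; rw [if_neg (Ne.symm hy), mul_zero]
    · exact fun h => absurd (Finset.mem_univ _) h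
  simp [Cfsg.classInner, this, hP]

open scoped Classical in
/-- Twice the character of the part of sign `ε` of a twisted action. -/
noncomputable def tw (ε : ℤ) (s : X → X) (g : G) : ℂ :=
  ∑ x : X, ((if g • x = x then (1 : ℂ) else 0) + if g • x = s x then (ε : ℂ) else 0)

/-- A kernel of sign `ε` in the second place is orthogonal to all characters outside that part. -/
theorem classInner_kerFn_twist {ε : ℤ} (hε : ε * ε = 1) (s : X ≃ X) (hs : ∀ x, s (s x) = x) (hsg : ∀ (g : G) x, g • s x = s (g • x))
    (K : X → X → ℤ) (hK : ∀ x y, K x (s y) = ε * K x y) (φ : Cfsg.IrrCharacter G)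
    (hφ : Cfsg.classInner (tw (G := G) ε s) (φ : G → ℂ) = 0) :
    Cfsg.classInner (kerFn K) (φ : G → ℂ) = 0 := by
  classical
  let P : X → X → ℂ := fun x y => ∑ g : G,
    ((if g • x = y then (1 : ℂ) else 0) + if g • x = s y then (ε : ℂ) else 0) * conj ((φ : G → ℂ) g)
  have h0 : ∑ k : G, tw (G := G) ε s k * (φ : G → ℂ) k = 0 := by
    have h1 : ∑ k : G, tw (G := G) ε s k * conj ((φ : G → ℂ) k) = 0 := by
      simpa [Cfsg.classInner, Nat.card_pos.ne'] using hφ
    have h2 := congrArg (starRingEnd ℂ) h1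
    rw [map_sum, map_zero] at h2
    simpa [tw, apply_ite (starRingEnd ℂ)] using h2
  have hsy : ∀ {x y : X}, x = s y ↔ s x = y := fun {x y} =>
    ⟨fun e => by rw [e, hs], fun e => by rw [← e, hs]⟩
  have hn : ∑ x : X, ∑ y : X, P x y * conj (P x y) = 0 := by
    have : ∑ x : X, ∑ y : X, P x y * conj (P x y) =
        2 * ∑ g : G, ∑ h : G, conj ((φ : G → ℂ) g) * (φ : G → ℂ) h * tw (G := G) ε s (g⁻¹ * h) := by
      simp only [P, map_sum, Finset.sum_mul, Finset.mul_sum, tw]
      calc _ = ∑ x : X, ∑ g : G, ∑ h : G, ∑ y : X,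
            (((if g • x = y then (1 : ℂ) else 0) + if g • x = s y then (ε : ℂ) else 0) * conj ((φ : G → ℂ) g)) *
            conj (((if h • x = y then (1 : ℂ) else 0) + if h • x = s y then (ε : ℂ) else 0) *
              conj ((φ : G → ℂ) h)) :=
          Finset.sum_congr rfl fun x _ => by
            conv_lhs => rw [Finset.sum_comm]
            conv_rhs => rw [Finset.sum_comm]
            exact Finset.sum_congr rfl fun h _ => by rw [Finset.sum_comm]
        _ = _ := by
          rw [Finset.sum_comm]
          refine Finset.sum_congr rfl fun g _ => ?_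
          rw [Finset.sum_comm]
          refine Finset.sum_congr rfl fun h _ => Finset.sum_congr rfl fun x _ => ?_
          have e1 : (g⁻¹ * h) • x = x ↔ h • x = g • x := by rw [mul_smul, inv_smul_eq_iff]
          have e2 : (g⁻¹ * h) • x = s x ↔ h • x = s (g • x) := by
            rw [mul_smul, inv_smul_eq_iff, hsg]
          simp only [map_mul, map_add, apply_ite (starRingEnd ℂ), map_one, map_zero,
            Complex.conj_conj, e1, e2, hsy, add_mul, mul_add, ite_mul, mul_ite, one_mul, zero_mul,
            mul_one, mul_zero, Finset.sum_add_distrib]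
          have d1 : ∀ a b : X, s a = b ↔ a = s b := fun a b =>
            ⟨fun e => by rw [← e, hs], fun e => by rw [e, hs]⟩
          simp only [Finset.sum_ite_eq, Finset.mem_univ, if_true]
          simp only [d1, hs, eq_comm (a := g • x) (b := h • x), eq_comm (a := s (g • x)) (b := h • x)]
          have d2 : g • x = s (h • x) ↔ h • x = s (g • x) :=
            ⟨fun e => by rw [e, hs], fun e => by rw [e, hs]⟩
          have hεc : (ε : ℂ) * ε = 1 := by exact_mod_cast hε
          simp only [d2]
          split_ifs <;> (try simp only [map_intCast]) <;>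
            first
            | ring1
            | linear_combination ((conj ((φ : G → ℂ) g)) * (φ : G → ℂ) h) * hεc
            | linear_combination (-(conj ((φ : G → ℂ) g)) * (φ : G → ℂ) h) * hεc
    rw [this, conv_sum, h0, mul_zero, mul_zero]
  have hP : ∀ x y, P x y = 0 := by
    have hre : ∑ x : X, ∑ y : X, Complex.normSq (P x y) = 0 := by
      have := congrArg Complex.re hn
      simpa [Complex.mul_conj] using this
    intro x y
    have h1 := (Finset.sum_eq_zero_iff_of_nonneg fun x _ =>
      Finset.sum_nonneg fun y _ => Complex.normSq_nonneg _).1 hre x (Finset.mem_univ _)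
    exact Complex.normSq_eq_zero.1 ((Finset.sum_eq_zero_iff_of_nonneg fun y _ =>
      Complex.normSq_nonneg _).1 h1 y (Finset.mem_univ _))
  have hz : ∑ x : X, ∑ y : X, (K x y : ℂ) * P x y = 0 := by simp [hP]
  have : 2 * ∑ g : G, kerFn K g * conj ((φ : G → ℂ) g) = ∑ x : X, ∑ y : X, (K x y : ℂ) * P x y := by
    simp only [P, Finset.mul_sum]
    rw [Finset.sum_congr rfl fun x _ => Finset.sum_comm, Finset.sum_comm]
    refine Finset.sum_congr rfl fun g _ => ?_
    simp only [kerFn, Finset.sum_mul, Finset.mul_sum]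
    refine Finset.sum_congr rfl fun x _ => ?_
    simp only [hsy, add_mul, mul_add, ite_mul, mul_ite, one_mul, zero_mul, mul_one, mul_zero,
      Finset.sum_add_distrib, Finset.sum_ite_eq, Finset.mem_univ, if_true, hK]
    have hεc : (ε : ℂ) * ε = 1 := by exact_mod_cast hε
    push_cast
    linear_combination (-((K x (g • x) : ℂ) * conj ((φ : G → ℂ) g))) * hεc
  rw [hz, mul_eq_zero] at this
  simp [Cfsg.classInner, this.resolve_left two_ne_zero]

/-- The inner product with a permutation character. -/
theorem classInner_kerFn_pc {Ω : Type w} [MulAction G Ω] [Fintype Ω] [DecidableEq Ω]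
    (K : X → X → ℤ) :
    Cfsg.classInner (kerFn K) (pc (G := G) Ω) = (Nat.card G : ℂ)⁻¹ *
      ((∑ a : Ω, ∑ x : X, ∑ g : G, if g • a = a then K x (g • x) else 0 : ℤ) : ℂ) := by
  simp only [Cfsg.classInner, kerFn, pc_eq, map_sum, apply_ite (starRingEnd ℂ), map_one, map_zero]
  congr 1
  push_cast
  rw [Finset.sum_congr rfl fun g _ => Finset.mul_sum _ _ _, Finset.sum_comm]
  refine Finset.sum_congr rfl fun a _ => ?_
  rw [Finset.sum_congr rfl fun g _ => Finset.sum_mul _ _ _, Finset.sum_comm]
  refine Finset.sum_congr rfl fun x _ => Finset.sum_congr rfl fun g _ => ?_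
  split_ifs <;> simp

open scoped Classical in
/-- Summing a function over a stabiliser and over an orbit. -/
theorem sum_orbit (H : Finset G) (S : Finset X) (x : X) (F : X → ℤ)
    (hmem : ∀ g ∈ H, g • x ∈ S)
    (htr : ∀ y ∈ S, ∀ y' ∈ S, ∃ k : G, (∀ g, k * g ∈ H ↔ g ∈ H) ∧ k • y = y') :
    (S.card : ℤ) * ∑ g ∈ H, F (g • x) = (H.card : ℤ) * ∑ y ∈ S, F y := by
  rcases S.eq_empty_or_nonempty with rfl | ⟨y0, hy0⟩
  · rw [Finset.eq_empty_of_forall_notMem fun g hg => Finset.notMem_empty _ (hmem g hg)]
    simp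
  set c := (H.filter fun g => g • x = y0).card with hc
  have hfib : ∀ y ∈ S, (H.filter fun g => g • x = y).card = c := by
    intro y hy
    obtain ⟨k, hk, rfl⟩ := htr y0 hy0 y hy
    refine (Finset.card_bij (fun g _ => k * g) ?_ ?_ ?_).symm
    · intro g hg
      simp only [Finset.mem_filter] at hg ⊢
      exact ⟨(hk g).2 hg.1, by rw [mul_smul, hg.2]⟩
    · exact fun g _ g' _ e => mul_left_cancel e
    · intro g hg
      simp only [Finset.mem_filter] at hg ⊢
      refine ⟨k⁻¹ * g, ⟨(hk _).1 (by simpa using hg.1), ?_⟩, by simp⟩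
      rw [mul_smul, hg.2, inv_smul_smul]
  have hH : H.card = S.card * c := by
    rw [Finset.card_eq_sum_card_fiberwise (f := fun g => g • x) (t := S) hmem,
      Finset.sum_congr rfl hfib, Finset.sum_const, smul_eq_mul]
  rw [← Finset.sum_fiberwise_of_maps_to hmem, hH, Finset.mul_sum, Finset.mul_sum]
  refine Finset.sum_congr rfl fun y hy => ?_
  rw [Finset.sum_congr rfl fun g hg => show F (g • x) = F y by rw [(Finset.mem_filter.1 hg).2],
    Finset.sum_const, hfib y hy, nsmul_eq_mul]
  push_cast
  ring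

/-- A kernel times its transpose. -/
def mulT {Y : Type w} [Fintype Y] (K : X → Y → ℤ) (x x' : X) : ℤ := ∑ z : Y, K x z * K x' z

section

variable {Y : Type w} [MulAction G Y] [Fintype Y]

theorem inv_swap {K : X → Y → ℤ} (hK : Inv G K) : Inv G (fun y x => K x y) :=
  fun g y x => hK g x y

theorem inv_mulT {K : X → Y → ℤ} (hK : Inv G K) : Inv G (mulT K) := by
  intro g x x'
  refine (Fintype.sum_equiv (MulAction.toPerm g) _ _ fun z => ?_).symm
  show K x z * K x' z = K (g • x) (g • z) * K (g • x') (g • z)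
  rw [hK g, hK g]

/-- The two products of a kernel and its transpose have one trace function. -/
theorem kerFn_mulT_swap {K : X → Y → ℤ} (hK : Inv G K) (g : G) :
    kerFn (mulT K) g = kerFn (mulT fun y x => K x y) g := by
  simp only [kerFn, mulT, Int.cast_sum, Int.cast_mul]
  rw [Finset.sum_comm]
  refine Fintype.sum_equiv (MulAction.toPerm g⁻¹) _ _ fun z => Finset.sum_congr rfl fun x _ => ?_
  simp only [toPerm_apply, smul_inv_smul]
  rw [← hK g⁻¹ (g • x) z, inv_smul_smul, mul_comm]

theorem eq_zero_of_mulT {K : X → Y → ℤ} (h : kerFn (mulT K) (1 : G) = 0) : ∀ x y, K x y = 0 := by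
  rw [kerFn_one, Int.cast_eq_zero] at h
  intro x y
  have h1 := (Finset.sum_eq_zero_iff_of_nonneg fun x _ =>
    Finset.sum_nonneg fun z _ => mul_self_nonneg (K x z)).1 h x (Finset.mem_univ _)
  exact mul_self_eq_zero.1 ((Finset.sum_eq_zero_iff_of_nonneg fun z _ =>
    mul_self_nonneg (K x z)).1 h1 y (Finset.mem_univ _))

end

end Cfsg.Agent.ItoTwoQ

namespace Cfsg.Agent.ItoTwoQ

open MulAction Cfsg.Agent.Char

universe u v

variable {G : Type u} [Group G] [Fintype G] {X : Type v} [MulAction G X] [Fintype X]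

open scoped Classical in
/-- Half the twisted count is a character. -/
theorem isCharacter_tw {ε : ℤ} (hε : ε * ε = 1) (s : X ≃ X) (hs : ∀ x, s (s x) = x)
    (hsg : ∀ (g : G) x, g • s x = s (g • x)) :
    Cfsg.IsCharacter G (fun g => (2 : ℂ)⁻¹ * tw (G := G) ε s g) := by
  have hεc : (ε : ℂ) * ε = 1 := by exact_mod_cast hε
  let ρ := Cfsg.permRep ℂ G X
  have happ : ∀ (g : G) (f : X → ℂ) (x : X), ρ g f x = f (g⁻¹ • x) := fun g f x => rfl
  let S : Submodule ℂ (X → ℂ) :=
    { carrier := {f | ∀ x, f (s x) = ε * f x}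
      add_mem' := fun {a b} ha hb x => by simp [ha x, hb x, mul_add]
      zero_mem' := fun x => by simp
      smul_mem' := fun c a ha x => by simp [ha x, mul_left_comm] }
  let W : Subrepresentation ρ := ⟨S, fun g f hf x => by
    rw [happ, happ, hsg]
    exact hf _⟩
  let P : (X → ℂ) →ₗ[ℂ] (X → ℂ) :=
    { toFun := fun f x => (2 : ℂ)⁻¹ * (f x + ε * f (s x))
      map_add' := fun a b => by ext x; simp; ring
      map_smul' := fun c a => by ext x; simp; ring }
  have hP : ∀ f, P f ∈ S := fun f x => by
    show (2 : ℂ)⁻¹ * (f (s x) + ε * f (s (s x))) = ε * ((2 : ℂ)⁻¹ * (f x + ε * f (s x)))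
    rw [hs]
    linear_combination (-(2 : ℂ)⁻¹ * f (s x)) * hεc
  have hid : ∀ f ∈ S, P f = f := fun f hf => by
    ext x
    show (2 : ℂ)⁻¹ * (f x + ε * f (s x)) = f x
    rw [hf x]
    linear_combination ((2 : ℂ)⁻¹ * f x) * hεc
  have h := isCharacter_of_rep W.toRepresentation
  convert h using 1
  funext g
  have hA : ∀ f, (ρ g ∘ₗ P) f ∈ S := fun f => W.apply_mem_toSubmodule g (hP f)
  have h1 : LinearMap.trace ℂ S ((ρ g ∘ₗ P).restrict fun f _ => hA f) =
      LinearMap.trace ℂ (X → ℂ) (ρ g ∘ₗ P) :=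
    LinearMap.trace_restrict_eq_of_forall_mem _ _ hA
  have h2 : (ρ g ∘ₗ P).restrict (fun f _ => hA f) = W.toRepresentation g := by
    refine LinearMap.ext fun f => Subtype.ext ?_
    show ρ g (P f) = ρ g f
    rw [hid f f.2]
  rw [Representation.character, ← h2]
  refine Eq.trans ?_ h1.symm
  rw [LinearMap.trace_eq_matrix_trace ℂ (Pi.basisFun ℂ X), tw, Finset.mul_sum]
  refine Finset.sum_congr rfl fun x _ => ?_
  rw [Matrix.diag_apply, LinearMap.toMatrix_apply, Pi.basisFun_repr, Pi.basisFun_apply]
  show _ = (2 : ℂ)⁻¹ * ((Pi.single x (1 : ℂ) : X → ℂ) (g⁻¹ • x) + ε * (Pi.single x (1 : ℂ) : X → ℂ) (s (g⁻¹ • x)))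
  have e1 : g⁻¹ • x = x ↔ g • x = x := by rw [inv_smul_eq_iff, eq_comm]
  have e2 : s (g⁻¹ • x) = x ↔ g • x = s x := by
    rw [← hsg, inv_smul_eq_iff]
    exact eq_comm
  simp only [Pi.single_apply, e1, e2, mul_ite, mul_one, mul_zero]

end Cfsg.Agent.ItoTwoQ
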