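import Cfsg.Agent.Lib.ItoTwoQ.Colour
import Cfsg.Agent.Lib.ItoTwoQ.ColourTwo
import Cfsg.Agent.Lib.ItoTwoQ.Family
import Cfsg.Agent.Lib.HalfNorm.Basic
import Cfsg.Agent.Lib.FGStruct.JordanCycle
import Cfsg.Agent.Lib.Perm.Burnside
import Cfsg.Agent.S3612

/-!
Insoluble groups of prime degree `p = 2q + 1`, `q ≥ 11`, whose Sylow normaliser has half the largest order.
-/

set_option autoImplicit false
set_option linter.unusedSectionVars false
set_option linter.style.haveILetI false

namespace Cfsg.Agent.ItoTwoQ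

open MulAction Equiv
open Cfsg.Agent.PermPrime (burnside sylow_card)

universe u v

variable {G : Type u} [Group G] [Finite G] {Ω : Type v} [MulAction G Ω] [FaithfulSMul G Ω]
  [IsPretransitive G Ω] [Fintype Ω] [DecidableEq Ω]

omit [Finite G] [FaithfulSMul G Ω] [IsPretransitive G Ω] in
/-- Transitivity passes from the group of permutations. -/
theorem multiple_of_range {n : ℕ} (h : IsMultiplyPretransitive (MulAction.toPermHom G Ω).range Ω n) :
    IsMultiplyPretransitive G Ω n := by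
  rw [isMultiplyPretransitive_iff] at h ⊢
  intro x y
  obtain ⟨⟨σ, g, rfl⟩, hg⟩ := h (x := x) (y := y)
  exact ⟨g, Function.Embedding.ext fun i => DFunLike.congr_fun hg i⟩

omit [Finite G] [FaithfulSMul G Ω] [IsPretransitive G Ω] in
/-- The alternating group is quadruply transitive. -/
theorem four_of_alt (h6 : 6 ≤ Fintype.card Ω) (h : alternatingGroup Ω ≤ (MulAction.toPermHom G Ω).range) :
    IsMultiplyPretransitive G Ω 4 := by
  haveI := alternatingGroup.isMultiplyPretransitive Ω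
  have h4 : IsMultiplyPretransitive (alternatingGroup Ω) Ω 4 :=
    isMultiplyPretransitive_of_le' (n := Nat.card Ω - 2) (by rw [Nat.card_eq_fintype_card]; omega)
      (by simp)
  refine multiple_of_range ?_
  rw [isMultiplyPretransitive_iff] at h4 ⊢
  intro x y
  obtain ⟨⟨σ, hσ⟩, hg⟩ := h4 (x := x) (y := y)
  exact ⟨⟨σ, h hσ⟩, Function.Embedding.ext fun i => DFunLike.congr_fun hg i⟩

variable {p q : ℕ} [Fact p.Prime]

omit [FaithfulSMul G Ω] [IsPretransitive G Ω] in
/-- All permutations are even. -/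
theorem all_even (P : Sylow p G) (hodd : Odd (Nat.card (Subgroup.normalizer ((P : Subgroup G) : Set G))))
    (g : G) : Equiv.Perm.sign (toPerm g : Equiv.Perm Ω) = 1 := by
  set s : G →* ℤˣ := Equiv.Perm.sign.comp (MulAction.toPermHom G Ω) with hs
  set N := Subgroup.normalizer ((P : Subgroup G) : Set G) with hN
  have hle : N ≤ s.ker := by
    intro n hn
    rw [MonoidHom.mem_ker]
    rcases Int.units_eq_one_or (s n) with h | h
    · exact h
    · exfalso
      have h1 : orderOf (s n) ∣ Nat.card N := (orderOf_map_dvd s n).trans (by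
        rw [← Subgroup.orderOf_mk n hn]; exact orderOf_dvd_natCard _)
      rw [h, orderOf_eq_prime (p := 2) (by norm_num) (by decide)] at h1
      exact (Nat.not_even_iff_odd.2 hodd) (even_iff_two_dvd.2 h1)
  have hP : (P : Subgroup G) ≤ s.ker := Subgroup.le_normalizer.trans hle
  have h := Sylow.normalizer_sup_eq_top' P hP
  have htop : s.ker = ⊤ := eq_top_iff.2 (h.ge.trans (sup_le hle le_rfl))
  have hg : g ∈ s.ker := by rw [htop]; exact Subgroup.mem_top g
  exact hg

omit [Fintype Ω] [DecidableEq Ω] [IsPretransitive G Ω] in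
theorem exists_frame (C : Cfsg.Agent.HalfNorm.Coord G Ω p) (hpq : p = 2 * q + 1) (hq : 11 ≤ q) :
    Nonempty (Frame G Ω p q) := by
  obtain ⟨u, hu⟩ := IsCyclic.exists_ofOrder_eq_natCard (α := (ZMod p)ˣ)
  rw [Nat.card_eq_fintype_card, ZMod.card_units, ← orderOf_units, show p - 1 = 2 * q by omega] at hu
  have hr : orderOf ((u : ZMod p) ^ 2) = q := by
    rw [orderOf_pow' _ two_ne_zero, hu, Nat.gcd_eq_right (dvd_mul_right 2 q)]
    omega
  choose a ha using fun (v : ZMod q × ZMod p) => C.affine (((u ^ v.1.val : (ZMod p)ˣ) : ZMod p)) v.2 (Units.ne_zero _)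
  refine ⟨⟨C.e, (u : ZMod p) ^ 2, hr, fun i z => a (i, z), fun i z j => ?_, hpq, hq⟩⟩
  rw [ha, Units.val_pow_eq_pow_val, ← pow_mul, ← pow_mul, mul_comm 2]

variable [Fact q.Prime] (F : Frame G Ω p q)

omit [DecidableEq Ω] in
/-- The normaliser of the translations. -/
theorem Frame.norm_of_card (hΩ : Nat.card Ω = p) (P : Sylow p G)
    (hN : Nat.card (Subgroup.normalizer ((P : Subgroup G) : Set G)) = q * p) (g : G) (c : ZMod p)
    (hg : g * F.nel 0 1 * g⁻¹ = F.nel 0 c) : ∃ i z, g = F.nel i z := by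
  classical
  set τ := F.nel 0 1 with hτ
  set T := Subgroup.zpowers τ with hT
  have hoτ : orderOf τ = p := F.orderOf_nel' one_ne_zero
  have hmem : ∀ c : ZMod p, F.nel 0 c ∈ T := fun c => by
    refine ⟨(c.val : ℤ), ?_⟩
    show τ ^ (c.val : ℤ) = _
    rw [zpow_natCast, hτ, F.nel_pow', ZMod.natCast_zmod_val, mul_one]
  have hof : ∀ x ∈ T, ∃ c, x = F.nel 0 c := fun x hx => by
    obtain ⟨n, rfl⟩ := ((isOfFinOrder_of_finite τ).mem_powers_iff_mem_zpowers).2 hx
    exact ⟨(n : ZMod p), by show τ ^ n = _; rw [hτ, F.nel_pow', mul_one]⟩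
  have hTc : Nat.card T = p := by rw [hT, Nat.card_zpowers, hoτ]
  obtain ⟨Q, hQ⟩ := (IsPGroup.of_card (n := 1) (p := p) (G := T) (by rw [hTc, pow_one])).exists_le_sylow
  have hQT : (Q : Subgroup G) = T :=
    (Subgroup.eq_of_le_of_card_ge hQ (by rw [hTc]; exact (sylow_card hΩ Q).le)).symm
  have hNQ : Nat.card (Subgroup.normalizer ((Q : Subgroup G) : Set G)) = q * p := by
    have h1 := Sylow.card_eq_index_normalizer Q
    have h2 := Sylow.card_eq_index_normalizer P
    have h3 := ((Subgroup.normalizer ((Q : Subgroup G) : Set G)).card_mul_index).trans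
      (Subgroup.normalizer ((P : Subgroup G) : Set G)).card_mul_index.symm
    have h12 : (Subgroup.normalizer ((Q : Subgroup G) : Set G)).index =
        (Subgroup.normalizer ((P : Subgroup G) : Set G)).index := h1.symm.trans h2
    rw [← h12, hN] at h3
    exact Nat.eq_of_mul_eq_mul_right (Nat.pos_of_ne_zero Subgroup.index_ne_zero_of_finite) h3
  have hle : F.nsub ≤ Subgroup.normalizer ((Q : Subgroup G) : Set G) := by
    intro n hn
    rw [Subgroup.mem_normalizer_iff, hQT]
    intro h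
    have key : ∀ m ∈ F.nsub, ∀ x ∈ T, m * x * m⁻¹ ∈ T := by
      rintro _ ⟨⟨i, z⟩, rfl⟩ x hx
      obtain ⟨d, rfl⟩ := hof x hx
      rw [F.nel_conj]
      exact hmem _
    refine ⟨key n hn h, fun hh => ?_⟩
    have := key _ (F.nsub.inv_mem hn) _ hh
    rwa [inv_inv, show n⁻¹ * (n * h * n⁻¹) * n = h by group] at this
  have heq := Subgroup.eq_of_le_of_card_ge hle (by
    rw [hNQ, Nat.card_congr F.nEquiv.symm, Nat.card_prod, Nat.card_zmod, Nat.card_zmod])
  have hgn : g ∈ Subgroup.normalizer ((Q : Subgroup G) : Set G) := by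
    rw [Subgroup.mem_normalizer_iff, hQT]
    let f : T → T := fun x => ⟨g * x * g⁻¹, by
      obtain ⟨n, hn⟩ := ((isOfFinOrder_of_finite τ).mem_powers_iff_mem_zpowers).2 x.2
      rw [← show τ ^ n = (x : G) from hn, ← conj_pow, hg]
      exact T.pow_mem (hmem c) n⟩
    have hfi : Function.Injective f := fun x y h => Subtype.ext (mul_left_cancel (mul_right_cancel
      (congrArg Subtype.val h : g * (x : G) * g⁻¹ = g * (y : G) * g⁻¹)))
    intro h
    refine ⟨fun hh => (f ⟨h, hh⟩).2, fun hh => ?_⟩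
    obtain ⟨x, hx⟩ := (Finite.injective_iff_surjective.1 hfi) ⟨_, hh⟩
    have := mul_left_cancel (mul_right_cancel (congrArg Subtype.val hx : g * (x : G) * g⁻¹ = g * h * g⁻¹))
    exact this ▸ x.2
  rw [← heq] at hgn
  obtain ⟨⟨i, z⟩, rfl⟩ := hgn
  exact ⟨i, z, rfl⟩

/-- The case `q ≥ 11`. -/
theorem large (hΩ : Nat.card Ω = p) (hins : ¬ Group.IsSolvable G) (P : Sylow p G)
    (hN : 2 * Nat.card (Subgroup.normalizer ((P : Subgroup G) : Set G)) = p * (p - 1))
    (hpq : p = 2 * q + 1) (hq : 11 ≤ q) : IsMultiplyPretransitive G Ω 4 := by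
  classical
  letI := Fintype.ofFinite G
  by_cases halt : alternatingGroup Ω ≤ (MulAction.toPermHom G Ω).range
  · exact four_of_alt (by rw [← Nat.card_eq_fintype_card, hΩ]; omega) halt
  have hNc : Nat.card (Subgroup.normalizer ((P : Subgroup G) : Set G)) = q * p := by
    rw [show p - 1 = 2 * q by omega, show p * (2 * q) = 2 * (q * p) by ring] at hN
    omega
  obtain ⟨⟨C⟩, -⟩ := Cfsg.Agent.HalfNorm.exists_coords hΩ P hN
  obtain ⟨F⟩ := exists_frame C hpq hq
  have heven : ∀ g : G, Equiv.Perm.sign (toPerm g : Equiv.Perm Ω) = 1 := by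
    refine all_even P ?_
    rw [hNc]
    exact Nat.odd_mul.2 ⟨(Fact.out : q.Prime).odd_of_ne_two (by omega), ⟨q, by omega⟩⟩
  have hcyc : ∀ g : G, (toPerm g : Equiv.Perm Ω).IsCycle →
      (toPerm g : Equiv.Perm Ω).support.card ≠ q := by
    intro g hgc hgs
    refine halt (Cfsg.Agent.JordanCycle.alternatingGroup_le_of_prime_cycle ?_ (Fact.out : q.Prime) ?_ hgc hgs
      ⟨g, rfl⟩)
    · haveI : IsPretransitive (MulAction.toPermHom G Ω).range Ω := ⟨fun a b => by
        obtain ⟨k, hk⟩ := exists_smul_eq G a b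
        exact ⟨⟨_, k, rfl⟩, hk⟩⟩
      exact IsPreprimitive.of_prime_card (hΩ ▸ (Fact.out : p.Prime))
    · rw [← Nat.card_eq_fintype_card, hΩ]
      omega
  haveI : F.Good := ⟨F.cent_of_no_cycle heven hcyc, F.norm_of_card hΩ P hNc⟩
  have hH := F.exists_mem_ne_one hins
  by_cases h3 : IsMultiplyPretransitive G Ω 3
  · exact F.four_trans h3 hins hH
  exfalso
  obtain ⟨D⟩ := Cfsg.Agent.HalfNorm.exists_tri hΩ hins C h3
  have h2 : IsMultiplyPretransitive G Ω 2 := (burnside hΩ).resolve_left hins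
  have hprim := Cfsg.Agent.S3612.result p (Fact.out : p.Prime) hΩ inferInstance hins P hN (by omega) (F.e 0)
  by_cases hk : ∃ k ∈ F.hGroup, k * k ≠ 1
  · obtain ⟨k, hk, hkk⟩ := hk
    exact F.colour_false D hins heven h2 hprim hk hkk
  push Not at hk
  have hpm : ∀ k : (ZMod q)ˣ, k ∈ F.hGroup ↔ k = 1 ∨ k = -1 := by
    have h1 : ∀ k : (ZMod q)ˣ, k ∈ F.hGroup → k = 1 ∨ k = -1 := fun k h => by
      have h' := congrArg (fun x : (ZMod q)ˣ => (x : ZMod q)) (hk k h)
      simp only [Units.val_mul, Units.val_one, mul_self_eq_one_iff] at h'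
      rcases h' with e | e
      · exact Or.inl (Units.ext e)
      · exact Or.inr (Units.ext (by rw [e, Units.val_neg, Units.val_one]))
    obtain ⟨k, hkm, hk1⟩ := hH
    have hneg : (-1 : (ZMod q)ˣ) ∈ F.hGroup := (h1 k hkm).resolve_left hk1 ▸ hkm
    exact fun k => ⟨h1 k, fun h => h.elim (fun e => e ▸ one_mem _) (fun e => e ▸ hneg)⟩
  obtain ⟨hnum, s, -, hqs, hcard⟩ := F.colour_num D h2 hprim
  exact F.false_of_two h2 D ⟨s, hqs⟩ hpm fun φ hφ hφ1 => F.not_fixed hnum h2 hqs hcard φ hφ hφ1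

end Cfsg.Agent.ItoTwoQ
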