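import Cfsg.Agent.Lib.ItoTwoQ.Setting

/-!
The power maps fixing the elements of order prime to `q`, and the orbits of irreducible characters.
-/

set_option autoImplicit false
set_option linter.unusedSectionVars false
set_option linter.style.haveILetI false

namespace Cfsg.Agent.ItoTwoQ

open MulAction Cfsg.Agent.Char
open scoped ComplexConjugate
open Cfsg.Agent.TwiceP (chi)

universe u v

variable {G : Type u} [Group G] {Ω : Type v} [MulAction G Ω]
variable {p q : ℕ} (F : Frame G Ω p q) [Fact p.Prime] [Fact q.Prime]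
variable [Fintype G] [FaithfulSMul G Ω] [Fintype Ω] [F.Good]

namespace Frame

include F

theorem sylow_q {Q : Sylow q G} (hQ : F.nel 1 0 ∈ (Q : Subgroup G)) :
    (Q : Subgroup G) = Subgroup.zpowers (F.nel 1 0) := by
  have hx : ∀ g, Commute g (F.nel 1 0) → g ∈ Subgroup.zpowers (F.nel 1 0) := fun g hg => by
    obtain ⟨i, rfl⟩ := F.cent g hg
    refine ⟨(i.val : ℤ), ?_⟩
    show F.nel 1 0 ^ ((i.val : ℕ) : ℤ) = F.nel i 0
    rw [zpow_natCast, F.nel_pow, mul_one, ZMod.natCast_zmod_val]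
  refine le_antisymm (fun g hg => hx g ?_) (Subgroup.zpowers_le.2 hQ)
  haveI : Nontrivial (Q : Subgroup G) := ⟨⟨⟨_, hQ⟩, 1, fun h => one_ne_zero (α := ZMod q)
    (F.nel_inj ((congrArg Subtype.val h).trans F.nel_zero.symm)).1⟩⟩
  haveI := IsPGroup.center_nontrivial Q.isPGroup'
  obtain ⟨z, hz⟩ := exists_ne (1 : Subgroup.center (Q : Subgroup G))
  · have hzc := Subgroup.mem_center_iff.1 z.2
    have hzx : Commute ((z : (Q : Subgroup G)) : G) (F.nel 1 0) :=
      (congrArg Subtype.val (hzc ⟨_, hQ⟩)).symm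
    obtain ⟨i, hi⟩ := F.cent _ hzx
    have hi0 : i ≠ 0 := fun h => hz (Subtype.ext (Subtype.ext (by
      rw [hi, h, F.nel_zero]; rfl)))
    have hgz : Commute g (F.nel i 0) := hi ▸ (congrArg Subtype.val (hzc ⟨g, hg⟩) : _)
    have h1 := hgz.pow_right (i⁻¹ : ZMod q).val
    rwa [F.nel_pow, ZMod.natCast_zmod_val, inv_mul_cancel₀ hi0] at h1

theorem sylow_q_card : ∀ Q : Sylow q G, Nat.card (Q : Subgroup G) = q := by
  intro Q
  have hord := F.orderOf_nel (one_ne_zero (α := ZMod q))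
  obtain ⟨Q', hQ'⟩ := (IsPGroup.of_card (n := 1) (p := q) (G := Subgroup.zpowers (F.nel 1 0))
    (by rw [Nat.card_zpowers, hord, pow_one])).exists_le_sylow
  rw [Q.card_eq_multiplicity, ← Q'.card_eq_multiplicity,
    F.sylow_q (hQ' (Subgroup.mem_zpowers _)), Nat.card_zpowers, hord]

theorem not_sq_q : ¬ q ^ 2 ∣ Nat.card G := fun h => by
  obtain ⟨Q⟩ := (inferInstance : Nonempty (Sylow q G))
  have h1 := Q.pow_dvd_card_of_pow_dvd_card h
  rw [F.sylow_q_card Q] at h1
  have := Nat.le_of_dvd F.q_pos h1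
  have h2 : 2 ≤ q := (Fact.out : q.Prime).two_le
  nlinarith

theorem q_dvd : q ∣ Nat.card G :=
  (F.orderOf_nel (one_ne_zero (α := ZMod q))).symm.dvd.trans (orderOf_dvd_natCard _)

/-- The elements of order divisible by `q` are conjugate to powers of the given one. -/
theorem sing_conj {g : G} (hg : q ∣ orderOf g) : ∃ i : ZMod q, i ≠ 0 ∧ IsConj (F.nel i 0) g := by
  set t := g ^ (orderOf g / q) with ht
  have hto : orderOf t = q := by
    rw [ht, orderOf_pow_orderOf_div (orderOf_pos g).ne' hg]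
  obtain ⟨Q, hQ⟩ := (IsPGroup.of_card (n := 1) (p := q) (G := Subgroup.zpowers t)
    (by rw [Nat.card_zpowers, hto, pow_one])).exists_le_sylow
  obtain ⟨Q', hQ'⟩ := (IsPGroup.of_card (n := 1) (p := q) (G := Subgroup.zpowers (F.nel 1 0))
    (by rw [Nat.card_zpowers, F.orderOf_nel one_ne_zero, pow_one])).exists_le_sylow
  obtain ⟨c, rfl⟩ := MulAction.exists_smul_eq G Q Q'
  have hm : c * t * c⁻¹ ∈ Subgroup.zpowers (F.nel 1 0) := by
    rw [← F.sylow_q (hQ' (Subgroup.mem_zpowers _)), Sylow.coe_subgroup_smul,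
      Subgroup.mem_pointwise_smul_iff_inv_smul_mem]
    simpa [MulAut.smul_def, MulAut.inv_def, MulAut.conj_symm_apply, mul_assoc] using
      hQ (Subgroup.mem_zpowers t)
  obtain ⟨n, hn⟩ := ((isOfFinOrder_of_finite _).mem_powers_iff_mem_zpowers).2 hm
  simp only [F.nel_pow, mul_one] at hn
  have hn0 : ((n : ℕ) : ZMod q) ≠ 0 := fun h => by
    rw [h, F.nel_zero, eq_comm, conj_eq_one_iff] at hn
    rw [hn, orderOf_one] at hto
    exact (Fact.out : q.Prime).one_lt.ne hto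
  have hgt : Commute (c * g * c⁻¹) (c * t * c⁻¹) := by
    have h : Commute g t := Commute.self_pow g _
    simpa [MulAut.conj_apply] using h.map (MulAut.conj c).toMonoidHom
  rw [← hn] at hgt
  have h1 := hgt.pow_right ((n : ZMod q)⁻¹).val
  rw [F.nel_pow, ZMod.natCast_zmod_val, inv_mul_cancel₀ hn0] at h1
  obtain ⟨j, hj⟩ := F.cent _ h1
  refine ⟨j, fun h => ?_, IsConj.symm (isConj_iff.2 ⟨c, hj⟩)⟩
  rw [h, F.nel_zero, conj_eq_one_iff] at hj
  rw [hj, orderOf_one] at hg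
  exact (Fact.out : q.Prime).not_dvd_one hg

theorem exists_pw (k : (ZMod q)ˣ) :
    ∃ K : ℕ, (K : ZMod q) = (k : ZMod q) ∧ K ≡ 1 [MOD 2 * (Nat.card G / q)] := by
  have hco : q.Coprime (2 * (Nat.card G / q)) := by
    rw [(Fact.out : q.Prime).coprime_iff_not_dvd, (Fact.out : q.Prime).dvd_mul]
    rintro (h | h)
    · have := Nat.le_of_dvd two_pos h
      have := F.hq
      omega
    · refine F.not_sq_q ?_
      rw [pow_two, ← Nat.div_mul_cancel F.q_dvd, mul_comm (Nat.card G / q)]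
      exact Nat.mul_dvd_mul_left _ h
  obtain ⟨K, h1, h2⟩ := Nat.chineseRemainder hco (k : ZMod q).val 1
  exact ⟨K, by rw [(ZMod.natCast_eq_natCast_iff _ _ _).2 h1, ZMod.natCast_zmod_val], h2⟩

/-- An exponent acting as `k` on the elements of order `q` and trivially on the others. -/
noncomputable def pw (k : (ZMod q)ˣ) : ℕ := (F.exists_pw k).choose

theorem pw_q (k : (ZMod q)ˣ) : ((F.pw k : ℕ) : ZMod q) = (k : ZMod q) := (F.exists_pw k).choose_spec.1

theorem pw_odd (k : (ZMod q)ˣ) : Odd (F.pw k) := by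
  rw [Nat.odd_iff]
  exact ((F.exists_pw k).choose_spec.2.of_mul_right _ : F.pw k ≡ 1 [MOD 2])

theorem pw_div (k : (ZMod q)ˣ) : F.pw k ≡ 1 [MOD Nat.card G / q] :=
  (F.exists_pw k).choose_spec.2.of_mul_left _

theorem pw_coprime (k : (ZMod q)ˣ) : (F.pw k).Coprime (Nat.card G) := by
  rw [← Nat.div_mul_cancel F.q_dvd]
  refine Nat.Coprime.mul_right ?_ ?_
  · exact (Nat.coprime_iff_gcd_eq_one).2 (by rw [(F.pw_div k).gcd_eq]; simp)
  · refine (Nat.coprime_comm).1 ((Fact.out : q.Prime).coprime_iff_not_dvd.2 fun h => k.ne_zero ?_)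
    rw [← F.pw_q, (ZMod.natCast_eq_zero_iff _ _).2 h]

theorem pow_of_regular (k : (ZMod q)ˣ) {g : G} (hg : ¬ q ∣ orderOf g) : g ^ F.pw k = g := by
  have hd : orderOf g ∣ Nat.card G / q := by
    have h := orderOf_dvd_natCard g
    rw [← Nat.div_mul_cancel F.q_dvd] at h
    exact (Nat.coprime_comm.1 ((Fact.out : q.Prime).coprime_iff_not_dvd.2 hg)).dvd_of_dvd_mul_right h
  conv_rhs => rw [← pow_one g]
  rw [pow_eq_pow_iff_modEq]
  exact (F.pw_div k).of_dvd hd

theorem nel_pow_pw (k : (ZMod q)ˣ) (i : ZMod q) : F.nel i 0 ^ F.pw k = F.nel ((k : ZMod q) * i) 0 := by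
  rw [F.nel_pow, F.pw_q]

/-- The conjugate of a character by a power map. -/
noncomputable def gT (k : (ZMod q)ˣ) (φ : Cfsg.IrrCharacter G) : Cfsg.IrrCharacter G :=
  ⟨fun g => (φ : G → ℂ) (g ^ F.pw k), CharGalois.IsIrrCharacter.powMap φ.2 (F.pw_coprime k)⟩

theorem gT_apply (k : (ZMod q)ˣ) (φ : Cfsg.IrrCharacter G) (g : G) :
    (F.gT k φ : G → ℂ) g = (φ : G → ℂ) (g ^ F.pw k) := rfl

theorem gT_regular (k : (ZMod q)ˣ) (φ : Cfsg.IrrCharacter G) {g : G} (hg : ¬ q ∣ orderOf g) :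
    (F.gT k φ : G → ℂ) g = (φ : G → ℂ) g := by
  rw [gT_apply, F.pow_of_regular k hg]

theorem irr_classFun (φ : Cfsg.IrrCharacter G) : Cfsg.IsClassFunction G (φ : G → ℂ) :=
  IsCharacter.isClassFunction (IsIrrCharacter.isCharacter φ.2)

theorem irr_conj {a b : G} (h : IsConj a b) (φ : Cfsg.IrrCharacter G) :
    (φ : G → ℂ) b = (φ : G → ℂ) a := by
  obtain ⟨c, rfl⟩ := isConj_iff.1 h
  exact F.irr_classFun φ a c

theorem isConj_pow {a b : G} (h : IsConj a b) (n : ℕ) : IsConj (a ^ n) (b ^ n) := by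
  obtain ⟨c, rfl⟩ := isConj_iff.1 h
  exact isConj_iff.2 ⟨c, (conj_pow).symm⟩

theorem gT_mul (k l : (ZMod q)ˣ) (φ : Cfsg.IrrCharacter G) : F.gT k (F.gT l φ) = F.gT (k * l) φ := by
  refine Subtype.ext (funext fun g => ?_)
  simp only [gT_apply]
  by_cases hg : q ∣ orderOf g
  · obtain ⟨i, -, hi⟩ := F.sing_conj hg
    rw [F.irr_conj (F.isConj_pow (F.isConj_pow hi _) _) φ, F.irr_conj (F.isConj_pow hi _) φ,
      F.nel_pow_pw, F.nel_pow_pw, F.nel_pow_pw, Units.val_mul]
    congr 2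
    ring
  · rw [F.pow_of_regular k hg, F.pow_of_regular l hg, F.pow_of_regular _ hg]

theorem gT_one (φ : Cfsg.IrrCharacter G) : F.gT 1 φ = φ := by
  refine Subtype.ext (funext fun g => ?_)
  simp only [gT_apply]
  by_cases hg : q ∣ orderOf g
  · obtain ⟨i, -, hi⟩ := F.sing_conj hg
    rw [F.irr_conj hi φ, F.irr_conj (F.isConj_pow hi _) φ, F.nel_pow_pw, Units.val_one, one_mul]
  · rw [F.pow_of_regular 1 hg]

/-- The exponents fixing the class of the element of order `q`. -/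
def hGroup : Subgroup (ZMod q)ˣ where
  carrier := {k | IsConj (F.nel 1 0) (F.nel (k : ZMod q) 0)}
  one_mem' := IsConj.refl _
  mul_mem' {a b} ha hb := by
    refine IsConj.trans hb ?_
    have := F.isConj_pow ha (b : ZMod q).val
    rw [F.nel_pow, F.nel_pow, mul_one, ZMod.natCast_zmod_val, mul_comm] at this
    simpa using this
  inv_mem' {a} ha := by
    have := F.isConj_pow ha ((a⁻¹ : (ZMod q)ˣ) : ZMod q).val
    rw [F.nel_pow, F.nel_pow, mul_one, ZMod.natCast_zmod_val, ← Units.val_mul, inv_mul_cancel,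
      Units.val_one] at this
    exact IsConj.symm this

theorem isConj_of_mem {k : (ZMod q)ˣ} (hk : k ∈ F.hGroup) (i : ZMod q) :
    IsConj (F.nel i 0) (F.nel ((k : ZMod q) * i) 0) := by
  have := F.isConj_pow (hk : IsConj (F.nel 1 0) (F.nel (k : ZMod q) 0)) i.val
  rwa [F.nel_pow, F.nel_pow, mul_one, ZMod.natCast_zmod_val, mul_comm] at this

theorem gT_of_mem {k : (ZMod q)ˣ} (hk : k ∈ F.hGroup) (φ : Cfsg.IrrCharacter G) : F.gT k φ = φ := by
  refine Subtype.ext (funext fun g => ?_)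
  simp only [gT_apply]
  by_cases hg : q ∣ orderOf g
  · obtain ⟨i, -, hi⟩ := F.sing_conj hg
    rw [F.irr_conj hi φ, F.irr_conj (F.isConj_pow hi _) φ, F.nel_pow_pw,
      F.irr_conj (F.isConj_of_mem hk i) φ]
  · rw [F.pow_of_regular k hg]

theorem fixed_class_iff {k : (ZMod q)ˣ} (hk : k ∉ F.hGroup) (g : G) :
    IsConj (g ^ F.pw k) g ↔ ¬ q ∣ orderOf g := by
  refine ⟨fun h hg => hk ?_, fun hg => by rw [F.pow_of_regular k hg]⟩
  obtain ⟨i, hi0, hi⟩ := F.sing_conj hg
  have h1 : IsConj (F.nel i 0) (F.nel ((k : ZMod q) * i) 0) := by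
    rw [← F.nel_pow_pw]
    exact (hi.trans (IsConj.symm h)).trans (IsConj.symm (F.isConj_pow hi _))
  have h2 := F.isConj_pow h1 (i⁻¹).val
  rw [F.nel_pow, F.nel_pow, ZMod.natCast_zmod_val, inv_mul_cancel₀ hi0, mul_comm, mul_assoc,
    mul_inv_cancel₀ hi0, mul_one] at h2
  exact h2

theorem card_fixed (k : (ZMod q)ˣ) (hk : k ∉ F.hGroup) :
    Nat.card {φ : Cfsg.IrrCharacter G // F.gT k φ = φ} =
      Nat.card {C : ConjClasses G // ∀ g, ConjClasses.mk g = C → ¬ q ∣ orderOf g} := by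
  have h := Cfsg.Agent.Char.card_fixed_irr (fun g : G => g ^ F.pw k) (fun a b h => F.isConj_pow h _)
    fun χ hχ => CharGalois.IsIrrCharacter.powMap hχ (F.pw_coprime k)
  refine Eq.trans (Eq.trans ?_ h) ?_
  · exact Nat.card_congr (Equiv.subtypeEquivRight fun φ =>
      ⟨fun e => congrArg Subtype.val e, fun e => Subtype.ext e⟩)
  · refine Nat.card_congr (Equiv.subtypeEquivRight fun C => forall₂_congr fun g _ => ?_)
    exact F.fixed_class_iff hk g

/-- A character fixed by a power outside the group of the class is fixed by all. -/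
theorem fixed_of_fixed {k : (ZMod q)ˣ} (hk : k ∉ F.hGroup) {φ : Cfsg.IrrCharacter G}
    (hφ : F.gT k φ = φ) (l : (ZMod q)ˣ) : F.gT l φ = φ := by
  classical
  obtain ⟨g0, hg0⟩ := IsCyclic.exists_generator (α := (ZMod q)ˣ)
  have hg0k : g0 ∉ F.hGroup := fun h => hk (by
    obtain ⟨n, rfl⟩ := hg0 k
    exact zpow_mem h n)
  have hsub : ∀ ψ : Cfsg.IrrCharacter G, F.gT g0 ψ = ψ → ∀ l, F.gT l ψ = ψ := by
    intro ψ hψ l
    obtain ⟨n, rfl⟩ := ((isOfFinOrder_of_finite g0).mem_powers_iff_mem_zpowers).2 (hg0 l)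
    induction n with
    | zero => simp only [pow_zero, F.gT_one]
    | succ n ih =>
      simp only at ih ⊢
      rw [pow_succ, ← F.gT_mul, hψ, ih]
  refine hsub φ ?_ l
  let ι : {φ : Cfsg.IrrCharacter G // F.gT g0 φ = φ} → {φ : Cfsg.IrrCharacter G // F.gT k φ = φ} :=
    fun ψ => ⟨ψ.1, hsub ψ.1 ψ.2 k⟩
  have hι : Function.Bijective ι :=
    (Nat.bijective_iff_injective_and_card ι).2 ⟨fun a b h => Subtype.ext (congrArg Subtype.val h :),
      by rw [F.card_fixed g0 hg0k, F.card_fixed k hk]⟩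
  obtain ⟨ψ, hψ⟩ := hι.2 ⟨φ, hφ⟩
  rw [← show ψ.1 = φ from congrArg Subtype.val hψ]
  exact ψ.2

theorem fixedBy_pow_eq {X : Type*} [MulAction G X] {K : ℕ} (hK : K.Coprime (Nat.card G)) (g : G) :
    fixedBy X (g ^ K) = fixedBy X g := by
  ext x
  simp only [mem_fixedBy]
  refine ⟨fun h => ?_, fun h => mem_stabilizer_iff.1 (pow_mem (mem_stabilizer_iff.2 h) K)⟩
  obtain ⟨n, hn⟩ := exists_pow_eq_self_of_coprime
    (hK.coprime_dvd_right (orderOf_dvd_natCard g))
  rw [← hn]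
  exact mem_stabilizer_iff.1 (pow_mem (mem_stabilizer_iff.2 h) n)

/-- A rational class function has the same inner product with a character and its conjugate. -/
theorem inner_gT (k : (ZMod q)ˣ) (φ : Cfsg.IrrCharacter G) (f : G → ℂ)
    (hf : ∀ g, f (g ^ F.pw k) = f g) :
    Cfsg.classInner f (F.gT k φ : G → ℂ) = Cfsg.classInner f (φ : G → ℂ) := by
  simp only [Cfsg.classInner, gT_apply]
  congr 1
  exact Fintype.sum_equiv (powCoprime (G := G) (Nat.coprime_comm.1 (F.pw_coprime k))) _ _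
    fun g => by simp [powCoprime_apply, hf]

theorem md_gT (k : (ZMod q)ˣ) (φ : Cfsg.IrrCharacter G) (j : ZMod q) :
    F.md (F.gT k φ : G → ℂ) ((k : ZMod q) * j) = F.md (φ : G → ℂ) j := by
  have hrow : ∀ i : ZMod q, ∑ z : ZMod p, (F.gT k φ : G → ℂ) (F.nel i z) =
      ∑ z : ZMod p, (φ : G → ℂ) (F.nel ((k : ZMod q) * i) z) := by
    intro i
    refine Finset.sum_congr rfl fun z _ => ?_
    by_cases hi : i = 0
    · subst hi
      rw [mul_zero]
      refine F.gT_regular k φ fun h => ?_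
      by_cases hz : z = 0
      · rw [hz, F.nel_zero, orderOf_one] at h
        exact (Fact.out : q.Prime).not_dvd_one h
      · rw [F.orderOf_nel' hz] at h
        exact F.not_q_dvd_p h
    · rw [gT_apply, F.irr_conj (F.isConj_pow (F.isConj_nel hi z) _) φ, F.nel_pow_pw]
      exact (F.irr_conj (F.isConj_nel (mul_ne_zero k.ne_zero hi) z) φ).symm
  simp only [md, ← Finset.sum_mul]
  congr 1
  refine Fintype.sum_equiv (Units.mulLeft k) _ _ fun i => ?_
  rw [hrow]
  simp only [Units.mulLeft_apply]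
  congr 2
  ring

end Frame

end Cfsg.Agent.ItoTwoQ
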