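import Cfsg.Agent.Lib.ItoTwoQ.Transitive
import Cfsg.Agent.Lib.Char.Integral

/-!
Sums over the orbit of the constituent of mode one.
-/

set_option autoImplicit false
set_option linter.unusedSectionVars false
set_option linter.style.haveILetI false

namespace Cfsg.Agent.ItoTwoQ

open MulAction Cfsg.Agent.Char
open scoped ComplexConjugate
open Cfsg.Agent.TwiceP (chi chi_conj)

universe u v

variable {G : Type u} [Group G] {Ω : Type v} [MulAction G Ω] [Fintype G] [Fintype Ω]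
variable {p q : ℕ} (F : Frame G Ω p q) [Fact p.Prime] [Fact q.Prime] [FaithfulSMul G Ω]
  [IsPretransitive G Ω] [F.Good]

/-- A kernel of sign one in the second place only sees the constituents of `rho`. -/
theorem kerFn_rho {K : Pr Ω → Pr Ω → ℤ} (h : ∀ x y, K x (swp y) = K x y) (ψ : Cfsg.IrrCharacter G)
    (hψ : Cfsg.classInner (rho Ω) (ψ : G → ℂ) = 0) :
    Cfsg.classInner (kerFn K) (ψ : G → ℂ) = 0 := by
  refine classInner_kerFn_twist (ε := 1) (by norm_num) swp swp_swp smul_swp K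
    (fun x y => by rw [one_mul]; exact h x y) ψ ?_
  rw [show (rho (G := G) Ω) = (2 : ℂ)⁻¹ • tw (G := G) 1 (swp (Ω := Ω)) from rfl, classInner_smul_left] at hψ
  simpa using hψ

/-- A kernel of sign minus one in the second place only sees the constituents of `alt`. -/
theorem kerFn_alt {K : Pr Ω → Pr Ω → ℤ} (h : ∀ x y, K x (swp y) = -K x y) (ψ : Cfsg.IrrCharacter G)
    (hψ : Cfsg.classInner (alt Ω) (ψ : G → ℂ) = 0) :
    Cfsg.classInner (kerFn K) (ψ : G → ℂ) = 0 := by
  refine classInner_kerFn_twist (ε := -1) (by norm_num) swp swp_swp smul_swp K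
    (fun x y => by rw [neg_one_mul]; exact h x y) ψ ?_
  rw [show (alt (G := G) Ω) = (2 : ℂ)⁻¹ • tw (G := G) (-1) (swp (Ω := Ω)) from rfl, classInner_smul_left] at hψ
  simpa using hψ

namespace Frame

include F

/-- The powers fixing a character. -/
noncomputable def stabU (φ : Cfsg.IrrCharacter G) : Finset (ZMod q)ˣ := by
  classical
  exact Finset.univ.filter fun k => F.gT k φ = φ

/-- The orbit of a character. -/
noncomputable def orbU (φ : Cfsg.IrrCharacter G) : Finset (Cfsg.IrrCharacter G) := by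
  classical
  exact Finset.univ.image fun k => F.gT k φ

theorem mem_stabU {φ : Cfsg.IrrCharacter G} {k : (ZMod q)ˣ} : k ∈ F.stabU φ ↔ F.gT k φ = φ := by
  classical
  simp [stabU]

theorem mem_orbU {φ ψ : Cfsg.IrrCharacter G} : ψ ∈ F.orbU φ ↔ ∃ k, F.gT k φ = ψ := by
  classical
  simp [orbU]

theorem gT_degree (k : (ZMod q)ˣ) (φ : Cfsg.IrrCharacter G) :
    (F.gT k φ : G → ℂ) 1 = (φ : G → ℂ) 1 :=
  F.gT_regular k φ (by rw [orderOf_one]; exact (Fact.out : q.Prime).not_dvd_one)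

theorem orbit_image_sum (φ : Cfsg.IrrCharacter G) (W : Cfsg.IrrCharacter G → ℂ) :
    ∑ k : (ZMod q)ˣ, W (F.gT k φ) = (F.stabU φ).card * ∑ ψ ∈ F.orbU φ, W ψ := by
  classical
  rw [orbU, ← Finset.sum_fiberwise_of_maps_to (g := fun k => F.gT k φ)
    (t := Finset.univ.image fun k => F.gT k φ) (fun k _ => Finset.mem_image_of_mem _ (Finset.mem_univ k)),
    Finset.mul_sum]
  refine Finset.sum_congr rfl fun ψ hψ => ?_
  obtain ⟨l, -, rfl⟩ := Finset.mem_image.1 hψ
  rw [Finset.sum_congr rfl fun k hk => show W (F.gT k φ) = W (F.gT l φ) by rw [(Finset.mem_filter.1 hk).2],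
    Finset.sum_const, nsmul_eq_mul]
  congr 2
  refine Finset.card_bij (fun k _ => l⁻¹ * k) ?_ (fun a _ b _ h => mul_left_cancel h) ?_
  · intro k hk
    simp only [stabU, Finset.mem_filter, Finset.mem_univ, true_and] at hk ⊢
    rw [← F.gT_mul, hk, F.gT_mul, inv_mul_cancel, F.gT_one]
  · intro k hk
    simp only [stabU, Finset.mem_filter, Finset.mem_univ, true_and] at hk
    refine ⟨l * k, ?_, by rw [inv_mul_cancel_left]⟩
    simp only [Finset.mem_filter, Finset.mem_univ, true_and]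
    rw [← F.gT_mul, hk]

theorem stab_mul_orb (φ : Cfsg.IrrCharacter G) : (F.stabU φ).card * (F.orbU φ).card = q - 1 := by
  have h := F.orbit_image_sum φ fun _ => 1
  simp only [Finset.sum_const, Finset.card_univ, ZMod.card_units, nsmul_eq_mul, mul_one] at h
  exact_mod_cast h.symm

theorem stabU_two
    (φ : Cfsg.IrrCharacter G) (hH : ∃ k ∈ F.hGroup, k ≠ 1) : 2 ≤ (F.stabU φ).card := by
  classical
  obtain ⟨k, hk, hk1⟩ := hH
  refine le_trans (le_of_eq (Finset.card_pair hk1).symm) (Finset.card_le_card ?_)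
  intro l hl
  rw [Finset.mem_insert, Finset.mem_singleton] at hl
  rw [F.mem_stabU]
  rcases hl with rfl | rfl
  · exact F.gT_of_mem hk φ
  · exact F.gT_one φ

/-- The facts about the constituent of mode one of a character whose modes are simple. -/
structure Mode (f : G → ℂ) (φ : Cfsg.IrrCharacter G) : Prop where
  one : Cfsg.classInner f (φ : G → ℂ) = 1
  mult : ∀ k, Cfsg.classInner f (F.gT k φ : G → ℂ) = 1
  uniq : ∀ k : (ZMod q)ˣ, ∀ ψ : Cfsg.IrrCharacter G, Cfsg.classInner f (ψ : G → ℂ) ≠ 0 →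
    F.md (ψ : G → ℂ) (k : ZMod q) ≠ 0 → ψ = F.gT k φ
  md_gT : ∀ k : (ZMod q)ˣ, F.md (F.gT k φ : G → ℂ) (k : ZMod q) = 1
  stab : (∀ k, F.gT k φ = φ) ∨ ∀ k, F.gT k φ = φ ↔ k ∈ F.hGroup
  units : ∑ k : (ZMod q)ˣ, F.md (φ : G → ℂ) (k : ZMod q) = (F.stabU φ).card
  md : ∀ k : (ZMod q)ˣ, F.md (φ : G → ℂ) (k : ZMod q) = if k ∈ F.stabU φ then 1 else 0

theorem exists_mode {f : G → ℂ} (hf : Cfsg.IsCharacter G f) (hr : Rational f)
    (h1 : ∀ j, j ≠ 0 → F.md f j = 1) : ∃ φ, F.Mode f φ := by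
  classical
  obtain ⟨φ, hφ, hφ1, hu, hst, hmd⟩ := F.mode_orbit hf hr h1
  have hgk : ∀ k : (ZMod q)ˣ, F.md (F.gT k φ : G → ℂ) (k : ZMod q) = 1 := fun k => by
    rw [← mul_one (k : ZMod q), F.md_gT, hφ1]
  refine ⟨φ, hφ, fun k => by rw [F.inner_gT' hr, hφ], hu, hgk, hst, ?_, fun k => ?_⟩
  · simp only [hmd, Finset.sum_boole, stabU]
  · rw [hmd]
    simp only [F.mem_stabU]

theorem Mode.md_orb {f : G → ℂ} {φ : Cfsg.IrrCharacter G} (hM : F.Mode f φ) (l : (ZMod q)ˣ) :
    ∑ k : (ZMod q)ˣ, F.md (F.gT l φ : G → ℂ) (k : ZMod q) = (F.stabU φ).card := by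
  rw [← hM.units]
  refine (Fintype.sum_equiv (Equiv.mulLeft l) _ _ fun k => ?_).symm
  rw [Equiv.coe_mulLeft, Units.val_mul, F.md_gT]

/-- A function carried by the constituents sees only the orbit on the units. -/
theorem Mode.md_support {f : G → ℂ} {φ : Cfsg.IrrCharacter G} (hM : F.Mode f φ) {g : G → ℂ}
    (hg : Cfsg.IsClassFunction G g)
    (hs : ∀ ψ : Cfsg.IrrCharacter G, Cfsg.classInner f (ψ : G → ℂ) = 0 → Cfsg.classInner g (ψ : G → ℂ) = 0)
    (k : (ZMod q)ˣ) : F.md g (k : ZMod q) = Cfsg.classInner g (F.gT k φ : G → ℂ) := by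
  rw [show F.md g (k : ZMod q) = F.md (fun x => ∑ ψ : Cfsg.IrrCharacter G,
    Cfsg.classInner g (ψ : G → ℂ) * (ψ : G → ℂ) x) (k : ZMod q) from congrArg (fun h => F.md h (k : ZMod q))
      (by conv_lhs => rw [classFunction_eq_sum hg]
          funext x
          simp [Finset.sum_apply]), F.md_sum, Finset.sum_eq_single (F.gT k φ)]
  · rw [F.md_mul_left, hM.md_gT, mul_one]
  · intro ψ _ hne
    rw [F.md_mul_left]
    by_cases h : Cfsg.classInner f (ψ : G → ℂ) = 0
    · rw [hs ψ h, zero_mul]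
    · by_contra hne'
      exact hne (hM.uniq k ψ h (right_ne_zero_of_mul hne'))
  · exact fun h => absurd (Finset.mem_univ _) h

/-- The half of a mode of a kernel. -/
noncomputable def half (K : Pr Ω → Pr Ω → ℤ) (j : ZMod q) : ℂ :=
  ∑ i : ZMod q, (F.rowSum K i : ℂ) * chi (-(j * i))

theorem isIntegral_half (K : Pr Ω → Pr Ω → ℤ) (j : ZMod q) : IsIntegral ℤ (F.half K j) := by
  refine IsIntegral.sum _ fun i _ => IsIntegral.mul ?_ ?_
  · exact isIntegral_algebraMap (R := ℤ) (A := ℂ) (x := F.rowSum K i)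
  · refine isIntegral_of_pow_eq_one F.q_pos ?_
    rw [← AddChar.map_nsmul_eq_pow, ← Nat.cast_smul_eq_nsmul (ZMod q), ZMod.natCast_self, zero_smul,
      AddChar.map_zero_eq_one]

theorem sum_half (K : Pr Ω → Pr Ω → ℤ) : ∑ j : ZMod q, F.half K j = q * (F.rowSum K 0 : ℂ) := by
  simp only [half]
  rw [Finset.sum_comm]
  simp only [← Finset.mul_sum, show ∀ i : ZMod q, ∑ j : ZMod q, chi (-(j * i)) = if -i = 0 then (q : ℂ) else 0
    from fun i => by rw [← F.sum_chi]; simp only [mul_neg]]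
  simp only [neg_eq_zero, mul_ite, mul_zero, Finset.sum_ite_eq', Finset.mem_univ, if_true]
  ring

theorem parseval (K : Pr Ω → Pr Ω → ℤ) :
    ∑ j : ZMod q, F.half K j * conj (F.half K j) = q * ((∑ i : ZMod q, F.rowSum K i ^ 2 : ℤ) : ℂ) := by
  simp only [half, map_sum, map_mul, map_intCast, chi_conj, neg_neg, Finset.mul_sum, Finset.sum_mul]
  push_cast
  rw [Finset.mul_sum, Finset.sum_comm]
  refine Finset.sum_congr rfl fun i _ => ?_
  rw [Finset.sum_comm, Finset.sum_eq_single i]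
  · have h : ∀ j : ZMod q, chi (j * i) * chi (-(j * i)) = (1 : ℂ) := fun j => by
      rw [← AddChar.map_add_eq_mul, add_neg_cancel, AddChar.map_zero_eq_one]
    simp only [show ∀ j : ZMod q, (F.rowSum K i : ℂ) * chi (-(j * i)) * ((F.rowSum K i : ℂ) * chi (j * i)) =
      (F.rowSum K i : ℂ) ^ 2 from fun j => by linear_combination ((F.rowSum K i : ℂ) ^ 2) * h j,
      Finset.sum_const, Finset.card_univ, ZMod.card, nsmul_eq_mul]
  · intro l _ hl
    have h : ∑ j : ZMod q, chi (j * (i - l)) = (0 : ℂ) := by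
      rw [F.sum_chi, if_neg (sub_ne_zero.2 (Ne.symm hl))]
    have h2 : ∀ j : ZMod q, chi (j * (i - l)) = chi (j * i) * chi (-(j * l)) := fun j => by
      rw [← AddChar.map_add_eq_mul]; congr 1; ring
    simp only [h2] at h
    calc _ = (F.rowSum K i : ℂ) * (F.rowSum K l : ℂ) * ∑ j : ZMod q, chi (j * i) * chi (-(j * l)) := by
          rw [Finset.mul_sum]
          exact Finset.sum_congr rfl fun j _ => by ring
      _ = 0 := by rw [h, mul_zero]
  · exact fun h => absurd (Finset.mem_univ _) h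

theorem sum_zmod_units {M : Type*} [AddCommMonoid M] (f : ZMod q → M) :
    ∑ j : ZMod q, f j = f 0 + ∑ k : (ZMod q)ˣ, f (k : ZMod q) := by
  classical
  rw [← Finset.add_sum_erase _ _ (Finset.mem_univ 0)]
  congr 1
  exact Finset.sum_bij' (fun j hj => Units.mk0 j (Finset.ne_of_mem_erase hj)) (fun k _ => (k : ZMod q))
    (fun j hj => Finset.mem_univ _) (fun k _ => Finset.mem_erase.2 ⟨k.ne_zero, Finset.mem_univ _⟩)
    (fun j hj => rfl) (fun k _ => Units.ext rfl) (fun j hj => rfl)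

end Frame

end Cfsg.Agent.ItoTwoQ
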