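import Cfsg.Agent.Lib.ItoTwoQ.Sigma

/-!
Triply transitive groups: the alternating kernels on pairs vanish.
-/

set_option autoImplicit false
set_option linter.unusedSectionVars false
set_option linter.style.haveILetI false

namespace Cfsg.Agent.ItoTwoQ

open MulAction Cfsg.Agent.Char
open scoped ComplexConjugate

universe u v

variable {G : Type u} [Group G] {Ω : Type v} [MulAction G Ω] [Fintype G] [Fintype Ω]
variable {p q : ℕ} (F : Frame G Ω p q) [Fact p.Prime] [Fact q.Prime] [FaithfulSMul G Ω]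
  [IsPretransitive G Ω] [F.Good]

/-- The kernel is carried by disjoint pairs. -/
def Disj {Ω : Type v} (K : Pr Ω → Pr Ω → ℤ) : Prop :=
  ∀ x y, K x y ≠ 0 → y.1.1 ≠ x.1.1 ∧ y.1.1 ≠ x.1.2 ∧ y.1.2 ≠ x.1.1 ∧ y.1.2 ≠ x.1.2

theorem Disj.zero_of_mem {K : Pr Ω → Pr Ω → ℤ} (h : Disj K) {x y : Pr Ω} {a : Ω}
    (hx : x.1.1 = a ∨ x.1.2 = a) (hy : y.1.1 = a ∨ y.1.2 = a) : K x y = 0 := by
  by_contra hne
  obtain ⟨h1, h2, h3, h4⟩ := h x y hne
  rcases hx with rfl | rfl <;> rcases hy with e | e <;> first | exact h1 e | exact h2 e | exact h3 e | exact h4 e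

/-- The arithmetic of one fixed constituent of degree `d` beside one of degree `p`. -/
theorem arith_fixed {p q e d j a0 U S N : ℤ} (hp : p = 2 * q + 1) (hq : 11 ≤ q) (he : e = q - 1)
    (hd : d = p * e - 2 * q) (I1 : p * a0 + d * (p * j) = 0) (hU : e * (p * j) ^ 2 ≤ U)
    (I2 : e * S = 4 * (e * p * a0 ^ 2 + d * U)) (hN : N ≤ (2 * q - 1) * (2 * q - 2))
    (hS : S = 2 * p * q * N) : j = 0 := by
  have hp0 : 0 < p := by omega
  have he0 : 0 < e := by omega
  have ha : a0 = -(d * j) := mul_left_cancel₀ hp0.ne' (by linear_combination I1)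
  have hdp : d + p = q * (2 * q - 1) := by rw [hd, he, hp]; ring
  have hd0 : q - 1 < d := by
    have h1 : p * 1 ≤ p * (e - 2) := mul_le_mul_of_nonneg_left (by omega) hp0.le
    have : d = p * (e - 2) + (p + p - 2 * q) := by rw [hd]; ring
    omega
  have hlow : 4 * p * d * (d + p) * j ^ 2 ≤ S := by
    refine le_of_mul_le_mul_left (a := e) ?_ he0
    have h1 := mul_le_mul_of_nonneg_left hU (show (0 : ℤ) ≤ 4 * d by omega)
    calc e * (4 * p * d * (d + p) * j ^ 2) = 4 * (e * p * a0 ^ 2) + 4 * d * (e * (p * j) ^ 2) := by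
          rw [ha]; ring
      _ ≤ 4 * (e * p * a0 ^ 2) + 4 * d * U := by omega
      _ = e * S := by rw [I2]; ring
  have hup : S ≤ 2 * p * q * ((2 * q - 1) * (2 * q - 2)) := by
    rw [hS]
    exact mul_le_mul_of_nonneg_left hN (mul_nonneg (by omega) (by omega))
  have h2 : (2 * p * q * (2 * q - 1)) * (2 * d * j ^ 2) ≤ (2 * p * q * (2 * q - 1)) * (2 * q - 2) := by
    have h := hlow.trans hup
    rw [hdp] at h
    calc (2 * p * q * (2 * q - 1)) * (2 * d * j ^ 2) = 4 * p * d * (q * (2 * q - 1)) * j ^ 2 := by ring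
      _ ≤ 2 * p * q * ((2 * q - 1) * (2 * q - 2)) := h
      _ = _ := by ring
  have h3 := le_of_mul_le_mul_left h2 (mul_pos (mul_pos (by omega) (by omega)) (by omega))
  by_contra hj
  have hj2 : (1 : ℤ) ≤ j ^ 2 := Int.add_one_le_iff.2 (sq_pos_of_ne_zero hj)
  have h4 : 2 * d * 1 ≤ 2 * d * j ^ 2 := mul_le_mul_of_nonneg_left hj2 (by omega)
  omega

/-- The arithmetic of two conjugate constituents beside one of degree `4q + 1`. -/
theorem arith_two {p q e d s a0 U S N : ℤ} (hp : p = 2 * q + 1) (hq : 11 ≤ q) (he : 2 * e = q - 1)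
    (hd : d = p * e - 2 * q) (I1 : (4 * q + 1) * a0 + d * s = 0) (hU : e * s ^ 2 ≤ 2 * U)
    (I2 : e * S = 4 * (e * (4 * q + 1) * a0 ^ 2 + d * U)) (hN : N ≤ (2 * q - 1) * (2 * q - 2))
    (hS : S = 2 * p * q * N) : a0 = 0 := by
  by_contra ha
  have h2d : 2 * d = 2 * q ^ 2 - 5 * q - 1 := by
    rw [hd, hp]; linear_combination (2 * q + 1) * he
  have hqq : 11 * q ≤ q ^ 2 := by rw [pow_two]; exact mul_le_mul_of_nonneg_right hq (by omega)
  have hd0 : 0 < d := by omega
  set A : ℤ := 4 * q + 1 with hA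
  obtain ⟨k, hk⟩ : d ∣ 3 * a0 := ⟨16 * a0 + (4 * q - 11) * s, by
    linear_combination (-8 * a0) * h2d - (4 * q - 11) * I1⟩
  have hk0 : k ≠ 0 := fun h => ha (by rw [h, mul_zero] at hk; omega)
  have hk2 : (1 : ℤ) ≤ k ^ 2 := Int.add_one_le_iff.2 (sq_pos_of_ne_zero hk0)
  have hsq : d ^ 2 ≤ 9 * a0 ^ 2 := by
    calc d ^ 2 ≤ d ^ 2 * k ^ 2 := le_mul_of_one_le_right (sq_nonneg d) hk2
      _ = 9 * a0 ^ 2 := by linear_combination -(3 * a0 + d * k) * hk
  have hlow : 4 * A * a0 ^ 2 + 2 * d * s ^ 2 ≤ S := by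
    refine le_of_mul_le_mul_left (a := e) ?_ (by omega)
    have h1 := mul_le_mul_of_nonneg_left hU (show (0 : ℤ) ≤ 2 * d by omega)
    calc e * (4 * A * a0 ^ 2 + 2 * d * s ^ 2) = 4 * (e * A * a0 ^ 2) + 2 * d * (e * s ^ 2) := by ring
      _ ≤ 4 * (e * A * a0 ^ 2) + 2 * d * (2 * U) := by omega
      _ = e * S := by rw [I2]; ring
  have hds : d * s = -(A * a0) := by linear_combination I1
  have hd2 : 2 * d + A = q * (2 * q - 1) := by rw [hA]; linear_combination h2d
  have h5 : 2 * A * (q * (2 * q - 1)) * a0 ^ 2 ≤ d * S := by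
    calc 2 * A * (q * (2 * q - 1)) * a0 ^ 2 = d * (4 * A * a0 ^ 2 + 2 * d * s ^ 2) := by
          rw [← hd2]
          linear_combination (-2 * (d * s - A * a0)) * hds
      _ ≤ d * S := mul_le_mul_of_nonneg_left hlow hd0.le
  have h6 : d * S ≤ d * (2 * p * q * ((2 * q - 1) * (2 * q - 2))) := by
    rw [hS]
    exact mul_le_mul_of_nonneg_left (mul_le_mul_of_nonneg_left hN (mul_nonneg (by omega) (by omega))) hd0.le
  have h7 : (2 * q * (2 * q - 1)) * (A * a0 ^ 2) ≤ (2 * q * (2 * q - 1)) * (d * p * (2 * q - 2)) := by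
    calc (2 * q * (2 * q - 1)) * (A * a0 ^ 2) = 2 * A * (q * (2 * q - 1)) * a0 ^ 2 := by ring
      _ ≤ _ := h5.trans h6
      _ = _ := by ring
  have h8 := le_of_mul_le_mul_left h7 (mul_pos (by omega) (by omega))
  have h9 : d * (A * d) ≤ d * (9 * p * (2 * q - 2)) := by
    calc d * (A * d) = A * d ^ 2 := by ring
      _ ≤ A * (9 * a0 ^ 2) := mul_le_mul_of_nonneg_left hsq (by omega)
      _ = 9 * (A * a0 ^ 2) := by ring
      _ ≤ 9 * (d * p * (2 * q - 2)) := by omega
      _ = _ := by ring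
  have h10 := le_of_mul_le_mul_left h9 hd0
  have h11 : A * (2 * d) ≤ 36 * (2 * q + 1) * (q - 1) := by
    calc A * (2 * d) = 2 * (A * d) := by ring
      _ ≤ 2 * (9 * p * (2 * q - 2)) := by omega
      _ = _ := by rw [hp]; ring
  rw [h2d, hA] at h11
  nlinarith [mul_le_mul_of_nonneg_left hqq (show (0 : ℤ) ≤ 8 * q by omega)]

namespace Frame

include F

variable (h3 : IsMultiplyPretransitive G Ω 3)

include h3

/-- Averaging over a point stabiliser kills a kernel of sign minus one. -/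
theorem avg_zero [DecidableEq Ω] {K : Pr Ω → Pr Ω → ℤ} (hK : Inv G K)
    (ha : ∀ x y, K x (swp y) = -K x y) (hd : Disj K) (a : Ω) (y z : Pr Ω) :
    (∑ g : G, if g • a = a then K (g • y) z else 0) = 0 := by
  classical
  let T : Pr Ω → Pr Ω → ℤ := fun y z => ∑ g : G, if g • a = a then K (g • y) z else 0
  show T y z = 0
  have hT : ∀ {h : G}, h • a = a → ∀ y z, T (h • y) (h • z) = T y z := by
    intro h hh y z
    refine Fintype.sum_equiv (MulAut.conj h⁻¹).toEquiv _ _ fun g => ?_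
    simp only [MulEquiv.toEquiv_eq_coe, MulEquiv.coe_toEquiv, MulAut.conj_apply, inv_inv]
    have e1 : g • a = a ↔ (h⁻¹ * g * h) • a = a := by
      rw [mul_smul, mul_smul, hh, inv_smul_eq_iff, hh]
    have e2 : K (g • h • y) (h • z) = K ((h⁻¹ * g * h) • y) z := by
      rw [← hK h⁻¹, inv_smul_smul, mul_smul, mul_smul]
    simp only [e1, e2]
  by_cases hz : z.1.1 = a ∨ z.1.2 = a
  swap
  · push Not at hz
    obtain ⟨h, h1, h2, h3'⟩ := exists_triple h3 hz.1.symm hz.2.symm z.2 hz.2.symm hz.1.symm z.2.symm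
    have hs : h • z = swp z := Pr.ext' h2 h3'
    have e : T y (h • z) = T y z := by
      refine Fintype.sum_equiv (Equiv.mulLeft h⁻¹) _ _ fun g => ?_
      simp only [Equiv.coe_mulLeft]
      have e1 : g • a = a ↔ (h⁻¹ * g) • a = a := by rw [mul_smul, inv_smul_eq_iff, h1]
      have e2 : K (g • y) (h • z) = K ((h⁻¹ * g) • y) z := by
        rw [← hK h⁻¹, inv_smul_smul, mul_smul]
      rw [e2]
      exact if_congr e1 rfl rfl
    rw [hs] at e
    have e' : T y (swp z) = -T y z := by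
      simp only [T, ha, ← Finset.sum_neg_distrib]
      exact Finset.sum_congr rfl fun g _ => by split_ifs <;> simp
    linarith
  have hy0 : ∀ y : Pr Ω, (y.1.1 = a ∨ y.1.2 = a) → T y z = 0 := fun y hy =>
    Finset.sum_eq_zero fun g _ => by
      split_ifs with hg
      · refine hd.zero_of_mem (a := a) ?_ hz
        rcases hy with h | h
        · left; rw [Pr.smul_fst, h, hg]
        · right; rw [Pr.smul_snd, h, hg]
      · rfl
  by_cases hy : y.1.1 = a ∨ y.1.2 = a
  · exact hy0 y hy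
  push Not at hy
  have hconst : ∀ y' : Pr Ω, ¬ (y'.1.1 = a ∨ y'.1.2 = a) → T y' z = T y z := by
    intro y' hy'
    push Not at hy'
    obtain ⟨h, h1, h2, h3'⟩ := exists_triple h3 hy.1.symm hy.2.symm y.2 hy'.1.symm hy'.2.symm y'.2
    rw [show y' = h • y from (Pr.ext' h2 h3').symm]
    refine Fintype.sum_equiv (Equiv.mulRight h) _ _ fun g => ?_
    simp only [Equiv.coe_mulRight, mul_smul, h1]
  have hR : ∑ y', K y' z = 0 := by
    obtain ⟨h, h1, h2⟩ := is_two_pretransitive_iff.1 (F.two_trans h3) z.2 z.2.symm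
    have hs : h • z = swp z := Pr.ext' h1 h2
    have e : ∑ y', K y' z = ∑ y', K y' (swp z) := by
      refine Fintype.sum_equiv (MulAction.toPerm h) _ _ fun y' => ?_
      rw [toPerm_apply, ← hs, hK h]
    simp only [ha, Finset.sum_neg_distrib] at e
    linarith
  have hsum : ∑ y', T y' z = 0 := by
    simp only [T]
    rw [Finset.sum_comm]
    refine Finset.sum_eq_zero fun g _ => ?_
    split_ifs with hg
    · rw [← hR]
      exact Fintype.sum_equiv (MulAction.toPerm g) _ _ fun y' => rfl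
    · exact Finset.sum_const_zero
  rw [← Finset.sum_filter_add_sum_filter_not Finset.univ (fun y' : Pr Ω => y'.1.1 = a ∨ y'.1.2 = a),
    Finset.sum_eq_zero (fun y' hy' => hy0 y' (Finset.mem_filter.1 hy').2), zero_add,
    Finset.sum_congr rfl (fun y' hy' => hconst y' (Finset.mem_filter.1 hy').2), Finset.sum_const,
    nsmul_eq_mul, mul_eq_zero, Nat.cast_eq_zero, Finset.card_eq_zero, Finset.filter_eq_empty_iff] at hsum
  refine hsum.resolve_left fun h => h (Finset.mem_univ y) ?_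
  rintro (e | e)
  · exact hy.1 e
  · exact hy.2 e

theorem pc_mulT {K : Pr Ω → Pr Ω → ℤ} (hK : Inv G K) (ha : ∀ x y, K x (swp y) = -K x y)
    (hd : Disj K) : Cfsg.classInner (kerFn (G := G) (mulT K)) (pc Ω) = 0 := by
  classical
  rw [classInner_kerFn_pc, Finset.sum_eq_zero fun a _ => Finset.sum_eq_zero fun x _ => ?_, Int.cast_zero,
    mul_zero]
  calc (∑ g : G, if g • a = a then mulT K x (g • x) else 0)
      = ∑ z : Pr Ω, K x z * ∑ g : G, if g • a = a then K (g • x) z else 0 := by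
        simp only [mulT, Finset.mul_sum]
        rw [Finset.sum_comm (t := (Finset.univ : Finset G))]
        refine Finset.sum_congr rfl fun g _ => ?_
        split_ifs <;> simp
    _ = 0 := Finset.sum_eq_zero fun z _ => by rw [F.avg_zero h3 hK ha hd, mul_zero]

theorem pc_self {M : Pr Ω → Pr Ω → ℤ} (hM : Inv G M) (ha : ∀ x y, M (swp x) y = -M x y)
    (hd : Disj M) : Cfsg.classInner (kerFn (G := G) M) (pc Ω) = 0 := by
  classical
  rw [classInner_kerFn_pc, Finset.sum_eq_zero fun a _ => Finset.sum_eq_zero fun x _ => ?_, Int.cast_zero,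
    mul_zero]
  exact F.avg_zero h3 (K := fun y z => M z y) (inv_swap hM) (fun y z => ha z y)
    (fun y z h => by obtain ⟨h1, h2, h3, h4⟩ := hd z y h; exact ⟨h1.symm, h3.symm, h2.symm, h4.symm⟩) a x x

theorem chiP_of_pc {f : G → ℂ} (h0 : Cfsg.classInner f (fun _ : G => (1 : ℂ)) = 0)
    (hp : Cfsg.classInner f (pc Ω) = 0) : Cfsg.classInner f (F.chiP h3 : G → ℂ) = 0 := by
  rw [F.pc_eq_add h3, classInner_add_right, show (principal G : G → ℂ) = fun _ => (1 : ℂ) from rfl, h0,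
    zero_add] at hp
  exact hp

/-- The constituents of `alt`: one orbit, or one further character of mode zero. -/
structure AltSplit (φ φ0 : Cfsg.IrrCharacter G) (d0 : ℤ) : Prop where
  mode : F.Mode (alt Ω) φ
  one0 : Cfsg.classInner (alt Ω) (φ0 : G → ℂ) = 1
  md0 : F.md (φ0 : G → ℂ) 0 = 1
  notin : φ0 ∉ F.orbU φ
  deg0 : (φ0 : G → ℂ) 1 = d0
  deg : (φ : G → ℂ) 1 = (p : ℂ) * (F.stabU φ).card - 2 * q
  cover : ∀ ψ : Cfsg.IrrCharacter G, Cfsg.classInner (alt Ω) (ψ : G → ℂ) ≠ 0 →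
    ψ = F.chiP h3 ∨ ψ = φ0 ∨ ψ ∈ F.orbU φ
  zero0 : ∀ ψ ∈ F.orbU φ, F.md (ψ : G → ℂ) 0 = 0
  cases : (d0 = p ∧ (F.stabU φ).card = q - 1) ∨ (d0 = 4 * q + 1 ∧ 2 * (F.stabU φ).card = q - 1)

/-- The constituents of `alt` when one character has all the modes. -/
structure AltOne (φ : Cfsg.IrrCharacter G) : Prop where
  mode : F.Mode (alt Ω) φ
  fixed : ∀ k, F.gT k φ = φ
  md0 : F.md (φ : G → ℂ) 0 = 1
  deg : (φ : G → ℂ) 1 = (p : ℂ) * q - 2 * q
  cover : ∀ ψ : Cfsg.IrrCharacter G, Cfsg.classInner (alt Ω) (ψ : G → ℂ) ≠ 0 → ψ = F.chiP h3 ∨ ψ = φ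

theorem alt_ne_one (ψ : Cfsg.IrrCharacter G) (hψ : Cfsg.classInner (alt Ω) (ψ : G → ℂ) ≠ 0) :
    ψ ≠ principal G := fun h => hψ (by rw [h]; exact (F.inner_one h3).2)

theorem alt_chiP : Cfsg.classInner (alt Ω) (F.chiP h3 : G → ℂ) = 1 := by
  have h := (F.inner_points h3).2
  rwa [F.pc_eq_add h3, classInner_add_right, show (principal G : G → ℂ) = fun _ => (1 : ℂ) from rfl,
    (F.inner_one h3).2, zero_add] at h

theorem alt_cases (hins : ¬ Group.IsSolvable G) (hH : ∃ k ∈ F.hGroup, k ≠ 1) :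
    (∃ φ, F.AltOne h3 φ) ∨ ∃ φ φ0 d0, F.AltSplit h3 φ φ0 d0 := by
  classical
  obtain ⟨φ, hM⟩ := F.exists_mode isCharacter_alt F.rational_alt fun j _ => F.md_alt j
  obtain ⟨φ0, h10, hmd0, hu0⟩ := F.mode_unique isCharacter_alt (F.md_alt 0)
  have hpr : ∀ ψ : Cfsg.IrrCharacter G, Cfsg.classInner (alt Ω) (ψ : G → ℂ) ≠ 0 →
      Cfsg.classInner (pc (Pr Ω)) (ψ : G → ℂ) ≠ 0 := by
    intro ψ hψ
    rw [show pc (Pr Ω) = rho Ω + alt Ω from funext fun g : G => (rho_add_alt (Ω := Ω) g).symm,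
      classInner_add_left]
    obtain ⟨a, ha⟩ := IsCharacter.exists_classInner_nat (isCharacter_rho (G := G) (Ω := Ω)) (IsIrrCharacter.isCharacter ψ.2)
    obtain ⟨b, hb⟩ := IsCharacter.exists_classInner_nat (isCharacter_alt (G := G) (Ω := Ω)) (IsIrrCharacter.isCharacter ψ.2)
    rw [ha, hb, ← Nat.cast_add, Nat.cast_ne_zero]
    rw [hb, Nat.cast_ne_zero] at hψ
    omega
  have hcov : ∀ ψ : Cfsg.IrrCharacter G, Cfsg.classInner (alt Ω) (ψ : G → ℂ) ≠ 0 →
      ψ = F.chiP h3 ∨ ψ = φ0 ∨ ψ ∈ F.orbU φ := by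
    intro ψ hψ
    by_cases hc : ψ = F.chiP h3
    · exact Or.inl hc
    refine Or.inr ?_
    have hn := F.nfix_ne_zero h3 hins ψ (hpr ψ hψ)
      (F.inner_pc_self h3 ψ (F.alt_ne_one h3 ψ hψ) hc)
    rw [← F.sum_md] at hn
    obtain ⟨j, -, hj⟩ := Finset.exists_ne_zero_of_sum_ne_zero hn
    by_cases hj0 : j = 0
    · exact Or.inl (hu0 ψ hψ (hj0 ▸ hj))
    · exact Or.inr (F.mem_orbU.2 ⟨Units.mk0 j hj0, (hM.uniq (Units.mk0 j hj0) ψ hψ hj).symm⟩)
  have hfix0 : ∀ k, F.gT k φ0 = φ0 := fun k => by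
    refine hu0 _ (by rw [F.inner_gT' F.rational_alt, h10]; exact one_ne_zero) ?_
    rw [← mul_zero (k : ZMod q), F.md_gT, hmd0]
    exact one_ne_zero
  by_cases hin : φ0 ∈ F.orbU φ
  · left
    obtain ⟨k, hk⟩ := F.mem_orbU.1 hin
    have hφ : φ = φ0 := by rw [← hfix0 k⁻¹, ← hk, F.gT_mul, inv_mul_cancel, F.gT_one]
    subst hφ
    have hcov' : ∀ ψ : Cfsg.IrrCharacter G, Cfsg.classInner (alt Ω) (ψ : G → ℂ) ≠ 0 →
        ψ = F.chiP h3 ∨ ψ = φ := fun ψ hψ => by
      rcases hcov ψ hψ with h | h | h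
      · exact Or.inl h
      · exact Or.inr h
      · obtain ⟨l, rfl⟩ := F.mem_orbU.1 h
        exact Or.inr (hfix0 l)
    have hne : F.chiP h3 ≠ φ := fun h => by
      have := F.md_chiP h3 0
      rw [h, hmd0] at this
      exact one_ne_zero this
    refine ⟨φ, hM, hfix0, hmd0, ?_, hcov'⟩
    have h := congrFun (IsCharacter.eq_sum (isCharacter_alt (G := G) (Ω := Ω))) 1
    rw [Finset.sum_apply, ← Finset.sum_subset (Finset.subset_univ {F.chiP h3, φ}) fun ψ _ hψ => ?_,
      Finset.sum_pair hne, Pi.smul_apply, Pi.smul_apply, F.alt_chiP h3, h10, F.alt_one, F.chiP_one h3,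
      smul_eq_mul, smul_eq_mul, one_mul, one_mul] at h
    · linear_combination -h
    · have h0 : Cfsg.classInner (alt Ω) (ψ : G → ℂ) = 0 := by
        by_contra hne'
        simp only [Finset.mem_insert, Finset.mem_singleton] at hψ
        exact hψ (hcov' ψ hne')
      simp [h0]
  right
  have hz : ∀ ψ ∈ F.orbU φ, F.md (ψ : G → ℂ) 0 = 0 := by
    intro ψ hψ
    obtain ⟨k, rfl⟩ := F.mem_orbU.1 hψ
    by_contra h
    exact hin (hu0 _ (by rw [hM.mult]; exact one_ne_zero) h ▸ hψ)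
  have hmd0u : ∀ k : (ZMod q)ˣ, F.md (φ0 : G → ℂ) (k : ZMod q) = 0 := fun k => by
    by_contra h
    exact hin (F.mem_orbU.2 ⟨k, (hM.uniq k φ0 (by rw [h10]; exact one_ne_zero) h).symm⟩)
  have hn0 : F.nfix (φ0 : G → ℂ) = 1 := by
    rw [← F.sum_md, F.sum_zmod_units, hmd0, Finset.sum_eq_zero fun k _ => hmd0u k, add_zero]
  have hnφ : F.nfix (φ : G → ℂ) = (F.stabU φ).card := by
    rw [← F.sum_md, F.sum_zmod_units, hz φ (F.mem_orbU.2 ⟨1, F.gT_one φ⟩), hM.units, zero_add]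
  obtain ⟨n0, ε0, hnn0, hε0, hd0⟩ := F.mode_degree isCharacter_alt F.rational_alt (F.md_alt 0)
    (φ := φ0) (by rw [h10]; exact one_ne_zero) (by rw [hmd0]; exact one_ne_zero)
  have h11 : F.md (φ : G → ℂ) 1 = 1 := by
    have := hM.md_gT 1
    rwa [F.gT_one, Units.val_one] at this
  obtain ⟨n1, ε1, hnn1, hε1, hd1⟩ := F.mode_degree isCharacter_alt F.rational_alt (F.md_alt 1)
    (φ := φ) (by rw [hM.one]; exact one_ne_zero) (by rw [h11]; exact one_ne_zero)
  rw [hn0, eq_comm, Nat.cast_eq_one] at hnn0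
  rw [hnφ, Nat.cast_inj] at hnn1
  subst hnn0 hnn1
  set e := (F.stabU φ).card with he
  set T := (F.orbU φ).card with hT
  have heT : e * T = q - 1 := F.stab_mul_orb φ
  have he2 : 2 ≤ e := F.stabU_two φ hH
  have hne0 : F.chiP h3 ≠ φ0 := fun h => by
    have := F.md_chiP h3 0
    rw [h, hmd0] at this
    exact one_ne_zero this
  have hnin : F.chiP h3 ∉ F.orbU φ := fun h => by
    obtain ⟨k, hk⟩ := F.mem_orbU.1 h
    have := F.md_chiP h3 (k : ZMod q)
    rw [← hk, hM.md_gT] at this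
    exact one_ne_zero this
  have htot : (p : ℤ) * q = 2 * q + ((p : ℤ) - 2 * q * ε0) + T * ((p : ℤ) * e - 2 * q * ε1) := by
    have h := congrFun (IsCharacter.eq_sum (isCharacter_alt (G := G) (Ω := Ω))) 1
    rw [Finset.sum_apply, ← Finset.sum_subset
        (Finset.subset_univ (insert (F.chiP h3) (insert φ0 (F.orbU φ)))) fun ψ _ hψ => ?_,
      Finset.sum_insert (by simp [hne0, hnin]), Finset.sum_insert hin, F.alt_one] at h
    · simp only [Pi.smul_apply, smul_eq_mul, F.alt_chiP h3, h10, one_mul, F.chiP_one h3, hd0] at h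
      rw [Finset.sum_congr rfl fun ψ hψ => show _ = (p : ℂ) * e - 2 * q * ε1 by
        obtain ⟨k, rfl⟩ := F.mem_orbU.1 hψ
        rw [hM.mult, one_mul, F.gT_degree, hd1], Finset.sum_const, nsmul_eq_mul, ← hT] at h
      have h' : (((p : ℤ) * q : ℤ) : ℂ) =
          ((2 * q + ((p : ℤ) - 2 * q * ε0) + T * ((p : ℤ) * e - 2 * q * ε1) : ℤ) : ℂ) := by
        push_cast
        rw [h]
        push_cast
        ring
      exact_mod_cast h'
    · have h0 : Cfsg.classInner (alt Ω) (ψ : G → ℂ) = 0 := by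
        by_contra hne'
        simp only [Finset.mem_insert] at hψ
        exact hψ (hcov ψ hne')
      simp [h0]
  have hq1 : (e : ℤ) * T = (q : ℤ) - 1 := by
    rw [← Nat.cast_mul, heT, Nat.cast_sub F.q_pos, Nat.cast_one]
  have hpz : (p : ℤ) = 2 * q + 1 := by exact_mod_cast F.hpq
  have key : (2 * (q : ℤ)) * (1 - ε0 - T * ε1) = 0 := by
    linear_combination -htot - (p : ℤ) * hq1
  have hqz : (q : ℤ) ≠ 0 := by exact_mod_cast F.q_pos.ne'
  have key' : ε0 + T * ε1 = 1 := by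
    rcases mul_eq_zero.1 key with h | h
    · omega
    · linarith
  have hTpos : 1 ≤ T := Finset.card_pos.2 ⟨φ, F.mem_orbU.2 ⟨1, F.gT_one φ⟩⟩
  have hd1' : ε1 = 1 → (φ : G → ℂ) 1 = (p : ℂ) * e - 2 * q := fun h => by
    rw [hd1, h]; push_cast; ring
  rcases hε0 with rfl | rfl | rfl
  · have : T = 2 ∧ ε1 = 1 := by
      rcases hε1 with rfl | rfl | rfl <;> omega
    refine ⟨φ, φ0, 4 * q + 1, hM, h10, hmd0, hin, ?_, hd1' this.2, hcov, hz, Or.inr ⟨rfl, ?_⟩⟩
    · rw [hd0, F.hpq]; push_cast; ring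
    · rw [← heT, this.1, mul_comm]
  · have : T = 1 ∧ ε1 = 1 := by
      rcases hε1 with rfl | rfl | rfl <;> omega
    refine ⟨φ, φ0, p, hM, h10, hmd0, hin, ?_, hd1' this.2, hcov, hz, Or.inl ⟨rfl, ?_⟩⟩
    · rw [hd0]; push_cast; ring
    · rw [← heT, this.1, mul_one]
  · exfalso
    have h1 : (φ0 : G → ℂ) 1 = 1 := by rw [hd0, F.hpq]; push_cast; ring
    obtain ⟨f, hf⟩ := exists_hom_of_degree_one (IsIrrCharacter.isCharacter φ0.2) h1
    refine F.alt_ne_one h3 φ0 (by rw [h10]; exact one_ne_zero) (Subtype.ext (hf.trans (funext fun g => ?_)))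
    rw [F.hom_trivial hins f g, Units.val_one]
    rfl

/-- A class function carried by the constituents of `alt` and orthogonal to the one on points. -/
theorem AltSplit.value {φ φ0 : Cfsg.IrrCharacter G} {d0 : ℤ} (hS : F.AltSplit h3 φ φ0 d0) {g : G → ℂ}
    (hg : Cfsg.IsClassFunction G g)
    (hs : ∀ ψ : Cfsg.IrrCharacter G, Cfsg.classInner (alt Ω) (ψ : G → ℂ) = 0 → Cfsg.classInner g (ψ : G → ℂ) = 0)
    (hc : Cfsg.classInner g (F.chiP h3 : G → ℂ) = 0) :
    ((F.stabU φ).card : ℂ) * g 1 = (F.stabU φ).card * d0 * F.md g 0 +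
      ((p : ℂ) * (F.stabU φ).card - 2 * q) * ∑ k : (ZMod q)ˣ, F.md g (k : ZMod q) := by
  classical
  have hexp : ∀ F' : Cfsg.IrrCharacter G → ℂ, ∑ ψ : Cfsg.IrrCharacter G, Cfsg.classInner g (ψ : G → ℂ) * F' ψ =
      Cfsg.classInner g (φ0 : G → ℂ) * F' φ0 + ∑ ψ ∈ F.orbU φ, Cfsg.classInner g (ψ : G → ℂ) * F' ψ := by
    intro F'
    rw [← Finset.sum_subset (Finset.subset_univ (insert φ0 (F.orbU φ))) fun ψ _ hψ => ?_,
      Finset.sum_insert hS.notin]
    simp only [Finset.mem_insert] at hψ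
    by_cases h0 : Cfsg.classInner (alt Ω) (ψ : G → ℂ) = 0
    · rw [hs ψ h0, zero_mul]
    · rcases hS.cover ψ h0 with h | h | h
      · rw [h, hc, zero_mul]
      · exact absurd (Or.inl h) hψ
      · exact absurd (Or.inr h) hψ
  have hgsum : g = fun x => ∑ ψ : Cfsg.IrrCharacter G, Cfsg.classInner g (ψ : G → ℂ) * (ψ : G → ℂ) x := by
    conv_lhs => rw [classFunction_eq_sum hg]
    funext x
    simp [Finset.sum_apply]
  have h1 : g 1 = Cfsg.classInner g (φ0 : G → ℂ) * d0 +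
      ∑ ψ ∈ F.orbU φ, Cfsg.classInner g (ψ : G → ℂ) * ((p : ℂ) * (F.stabU φ).card - 2 * q) := by
    conv_lhs => rw [hgsum]
    show (∑ ψ : Cfsg.IrrCharacter G, Cfsg.classInner g (ψ : G → ℂ) * (ψ : G → ℂ) 1) = _
    rw [hexp fun ψ => (ψ : G → ℂ) 1, hS.deg0]
    refine congrArg _ (Finset.sum_congr rfl fun ψ hψ => ?_)
    obtain ⟨k, rfl⟩ := F.mem_orbU.1 hψ
    rw [F.gT_degree, hS.deg]
  have h0 : F.md g 0 = Cfsg.classInner g (φ0 : G → ℂ) := by
    conv_lhs => rw [hgsum]
    rw [F.md_sum]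
    simp only [F.md_mul_left]
    rw [hexp fun ψ => F.md (ψ : G → ℂ) 0, hS.md0, mul_one,
      Finset.sum_eq_zero fun ψ hψ => by rw [hS.zero0 ψ hψ, mul_zero], add_zero]
  rw [h1, h0, Finset.sum_congr rfl fun k _ => hS.mode.md_support F hg hs k,
    F.orbit_image_sum φ fun ψ => Cfsg.classInner g (ψ : G → ℂ), ← Finset.sum_mul]
  ring

theorem AltOne.value {φ : Cfsg.IrrCharacter G} (hS : F.AltOne h3 φ) {g : G → ℂ}
    (hg : Cfsg.IsClassFunction G g)
    (hs : ∀ ψ : Cfsg.IrrCharacter G, Cfsg.classInner (alt Ω) (ψ : G → ℂ) = 0 → Cfsg.classInner g (ψ : G → ℂ) = 0)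
    (hc : Cfsg.classInner g (F.chiP h3 : G → ℂ) = 0) :
    g 1 = Cfsg.classInner g (φ : G → ℂ) * ((p : ℂ) * q - 2 * q) ∧
      ∀ j, F.md g j = Cfsg.classInner g (φ : G → ℂ) := by
  classical
  have hexp : ∀ F' : Cfsg.IrrCharacter G → ℂ, ∑ ψ : Cfsg.IrrCharacter G, Cfsg.classInner g (ψ : G → ℂ) * F' ψ =
      Cfsg.classInner g (φ : G → ℂ) * F' φ := by
    intro F'
    refine Finset.sum_eq_single φ (fun ψ _ hψ => ?_) fun h => absurd (Finset.mem_univ _) h
    by_cases h0 : Cfsg.classInner (alt Ω) (ψ : G → ℂ) = 0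
    · rw [hs ψ h0, zero_mul]
    · rw [(hS.cover ψ h0).resolve_right hψ, hc, zero_mul]
  have hgsum : g = fun x => ∑ ψ : Cfsg.IrrCharacter G, Cfsg.classInner g (ψ : G → ℂ) * (ψ : G → ℂ) x := by
    conv_lhs => rw [classFunction_eq_sum hg]
    funext x
    simp [Finset.sum_apply]
  refine ⟨?_, fun j => ?_⟩
  · conv_lhs => rw [hgsum]
    show (∑ ψ : Cfsg.IrrCharacter G, Cfsg.classInner g (ψ : G → ℂ) * (ψ : G → ℂ) 1) = _
    rw [hexp fun ψ => (ψ : G → ℂ) 1, hS.deg]
  · conv_lhs => rw [hgsum]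
    rw [F.md_sum]
    simp only [F.md_mul_left]
    rw [hexp fun ψ => F.md (ψ : G → ℂ) j]
    by_cases hj : j = 0
    · rw [hj, hS.md0, mul_one]
    · rw [show j = ((Units.mk0 j hj : (ZMod q)ˣ) : ZMod q) from rfl, hS.mode.md, if_pos (F.mem_stabU.2 (hS.fixed _)),
        mul_one]

/-- A kernel antisymmetric in both places, with entries at most one and carried by disjoint pairs,
vanishes. -/
theorem alt_kernel_zero (hins : ¬ Group.IsSolvable G) (hH : ∃ k ∈ F.hGroup, k ≠ 1)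
    {M : Pr Ω → Pr Ω → ℤ} (hM : Inv G M) (h1 : ∀ x y, M (swp x) y = -M x y)
    (h2 : ∀ x y, M x (swp y) = -M x y) (hd : Disj M) (hb : ∀ x y, |M x y| ≤ 1) :
    ∀ x y, M x y = 0 := by
  classical
  have hp0 : (p : ℤ) ≠ 0 := Nat.cast_ne_zero.2 (Fact.out : p.Prime).ne_zero
  have hqq := F.hq
  have hpz : (p : ℤ) = 2 * q + 1 := by exact_mod_cast F.hpq
  have hs : ∀ x y, M (swp x) (swp y) = M x y := fun x y => by rw [h1, h2, neg_neg]
  have hsT : ∀ x y, mulT M x (swp y) = -mulT M x y := fun x y => by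
    simp only [mulT, h1, mul_neg, Finset.sum_neg_distrib]
  -- the two class functions
  have hf1 : kerFn M (1 : G) = 0 := by
    rw [kerFn_one, Int.cast_eq_zero]
    exact Finset.sum_eq_zero fun x _ => hd.zero_of_mem (a := x.1.1) (Or.inl rfl) (Or.inl rfl)
  have hsupp : ∀ ψ : Cfsg.IrrCharacter G, Cfsg.classInner (alt Ω) (ψ : G → ℂ) = 0 →
      Cfsg.classInner (kerFn M) (ψ : G → ℂ) = 0 := fun ψ h => kerFn_alt h2 ψ h
  have hsuppT : ∀ ψ : Cfsg.IrrCharacter G, Cfsg.classInner (alt Ω) (ψ : G → ℂ) = 0 →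
      Cfsg.classInner (kerFn (mulT M)) (ψ : G → ℂ) = 0 := fun ψ h => kerFn_alt hsT ψ h
  have hone : Cfsg.classInner (alt Ω) (principal G : G → ℂ) = 0 := (F.inner_one h3).2
  have hc : Cfsg.classInner (kerFn M) (F.chiP h3 : G → ℂ) = 0 :=
    F.chiP_of_pc h3 (hsupp (principal G) hone) (F.pc_self h3 hM h1 hd)
  have hcT : Cfsg.classInner (kerFn (mulT M)) (F.chiP h3 : G → ℂ) = 0 :=
    F.chiP_of_pc h3 (hsuppT (principal G) hone) (F.pc_mulT h3 hM h2 hd)
  have hmd : ∀ j, F.md (kerFn M) j = 2 * F.half M j := fun j => F.md_kerFn hM hs j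
  have hmdT : ∀ j, F.md (kerFn (mulT M)) j = 4 * (F.half M j * conj (F.half M j)) := fun j => by
    rw [F.md_mulT (ε := -1) (by norm_num) hM (fun x y => by rw [h2, neg_one_mul])
      (fun x y => by rw [h1, neg_one_mul]), hmd, map_mul, map_ofNat]
    ring
  have hzero : kerFn (mulT M) (1 : G) = 0 → ∀ x y, M x y = 0 := fun h => eq_zero_of_mulT h
  rcases F.alt_cases h3 hins hH with ⟨φ, hO⟩ | ⟨φ, φ0, d0, hS⟩
  · obtain ⟨v1, v2⟩ := hO.value F h3 (isClassFunction_kerFn hM) hsupp hc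
    obtain ⟨w1, w2⟩ := hO.value F h3 (isClassFunction_kerFn (inv_mulT hM)) hsuppT hcT
    have hdne : (p : ℂ) * q - 2 * q ≠ 0 := by
      have h : (((p : ℤ) * q - 2 * q : ℤ) : ℂ) ≠ 0 := by
        rw [Int.cast_ne_zero, hpz]
        nlinarith
      push_cast at h
      exact h
    rw [hf1, zero_eq_mul] at v1
    have hc0 := v1.resolve_right hdne
    refine hzero ?_
    rw [w1, ← w2 0, hmdT]
    have h0 := v2 0
    rw [hmd, hc0, mul_eq_zero] at h0
    rw [h0.resolve_left two_ne_zero, zero_mul, mul_zero, zero_mul]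
  -- the split case
  set e := (F.stabU φ).card with he
  have he2 : 2 ≤ e := F.stabU_two φ hH
  obtain ⟨a0, ha0⟩ : ∃ a : ℤ, a = ∑ i, F.rowSum M i := ⟨_, rfl⟩
  obtain ⟨r0, hr0⟩ : ∃ a : ℤ, a = F.rowSum M 0 := ⟨_, rfl⟩
  obtain ⟨Q, hQ⟩ : ∃ a : ℤ, a = ∑ i, F.rowSum M i ^ 2 := ⟨_, rfl⟩
  have hh0 : F.half M 0 = a0 := by
    rw [ha0]
    simp [half]
  have hhu : ∑ k : (ZMod q)ˣ, F.half M (k : ZMod q) = ((q * r0 - a0 : ℤ) : ℂ) := by
    have h := F.sum_half M
    rw [F.sum_zmod_units, hh0, ← hr0] at h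
    push_cast
    linear_combination h
  have hpu : ∑ k : (ZMod q)ˣ, F.half M (k : ZMod q) * conj (F.half M (k : ZMod q)) =
      ((q * Q - a0 ^ 2 : ℤ) : ℂ) := by
    have h := F.parseval M
    rw [F.sum_zmod_units, hh0, ← hQ, map_intCast] at h
    push_cast
    linear_combination h
  obtain ⟨s, hsdef⟩ : ∃ s : ℤ, (e : ℤ) * s = q * r0 - a0 := by
    have hk : ∀ k : (ZMod q)ˣ, Cfsg.classInner (kerFn M) (F.gT k φ : G → ℂ) = 2 * F.half M (k : ZMod q) :=
      fun k => by rw [← hS.mode.md_support F (isClassFunction_kerFn hM) hsupp k, hmd]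
    have hint : IsIntegral ℤ (∑ ψ ∈ F.orbU φ, Cfsg.classInner (kerFn M) (ψ : G → ℂ) / 2) := by
      refine IsIntegral.sum _ fun ψ hψ => ?_
      obtain ⟨k, rfl⟩ := F.mem_orbU.1 hψ
      rw [hk, mul_div_cancel_left₀ _ two_ne_zero]
      exact F.isIntegral_half M _
    have hsum : (e : ℂ) * ∑ ψ ∈ F.orbU φ, Cfsg.classInner (kerFn M) (ψ : G → ℂ) / 2 = ((q * r0 - a0 : ℤ) : ℂ) := by
      rw [← F.orbit_image_sum φ fun ψ => Cfsg.classInner (kerFn M) (ψ : G → ℂ) / 2, ← hhu]
      exact Finset.sum_congr rfl fun k _ => by rw [hk, mul_div_cancel_left₀ _ two_ne_zero]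
    have he0 : (e : ℂ) ≠ 0 := Nat.cast_ne_zero.2 (by omega)
    have hrat : ∑ ψ ∈ F.orbU φ, Cfsg.classInner (kerFn M) (ψ : G → ℂ) / 2 =
        (((q * r0 - a0 : ℤ) / (e : ℚ) : ℚ) : ℂ) := by
      push_cast
      rw [eq_div_iff he0, mul_comm, hsum]
      push_cast
      ring
    rw [hrat] at hint
    obtain ⟨n, hn⟩ := exists_int_of_isIntegral hint
    refine ⟨n, ?_⟩
    have he0' : (e : ℚ) ≠ 0 := Nat.cast_ne_zero.2 (by omega)
    rw [div_eq_iff he0'] at hn
    have hn' : ((q * r0 - a0 : ℤ) : ℚ) = ((n * e : ℤ) : ℚ) := by rw [hn]; push_cast; ring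
    rw [Int.cast_inj] at hn'
    rw [hn', mul_comm]
  -- the two identities
  have v1 := hS.value F h3 (isClassFunction_kerFn hM) hsupp hc
  rw [hf1, mul_zero, hmd, hh0] at v1
  simp only [hmd, ← Finset.mul_sum, hhu] at v1
  have I1 : d0 * a0 + ((p : ℤ) * e - 2 * q) * s = 0 := by
    have h : ((2 * ((e : ℤ) * d0 * a0 + ((p : ℤ) * e - 2 * q) * ((q : ℤ) * r0 - a0)) : ℤ) : ℂ) = 0 := by
      push_cast at v1 ⊢
      linear_combination -v1
    rw [Int.cast_eq_zero, ← hsdef] at h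
    have h' : (2 * (e : ℤ)) * (d0 * a0 + ((p : ℤ) * e - 2 * q) * s) = 0 := by linear_combination h
    exact (mul_eq_zero.1 h').resolve_left (by omega)
  have v2 := hS.value F h3 (isClassFunction_kerFn (inv_mulT hM)) hsuppT hcT
  rw [hmdT, hh0, map_intCast] at v2
  simp only [hmdT, ← Finset.mul_sum, hpu] at v2
  obtain ⟨S, hSdef⟩ : ∃ S : ℤ, S = ∑ x, ∑ z, M x z ^ 2 := ⟨_, rfl⟩
  have hS1 : kerFn (mulT M) (1 : G) = (S : ℂ) := by
    rw [kerFn_one, hSdef]
    simp only [mulT, pow_two]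
  have I2 : (e : ℤ) * S = 4 * ((e : ℤ) * d0 * a0 ^ 2 + ((p : ℤ) * e - 2 * q) * ((q : ℤ) * Q - a0 ^ 2)) := by
    rw [hS1] at v2
    have h : (((e : ℤ) * S : ℤ) : ℂ) =
        ((4 * ((e : ℤ) * d0 * a0 ^ 2 + ((p : ℤ) * e - 2 * q) * ((q : ℤ) * Q - a0 ^ 2)) : ℤ) : ℂ) := by
      push_cast at v2 ⊢
      linear_combination v2
    exact_mod_cast h
  -- Cauchy
  set m : ℤ := (q : ℤ) - 1 with hm
  have hCau : ((e : ℤ) * s) ^ 2 ≤ m * ((q : ℤ) * Q - a0 ^ 2) := by
    set A := (Finset.univ : Finset (ZMod q)).erase 0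
    have hA : (A.card : ℤ) = m := by
      rw [Finset.card_erase_of_mem (Finset.mem_univ _), Finset.card_univ, ZMod.card,
        Nat.cast_sub F.q_pos, Nat.cast_one]
    have hC := sq_sum_le_card_mul_sum_sq (s := A) (f := F.rowSum M)
    have e1 : ∑ i ∈ A, F.rowSum M i = a0 - r0 := by
      rw [ha0, hr0, ← Finset.add_sum_erase _ _ (Finset.mem_univ (0 : ZMod q))]
      ring
    have e2 : ∑ i ∈ A, F.rowSum M i ^ 2 = Q - r0 ^ 2 := by
      rw [hQ, hr0, ← Finset.add_sum_erase _ (fun i => F.rowSum M i ^ 2) (Finset.mem_univ (0 : ZMod q))]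
      ring
    rw [hA, e1, e2] at hC
    rw [hsdef, hm]
    have hq0 : (0 : ℤ) ≤ q := Int.natCast_nonneg _
    nlinarith [mul_le_mul_of_nonneg_left hC hq0]
  -- rows
  obtain ⟨N, hN0, hNle, hSN⟩ : ∃ N : ℤ, 0 ≤ N ∧ N ≤ (2 * (q : ℤ) - 1) * (2 * q - 2) ∧ S = 2 * p * q * N := by
    haveI := F.pairs_trans h3
    refine ⟨∑ z, M F.base z ^ 2, Finset.sum_nonneg fun z _ => sq_nonneg _, ?_, ?_⟩
    · set U := ((Finset.univ : Finset Ω).erase (F.e 0)).erase (F.e 1)
      let P : Finset (Pr Ω) := Finset.univ.filter fun z => z.1.1 ∈ U ∧ z.1.2 ∈ U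
      have h0 : ∀ z, z ∉ P → M F.base z ^ 2 = 0 := fun z hz => by
        rw [pow_eq_zero_iff two_ne_zero]
        by_contra hne
        obtain ⟨e1, e2, e3, e4⟩ := hd _ _ hne
        refine hz (Finset.mem_filter.2 ⟨Finset.mem_univ _, ?_, ?_⟩)
        · simp [U, show z.1.1 ≠ F.e 0 from e1, show z.1.1 ≠ F.e 1 from e2]
        · simp [U, show z.1.2 ≠ F.e 0 from e3, show z.1.2 ≠ F.e 1 from e4]
      rw [← Finset.sum_subset (Finset.subset_univ P) fun z _ hz => h0 z hz]
      have hU : U.card = 2 * q - 1 := by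
        rw [Finset.card_erase_of_mem (by simp [F.ne01.symm]), Finset.card_erase_of_mem (Finset.mem_univ _),
          Finset.card_univ, ← Nat.card_eq_fintype_card, F.card_omega, F.hpq]
        omega
      have hP : P.card ≤ U.offDiag.card := by
        refine Finset.card_le_card_of_injOn (fun z => z.1) (fun z hz => ?_) fun z _ z' _ e => Subtype.ext e
        simp only [Finset.mem_coe, P, Finset.mem_filter] at hz
        simp only [Finset.mem_coe, Finset.mem_offDiag]
        exact ⟨hz.2.1, hz.2.2, z.2⟩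
      rw [Finset.offDiag_card, hU] at hP
      calc ∑ z ∈ P, M F.base z ^ 2 ≤ ∑ _z ∈ P, (1 : ℤ) :=
            Finset.sum_le_sum fun z _ => by rw [← sq_abs]; exact pow_le_one₀ (abs_nonneg _) (hb _ _)
        _ = P.card := by simp
        _ ≤ (((2 * q - 1) * (2 * q - 1) - (2 * q - 1) : ℕ) : ℤ) := Int.ofNat_le.2 hP
        _ = _ := by
          rw [Nat.cast_sub (Nat.le_mul_self _)]
          push_cast [Nat.cast_sub (show 1 ≤ 2 * q by omega)]
          ring
    · rw [hSdef, Finset.sum_congr rfl fun x _ => show ∑ z, M x z ^ 2 = ∑ z, M F.base z ^ 2 from ?_,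
        Finset.sum_const, Finset.card_univ, F.card_pr, nsmul_eq_mul]
      · push_cast; ring
      · obtain ⟨g, rfl⟩ := exists_smul_eq G F.base x
        exact (Fintype.sum_equiv (MulAction.toPerm g) _ _ fun z => by rw [toPerm_apply, hM g]).symm
  suffices S = 0 from hzero (by rw [hS1, this, Int.cast_zero])
  have he0 : (e : ℤ) ≠ 0 := by omega
  rcases hS.cases with ⟨hd0, hee⟩ | ⟨hd0, hee⟩
  · have hem : (e : ℤ) = m := by omega
    set d : ℤ := (p : ℤ) * e - 2 * q with hdd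
    subst hd0
    have hU : (e : ℤ) * s ^ 2 ≤ (q : ℤ) * Q - a0 ^ 2 := by
      rw [← hem] at hCau
      refine le_of_mul_le_mul_left (a := (e : ℤ)) ?_ (by omega)
      linarith [show (e : ℤ) * ((e : ℤ) * s ^ 2) = ((e : ℤ) * s) ^ 2 by ring]
    have hcop : IsCoprime (p : ℤ) d := by
      rw [(Nat.prime_iff_prime_int.1 (Fact.out : p.Prime)).coprime_iff_not_dvd]
      intro h
      have h2q : (p : ℤ) ∣ ((2 * q : ℕ) : ℤ) := by
        have := dvd_sub (dvd_mul_right (p : ℤ) e) h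
        push_cast
        simpa [hdd] using this
      have := Nat.le_of_dvd (by omega) (Int.natCast_dvd_natCast.1 h2q)
      have := F.hpq
      omega
    obtain ⟨j, rfl⟩ : (p : ℤ) ∣ s := hcop.dvd_of_dvd_mul_left ⟨-a0, by linear_combination I1⟩
    have hj : j = 0 := arith_fixed hpz (by exact_mod_cast hqq) hem hdd I1 hU I2 hNle hSN
    have ha : a0 = 0 := by
      rw [hj, mul_zero, mul_zero, add_zero, mul_eq_zero] at I1
      exact I1.resolve_left hp0
    subst hj
    rw [mul_zero, mul_zero, eq_comm, sub_eq_zero] at hsdef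
    -- all modes vanish
    have hall : ∀ k : (ZMod q)ˣ, F.half M (k : ZMod q) = 0 := by
      have hfix : ∀ k, F.gT k φ = φ := by
        intro k
        have hcard : F.stabU φ = Finset.univ := Finset.eq_univ_of_card _ (by
          rw [ZMod.card_units]; exact hee)
        exact F.mem_stabU.1 (hcard ▸ Finset.mem_univ k)
      intro k
      have hk : ∀ l : (ZMod q)ˣ, F.half M (l : ZMod q) = F.half M (k : ZMod q) := fun l => by
        refine mul_left_cancel₀ (two_ne_zero (α := ℂ)) ?_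
        rw [← hmd, ← hmd, hS.mode.md_support F (isClassFunction_kerFn hM) hsupp,
          hS.mode.md_support F (isClassFunction_kerFn hM) hsupp, hfix, hfix]
      have h := hhu
      rw [Finset.sum_congr rfl fun l _ => hk l, Finset.sum_const, nsmul_eq_mul, hsdef, sub_self,
        Int.cast_zero, mul_eq_zero] at h
      refine h.resolve_left (Nat.cast_ne_zero.2 ?_)
      simp only [Finset.card_univ, ZMod.card_units]
      omega
    have hU0 : (q : ℤ) * Q - a0 ^ 2 = 0 := by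
      have h := hpu
      simp only [hall, zero_mul, Finset.sum_const_zero] at h
      exact_mod_cast h.symm
    rw [hU0, ha] at I2
    simpa [show e ≠ 0 by omega] using I2
  · have hem : 2 * (e : ℤ) = m := by
      rw [hm, show (q : ℤ) - 1 = ((q - 1 : ℕ) : ℤ) by rw [Nat.cast_sub F.q_pos, Nat.cast_one], ← hee]
      push_cast; ring
    set d : ℤ := (p : ℤ) * e - 2 * q with hdd
    subst hd0
    have hU : (e : ℤ) * s ^ 2 ≤ 2 * ((q : ℤ) * Q - a0 ^ 2) := by
      rw [← hem] at hCau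
      refine le_of_mul_le_mul_left (a := (e : ℤ)) ?_ (by omega)
      linarith [show (e : ℤ) * ((e : ℤ) * s ^ 2) = ((e : ℤ) * s) ^ 2 by ring]
    have hdpos : 0 < d := by
      have h1 : (p : ℤ) * 2 ≤ p * e := mul_le_mul_of_nonneg_left (by omega) (by omega)
      omega
    have ha : a0 = 0 := arith_two hpz (by exact_mod_cast hqq) hem hdd I1 hU I2 hNle hSN
    · subst ha
      have hs0 : s = 0 := by
        rw [mul_zero, zero_add, mul_eq_zero] at I1
        exact I1.resolve_left hdpos.ne'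
      subst hs0
      rw [mul_zero, sub_zero, eq_comm, mul_eq_zero] at hsdef
      have hr00 : r0 = 0 := hsdef.resolve_left (by omega)
      obtain ⟨φ', hne', hφ'⟩ : ∃ φ', φ' ≠ φ ∧ ∀ k, F.gT k φ ≠ φ → F.gT k φ = φ' := by
        have hc2 : (F.orbU φ).card = 2 := by
          have := F.stab_mul_orb φ
          rw [← hee, mul_comm 2] at this
          exact Nat.eq_of_mul_eq_mul_left (by omega) this
        have hmem : φ ∈ F.orbU φ := F.mem_orbU.2 ⟨1, F.gT_one φ⟩
        obtain ⟨φ', hφ'⟩ := Finset.card_eq_one.1 (show ((F.orbU φ).erase φ).card = 1 by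
          rw [Finset.card_erase_of_mem hmem, hc2])
        refine ⟨φ', Finset.ne_of_mem_erase (hφ' ▸ Finset.mem_singleton_self φ'), fun k hk => ?_⟩
        rw [← Finset.mem_singleton, ← hφ']
        exact Finset.mem_erase.2 ⟨hk, F.mem_orbU.2 ⟨k, rfl⟩⟩
      have hst : ∀ k, F.gT k φ = φ ↔ k ∈ F.hGroup := by
        refine hS.mode.stab.resolve_left fun hall => ?_
        have hcard : F.stabU φ = Finset.univ := Finset.eq_univ_iff_forall.2 fun k => F.mem_stabU.2 (hall k)
        have : e = q - 1 := by rw [he, hcard, Finset.card_univ, ZMod.card_units]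
        omega
      have hrH : ∀ k ∈ F.hGroup, ∀ i, F.rowSum M ((k : ZMod q) * i) = F.rowSum M i := fun k hk i =>
        F.rowSum_smul hM hs hk i
      obtain ⟨k1, hk1⟩ : ∃ k, F.gT k φ ≠ φ := by
        by_contra hcon
        push Not at hcon
        exact hne' (by
          obtain ⟨k, hk⟩ := F.mem_orbU.1 (show φ ∈ F.orbU φ from F.mem_orbU.2 ⟨1, F.gT_one φ⟩)
          have hc2 : F.stabU φ = Finset.univ := Finset.eq_univ_iff_forall.2 fun k => F.mem_stabU.2 (hcon k)
          have : e = q - 1 := by rw [he, hc2, Finset.card_univ, ZMod.card_units]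
          omega)
      set v1 := F.rowSum M 1
      set v2 := F.rowSum M (k1 : ZMod q)
      let W : Cfsg.IrrCharacter G → ℤ := fun ψ => if ψ = φ then v1 else v2
      have hW : ∀ k : (ZMod q)ˣ, F.rowSum M (k : ZMod q) = W (F.gT k φ) := by
        intro k
        by_cases hk : F.gT k φ = φ
        · simp only [W, if_pos hk]
          have := hrH k ((hst k).1 hk) 1
          rwa [mul_one] at this
        · simp only [W, if_neg hk]
          have hk' : F.gT (k * k1⁻¹) φ = φ := by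
            have e1 : F.gT k φ = F.gT k1 φ := by rw [hφ' k hk, hφ' k1 hk1]
            rw [mul_comm, ← F.gT_mul, e1, F.gT_mul, inv_mul_cancel, F.gT_one]
          have := hrH _ ((hst _).1 hk') (k1 : ZMod q)
          rwa [← Units.val_mul, inv_mul_cancel_right] at this
      have horb : F.orbU φ = {φ, φ'} := by
        ext ψ
        simp only [Finset.mem_insert, Finset.mem_singleton, F.mem_orbU]
        constructor
        · rintro ⟨k, rfl⟩
          by_cases hk : F.gT k φ = φ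
          · exact Or.inl hk
          · exact Or.inr (hφ' k hk)
        · rintro (rfl | rfl)
          · exact ⟨1, F.gT_one _⟩
          · exact ⟨k1, hφ' k1 hk1⟩
      have hWsum : ∀ Wf : Cfsg.IrrCharacter G → ℤ,
          ∑ k : (ZMod q)ˣ, Wf (F.gT k φ) = (e : ℤ) * (Wf φ + Wf φ') := by
        intro Wf
        have h := F.orbit_image_sum φ fun ψ => (Wf ψ : ℂ)
        rw [horb, Finset.sum_pair (Ne.symm hne')] at h
        exact_mod_cast h
      have hWφ : W φ = v1 ∧ W φ' = v2 := by simp [W, hne']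
      have hlin : v1 + v2 = 0 := by
        have h := ha0
        rw [F.sum_zmod_units, ← hr0, hr00, zero_add, Finset.sum_congr rfl fun k _ => hW k, hWsum W,
          hWφ.1, hWφ.2] at h
        exact (mul_eq_zero.1 h.symm).resolve_left he0
      have hQv : Q = 2 * (e : ℤ) * v1 ^ 2 := by
        rw [hQ, F.sum_zmod_units, ← hr0, hr00, Finset.sum_congr rfl fun k _ => by rw [hW k],
          hWsum fun ψ => W ψ ^ 2, hWφ.1, hWφ.2, show v2 = -v1 by linarith]
        ring
      have hpv : (p : ℤ) ∣ v1 := by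
        have h : (p : ℤ) * N * e = 2 * d * Q := by
          have h' : (2 * (q : ℤ)) * ((p : ℤ) * N * e) = (2 * q) * (2 * d * Q) := by
            rw [hSN] at I2
            linear_combination I2
          exact mul_left_cancel₀ (by omega) h'
        rw [hQv] at h
        have h' : (p : ℤ) * N = 4 * d * v1 ^ 2 := mul_left_cancel₀ he0 (by linear_combination h)
        have hpr := Nat.prime_iff_prime_int.1 (Fact.out : p.Prime)
        have hdvd : (p : ℤ) ∣ 4 * d * v1 ^ 2 := ⟨N, h'.symm⟩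
        rcases hpr.dvd_mul.1 hdvd with h4 | h4
        · exfalso
          rcases hpr.dvd_mul.1 h4 with h5 | h5
          · have := Int.le_of_dvd (by norm_num) h5; omega
          · have h2q : (p : ℤ) ∣ ((2 * q : ℕ) : ℤ) := by
              have := dvd_sub (dvd_mul_right (p : ℤ) e) h5
              push_cast
              simpa [hdd] using this
            have := Nat.le_of_dvd (by omega) (Int.natCast_dvd_natCast.1 h2q)
            have := F.hpq
            omega
        · exact hpr.dvd_of_dvd_pow h4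
      have hv1 : |v1| < p := by
        have hzero : M F.base (F.nel 1 0 • F.base) = 0 := hd.zero_of_mem (a := F.e 0) (Or.inl rfl)
          (Or.inl (by show F.nel 1 0 • F.e 0 = _; rw [F.act', mul_zero, zero_add]))
        calc |v1| ≤ ∑ z : ZMod p, |M F.base (F.nel 1 z • F.base)| := Finset.abs_sum_le_sum_abs _ _
          _ = ∑ z ∈ (Finset.univ : Finset (ZMod p)).erase 0, |M F.base (F.nel 1 z • F.base)| :=
              (Finset.sum_erase _ (by rw [hzero, abs_zero])).symm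
          _ ≤ ∑ _z ∈ (Finset.univ : Finset (ZMod p)).erase 0, (1 : ℤ) := Finset.sum_le_sum fun z _ => hb _ _
          _ = ((p - 1 : ℕ) : ℤ) := by simp
          _ < p := by have := (Fact.out : p.Prime).pos; omega
      have hv0 : v1 = 0 := Int.eq_zero_of_abs_lt_dvd hpv hv1
      rw [hQv, hv0] at I2
      simpa [show e ≠ 0 by omega] using I2

/-- A kernel antisymmetric in the second place and symmetric in the first vanishes. -/
theorem mixed_kernel_zero (hins : ¬ Group.IsSolvable G) (hH : ∃ k ∈ F.hGroup, k ≠ 1)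
    {K : Pr Ω → Pr Ω → ℤ} (hK : Inv G K) (h1 : ∀ x y, K (swp x) y = K x y)
    (h2 : ∀ x y, K x (swp y) = -K x y) (hd : Disj K) : ∀ x y, K x y = 0 := by
  classical
  have hsT : ∀ x y, mulT K x (swp y) = mulT K x y := fun x y => by
    simp only [mulT, h1]
  have hsT' : ∀ x y, mulT (fun a b => K b a) x (swp y) = -mulT (fun a b => K b a) x y := fun x y => by
    simp only [mulT, h2, mul_neg, Finset.sum_neg_distrib]
  have hswap : kerFn (G := G) (mulT K) = kerFn (mulT fun a b => K b a) := funext fun g => kerFn_mulT_swap hK g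
  set g := kerFn (G := G) (mulT K) with hg
  have hrho : ∀ ψ : Cfsg.IrrCharacter G, Cfsg.classInner (rho Ω) (ψ : G → ℂ) = 0 →
      Cfsg.classInner g (ψ : G → ℂ) = 0 := fun ψ h => kerFn_rho hsT ψ h
  have halt : ∀ ψ : Cfsg.IrrCharacter G, Cfsg.classInner (alt Ω) (ψ : G → ℂ) = 0 →
      Cfsg.classInner g (ψ : G → ℂ) = 0 := fun ψ h => by rw [hswap]; exact kerFn_alt hsT' ψ h
  have hone : Cfsg.classInner (alt Ω) (principal G : G → ℂ) = 0 := (F.inner_one h3).2
  have hc : Cfsg.classInner g (F.chiP h3 : G → ℂ) = 0 :=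
    F.chiP_of_pc h3 (halt (principal G) hone) (F.pc_mulT h3 hK h2 hd)
  have hall : ∀ ψ : Cfsg.IrrCharacter G, Cfsg.classInner g (ψ : G → ℂ) = 0 := by
    intro ψ
    by_contra hne
    have hr : Cfsg.classInner (rho Ω) (ψ : G → ℂ) ≠ 0 := fun h => hne (hrho ψ h)
    have ha : Cfsg.classInner (alt Ω) (ψ : G → ℂ) ≠ 0 := fun h => hne (halt ψ h)
    have hnc : ψ ≠ F.chiP h3 := fun h => hne (h ▸ hc)
    have hn1 := F.alt_ne_one h3 ψ ha
    have hpr : Cfsg.classInner (pc (Pr Ω)) (ψ : G → ℂ) ≠ 0 := by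
      rw [show pc (Pr Ω) = rho Ω + alt Ω from funext fun g : G => (rho_add_alt (Ω := Ω) g).symm,
        classInner_add_left]
      obtain ⟨a, ha'⟩ := IsCharacter.exists_classInner_nat (isCharacter_rho (G := G) (Ω := Ω)) (IsIrrCharacter.isCharacter ψ.2)
      obtain ⟨b, hb'⟩ := IsCharacter.exists_classInner_nat (isCharacter_alt (G := G) (Ω := Ω)) (IsIrrCharacter.isCharacter ψ.2)
      rw [ha', hb', ← Nat.cast_add, Nat.cast_ne_zero]
      rw [hb', Nat.cast_ne_zero] at ha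
      omega
    -- its degree on the side of `rho`
    obtain ⟨φr, hR⟩ := F.rho_cases h3 hins hH
    obtain ⟨l, rfl⟩ := F.mem_orbU.1 ((hR.cover ψ hr hn1).resolve_left hnc)
    have hmd0 : F.md (F.gT l φr : G → ℂ) 0 = 0 := hR.zero0 _ (F.mem_orbU.2 ⟨l, rfl⟩)
    have hdeg : (F.gT l φr : G → ℂ) 1 = (p : ℂ) * (F.stabU φr).card := by rw [F.gT_degree, hR.deg]
    rcases F.alt_cases h3 hins hH with ⟨φ, hO⟩ | ⟨φ, φ0, d0, hS⟩
    · rw [(hO.cover _ ha).resolve_left hnc, hO.md0] at hmd0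
      exact one_ne_zero hmd0
    · rcases (hS.cover _ ha).resolve_left hnc with h | h
      · rw [h, hS.md0] at hmd0
        exact one_ne_zero hmd0
      · obtain ⟨k, hk⟩ := F.mem_orbU.1 h
        rw [← hk, F.gT_degree, hS.deg] at hdeg
        have h' : (((p : ℤ) * (F.stabU φ).card - 2 * q : ℤ) : ℂ) = (((p : ℤ) * (F.stabU φr).card : ℤ) : ℂ) := by
          push_cast; exact hdeg
        rw [Int.cast_inj] at h'
        have h2q : (p : ℤ) ∣ ((2 * q : ℕ) : ℤ) :=
          ⟨(F.stabU φ).card - (F.stabU φr).card, by push_cast; linear_combination -h'⟩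
        have := Nat.le_of_dvd (by have := F.q_pos; omega) (Int.natCast_dvd_natCast.1 h2q)
        have := F.hpq
        omega
  refine eq_zero_of_mulT (G := G) ?_
  show g 1 = 0
  rw [hg, kerFn_expansion (inv_mulT hK)]
  exact Finset.sum_eq_zero fun ψ _ => by rw [← hg, hall ψ, zero_mul]

end Frame

end Cfsg.Agent.ItoTwoQ
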