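import Cfsg.Agent.Lib.ItoTwoQ.Rule

/-!
The characters on pairs of points and their constituents by multiplicities on the normaliser.
-/

set_option autoImplicit false
set_option linter.unusedSectionVars false
set_option linter.style.haveILetI false

namespace Cfsg.Agent.ItoTwoQ

open MulAction Cfsg.Agent.Char
open scoped ComplexConjugate
open Cfsg.Agent.TwiceP (chi)

universe u v

/-- Ordered pairs of distinct points. -/
def Pr (Ω : Type v) : Type v := {v : Ω × Ω // v.1 ≠ v.2}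

variable {G : Type u} [Group G] {Ω : Type v} [MulAction G Ω]

instance : MulAction G (Pr Ω) where
  smul g x := ⟨(g • x.1.1, g • x.1.2), fun h => x.2 (smul_left_cancel g h)⟩
  one_smul x := Subtype.ext (Prod.ext (one_smul G x.1.1) (one_smul G x.1.2))
  mul_smul a b x := Subtype.ext (Prod.ext (mul_smul a b x.1.1) (mul_smul a b x.1.2))

noncomputable instance [Fintype Ω] : Fintype (Pr Ω) := by
  classical
  exact Subtype.fintype _

theorem Pr.smul_fst (g : G) (x : Pr Ω) : (g • x).1.1 = g • x.1.1 := rfl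

theorem Pr.smul_snd (g : G) (x : Pr Ω) : (g • x).1.2 = g • x.1.2 := rfl

theorem Pr.ext' {x y : Pr Ω} (h1 : x.1.1 = y.1.1) (h2 : x.1.2 = y.1.2) : x = y :=
  Subtype.ext (Prod.ext h1 h2)

/-- The exchange of the two points. -/
def swp : Pr Ω ≃ Pr Ω where
  toFun x := ⟨(x.1.2, x.1.1), x.2.symm⟩
  invFun x := ⟨(x.1.2, x.1.1), x.2.symm⟩
  left_inv _ := rfl
  right_inv _ := rfl

theorem swp_swp (x : Pr Ω) : swp (swp x) = x := rfl

theorem smul_swp (g : G) (x : Pr Ω) : g • swp x = swp (g • x) := rfl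

variable [Fintype G] [Fintype Ω]

/-- The permutation character on unordered pairs. -/
noncomputable def rho (Ω : Type v) [MulAction G Ω] [Fintype Ω] (g : G) : ℂ :=
  (2 : ℂ)⁻¹ * tw (G := G) 1 (swp (Ω := Ω)) g

/-- The signed character on unordered pairs. -/
noncomputable def alt (Ω : Type v) [MulAction G Ω] [Fintype Ω] (g : G) : ℂ :=
  (2 : ℂ)⁻¹ * tw (G := G) (-1) (swp (Ω := Ω)) g

theorem isCharacter_rho : Cfsg.IsCharacter G (rho Ω) :=
  isCharacter_tw (by norm_num) swp swp_swp smul_swp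

theorem isCharacter_alt : Cfsg.IsCharacter G (alt Ω) :=
  isCharacter_tw (by norm_num) swp swp_swp smul_swp

theorem rho_add_alt (g : G) : rho Ω g + alt Ω g = pc (Pr Ω) g := by
  classical
  simp only [rho, alt, tw, pc_eq, ← mul_add, ← Finset.sum_add_distrib, Finset.mul_sum]
  refine Finset.sum_congr rfl fun x _ => ?_
  split_ifs <;> push_cast <;> ring

theorem pc_Pr (g : G) : pc (Pr Ω) g = pc Ω g * (pc Ω g - 1) := by
  classical
  have h : pc Ω g * pc Ω g = pc (Pr Ω) g + pc Ω g := by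
    simp only [pc, ← Nat.cast_mul, ← Nat.cast_add, Nat.cast_inj, ← Nat.card_prod]
    rw [← Nat.card_sum]
    refine Nat.card_congr
      { toFun := fun ab => if h : ab.1.1 = ab.2.1 then Sum.inr ab.1 else
          Sum.inl ⟨⟨(ab.1.1, ab.2.1), h⟩, Pr.ext' ab.1.2 ab.2.2⟩
        invFun := fun s => s.elim
          (fun x => (⟨x.1.1.1, congrArg (fun y : Pr Ω => y.1.1) x.2⟩, ⟨x.1.1.2, congrArg (fun y : Pr Ω => y.1.2) x.2⟩))
          fun a => (a, a)
        left_inv := fun ab => by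
          by_cases h : ab.1.1 = ab.2.1
          · simp only [h, dite_true, Sum.elim_inr]
            exact Prod.ext rfl (Subtype.ext h)
          · simp only [h, dite_false, Sum.elim_inl]
        right_inv := fun s => by
          rcases s with x | a
          · simp only [Sum.elim_inl]
            exact dif_neg x.1.2
          · simp }
  linear_combination -h

variable {p q : ℕ} (F : Frame G Ω p q) [Fact p.Prime] [Fact q.Prime] [FaithfulSMul G Ω]
  [IsPretransitive G Ω] [F.Good]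

namespace Frame

include F

theorem two_ne : (2 : ZMod p) ≠ 0 := fun h => by
  have h2 : ((2 : ℕ) : ZMod p) = 0 := by exact_mod_cast h
  have := Nat.le_of_dvd (by omega) ((ZMod.natCast_eq_zero_iff 2 p).1 h2)
  have := F.hpq
  have := F.hq
  omega

theorem two_ne' : (2 : ZMod q) ≠ 0 := fun h => by
  have h2 : ((2 : ℕ) : ZMod q) = 0 := by exact_mod_cast h
  have := Nat.le_of_dvd (by omega) ((ZMod.natCast_eq_zero_iff 2 q).1 h2)
  have := F.hq
  omega

/-- The normaliser is semiregular on pairs. -/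
theorem pair_free {i : ZMod q} {z : ZMod p} {x : Pr Ω}
    (h : F.nel i z • x = x ∨ F.nel i z • x = swp x) : F.nel i z = 1 := by
  have h2 : F.nel (i + i) (z + F.rp i * z) • x = x := by
    rw [← F.nel_mul, mul_smul]
    rcases h with h | h
    · rw [h, h]
    · rw [h, smul_swp, h, swp_swp]
  obtain ⟨a, ha⟩ := F.e.surjective x.1.1
  obtain ⟨b, hb⟩ := F.e.surjective x.1.2
  have hab : a ≠ b := fun e => x.2 (by rw [← ha, ← hb, e])
  have e1 := congrArg (fun y : Pr Ω => y.1.1) h2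
  have e2 := congrArg (fun y : Pr Ω => y.1.2) h2
  simp only [Pr.smul_fst, Pr.smul_snd, ← ha, ← hb, F.act', F.e.injective.eq_iff] at e1 e2
  have h3 : F.rp (i + i) = 1 := by
    have h4 : (F.rp (i + i) - 1) * (a - b) = 0 := by linear_combination e1 - e2
    exact sub_eq_zero.1 ((mul_eq_zero.1 h4).resolve_right (sub_ne_zero.2 hab))
  have hi : i = 0 := by
    have h4 : (2 : ZMod q) * i = 0 := by rw [two_mul]; exact F.rp_eq_one.1 h3
    exact (mul_eq_zero.1 h4).resolve_left F.two_ne'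
  subst hi
  simp only [add_zero, F.rp_zero, one_mul] at e1
  rw [add_eq_left, ← two_mul, mul_eq_zero] at e1
  rw [e1.resolve_left F.two_ne, F.nel_zero]

theorem tw_nel {ε : ℤ} {i : ZMod q} {z : ZMod p} (h : F.nel i z ≠ 1) :
    tw (G := G) ε (swp (Ω := Ω)) (F.nel i z) = 0 := by
  classical
  refine Finset.sum_eq_zero fun x _ => ?_
  rw [if_neg fun e => h (F.pair_free (Or.inl e)), if_neg fun e => h (F.pair_free (Or.inr e)), add_zero]

theorem card_pr : Fintype.card (Pr Ω) = 2 * (p * q) := by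
  classical
  show Fintype.card {v : Ω × Ω // v.1 ≠ v.2} = _
  have he : Fintype.card {v : Ω × Ω // v.1 = v.2} = p := by
    rw [← Nat.card_eq_fintype_card, ← F.card_omega]
    exact Nat.card_congr
      { toFun := fun v => v.1.1, invFun := fun a => ⟨(a, a), rfl⟩
        left_inv := fun v => Subtype.ext (Prod.ext rfl v.2), right_inv := fun a => rfl }
  rw [Fintype.card_subtype_compl, he, Fintype.card_prod, ← Nat.card_eq_fintype_card, F.card_omega]
  rw [show p * p = 2 * (p * q) + p by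
    conv_lhs => arg 2; rw [F.hpq]
    ring]
  omega

theorem tw_one {ε : ℤ} : tw (G := G) ε (swp (Ω := Ω)) 1 = 2 * (p * q) := by
  classical
  have h : ∀ x : Pr Ω, x ≠ swp x := fun x e => x.2 (congrArg (fun y : Pr Ω => y.1.1) e)
  rw [tw, Finset.sum_congr rfl fun x _ => show _ = (1 : ℂ) by rw [one_smul, if_pos rfl, if_neg (h x), add_zero],
    Finset.sum_const, Finset.card_univ, F.card_pr, nsmul_eq_mul, mul_one]
  push_cast
  ring

theorem md_rho (j : ZMod q) : F.md (rho Ω) j = 1 := by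
  have hp : (p : ℂ) ≠ 0 := Nat.cast_ne_zero.2 (Fact.out : p.Prime).ne_zero
  have hq : (q : ℂ) ≠ 0 := Nat.cast_ne_zero.2 F.q_pos.ne'
  rw [F.md_regular (fun i z h => by rw [rho, F.tw_nel h, mul_zero]), rho, F.tw_one]
  field_simp

theorem md_alt (j : ZMod q) : F.md (alt Ω) j = 1 := by
  have hp : (p : ℂ) ≠ 0 := Nat.cast_ne_zero.2 (Fact.out : p.Prime).ne_zero
  have hq : (q : ℂ) ≠ 0 := Nat.cast_ne_zero.2 F.q_pos.ne'
  rw [F.md_regular (fun i z h => by rw [alt, F.tw_nel h, mul_zero]), alt, F.tw_one]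
  field_simp

theorem rho_one : rho (G := G) Ω 1 = p * q := by rw [rho, F.tw_one]; ring

theorem alt_one : alt (G := G) Ω 1 = p * q := by rw [alt, F.tw_one]; ring

/-- A function invariant under field automorphisms and power maps. -/
structure Rational (f : G → ℂ) : Prop where
  aut : ∀ (σ : ℂ ≃+* ℂ) g, σ (f g) = f g
  pow : ∀ (K : ℕ), K.Coprime (Nat.card G) → Odd K → ∀ g, f (g ^ K) = f g

omit F in
theorem rational_pc {X : Type v} [MulAction G X] [Fintype X] : Rational (G := G) (pc X) where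
  aut σ g := by simp [pc]
  pow K hK _ g := by
    have : fixedBy X (g ^ K) = fixedBy X g := by
      ext x
      simp only [mem_fixedBy]
      refine ⟨fun h => ?_, fun h => mem_stabilizer_iff.1 (pow_mem (mem_stabilizer_iff.2 h) K)⟩
      obtain ⟨n, hn⟩ := exists_pow_eq_self_of_coprime
        (hK.coprime_dvd_right (orderOf_dvd_natCard g))
      rw [← hn]
      exact mem_stabilizer_iff.1 (pow_mem (mem_stabilizer_iff.2 h) n)
    rw [pc, pc, this]

omit F in
theorem rational_tw (ε : ℤ) : Rational (G := G) fun g => (2 : ℂ)⁻¹ * tw (G := G) ε (swp (Ω := Ω)) g where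
  aut σ g := by simp [tw, apply_ite σ, map_ofNat]
  pow K hK hodd g := by
    classical
    have hfix : ∀ x : Pr Ω, (g ^ K) • x = x ↔ g • x = x := fun x => by
      refine ⟨fun h => ?_, fun h => mem_stabilizer_iff.1 (pow_mem (mem_stabilizer_iff.2 h) K)⟩
      obtain ⟨n, hn⟩ := exists_pow_eq_self_of_coprime
        (hK.coprime_dvd_right (orderOf_dvd_natCard g))
      rw [← hn]
      exact mem_stabilizer_iff.1 (pow_mem (mem_stabilizer_iff.2 h) n)
    have hsw : ∀ (g : G) (x : Pr Ω), g • x = swp x → ∀ n : ℕ,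
        (g ^ n) • x = if Odd n then swp x else x := by
      intro g x h n
      induction n with
      | zero => simp
      | succ n ih =>
        rw [pow_succ', mul_smul, ih]
        by_cases hn : Odd n
        · rw [if_pos hn, if_neg (by rw [Nat.not_odd_iff_even]; exact hn.add_one), smul_swp, h, swp_swp]
        · rw [if_neg hn, if_pos (Nat.not_odd_iff_even.1 hn).add_one, h]
    have hswap : ∀ x : Pr Ω, (g ^ K) • x = swp x ↔ g • x = swp x := fun x => by
      refine ⟨fun h => ?_, fun h => by rw [hsw g x h K, if_pos hodd]⟩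
      obtain ⟨n, hn⟩ := exists_pow_eq_self_of_coprime
        (hK.coprime_dvd_right (orderOf_dvd_natCard g))
      have h2 := hsw (g ^ K) x h n
      rw [hn] at h2
      by_cases hnn : Odd n
      · rwa [if_pos hnn] at h2
      · rw [if_neg hnn] at h2
        exact absurd (((hfix x).2 h2).symm.trans h : x = swp x) fun e => x.2 (congrArg (fun y : Pr Ω => y.1.1) e)
    simp only [tw, hfix, hswap]

theorem rational_rho : Rational (G := G) (rho Ω) := rational_tw 1

theorem rational_alt : Rational (G := G) (alt Ω) := rational_tw (-1)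

omit F in
theorem Rational.sub {f g : G → ℂ} (hf : Rational f) (hg : Rational g) :
    Rational (fun x => f x - g x) where
  aut σ x := by rw [map_sub, hf.aut, hg.aut]
  pow K hK ho x := by rw [hf.pow K hK ho, hg.pow K hK ho]

/-- The multiplicities of a character are those of its constituents. -/
theorem md_decomp {f : G → ℂ} (hf : Cfsg.IsCharacter G f) (j : ZMod q) :
    F.md f j = ∑ ψ : Cfsg.IrrCharacter G, Cfsg.classInner f (ψ : G → ℂ) * F.md (ψ : G → ℂ) j := by
  conv_lhs => rw [IsCharacter.eq_sum hf]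
  rw [show (∑ ψ : Cfsg.IrrCharacter G, Cfsg.classInner f (ψ : G → ℂ) • (ψ : G → ℂ)) =
    fun g => ∑ ψ : Cfsg.IrrCharacter G, Cfsg.classInner f (ψ : G → ℂ) * (ψ : G → ℂ) g from
      funext fun g => by simp [Finset.sum_apply], F.md_sum]
  exact Finset.sum_congr rfl fun ψ _ => F.md_mul_left _ _ _

omit F in
theorem inner_nat {f : G → ℂ} (hf : Cfsg.IsCharacter G f) (φ : Cfsg.IrrCharacter G) :
    ∃ n : ℕ, Cfsg.classInner f (φ : G → ℂ) = n :=
  IsCharacter.exists_classInner_nat hf (IsIrrCharacter.isCharacter φ.2)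

omit F in
theorem inner_galT {f : G → ℂ} (hf : Cfsg.IsCharacter G f) (hr : Rational f) (σ : ℂ ≃+* ℂ)
    (φ : Cfsg.IrrCharacter G) :
    Cfsg.classInner f (DefOne.galT σ φ : G → ℂ) = Cfsg.classInner f (φ : G → ℂ) := by
  have key : ∀ ψ : Cfsg.IrrCharacter G, Cfsg.classInner f (ψ : G → ℂ) =
      (Nat.card G : ℂ)⁻¹ * ∑ g : G, (ψ : G → ℂ) g * f g := by
    intro ψ
    rw [classInner_comm_of_isCharacter hf (IsIrrCharacter.isCharacter ψ.2), Cfsg.classInner]
    congr 1
    refine Finset.sum_congr rfl fun g _ => ?_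
    rw [← IsCharacter.inv hf g]
    have h1 : Nat.card G * 2 - 1 + 1 = Nat.card G * 2 := by have := Nat.card_pos (α := G); omega
    have h2 : g⁻¹ = g ^ (Nat.card G * 2 - 1) := inv_eq_of_mul_eq_one_left (by
      rw [← pow_succ, h1, pow_mul, pow_card_eq_one', one_pow])
    rw [h2, hr.pow _ ?_ ?_]
    · exact Nat.Coprime.of_dvd_right ⟨2, rfl⟩ ((Nat.coprime_self_sub_left (by omega)).2 (Nat.coprime_one_left _))
    · rw [Nat.odd_iff]; omega
  obtain ⟨n, hn⟩ := inner_nat hf φ
  rw [key (DefOne.galT σ φ)]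
  have h := congrArg σ (key φ)
  simp only [hn, map_natCast, map_mul, map_inv₀, map_sum, hr.aut] at h
  rw [hn]
  simpa [DefOne.galT_apply] using h.symm

theorem inner_gT' {f : G → ℂ} (hr : Rational f) (k : (ZMod q)ˣ) (φ : Cfsg.IrrCharacter G) :
    Cfsg.classInner f (F.gT k φ : G → ℂ) = Cfsg.classInner f (φ : G → ℂ) :=
  F.inner_gT k φ f (hr.pow _ (F.pw_coprime k) (F.pw_odd k))

/-- Uniqueness of a constituent with a given mode. -/
theorem mode_unique {f : G → ℂ} (hf : Cfsg.IsCharacter G f) {j : ZMod q} (h1 : F.md f j = 1) :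
    ∃ φ : Cfsg.IrrCharacter G, Cfsg.classInner f (φ : G → ℂ) = 1 ∧ F.md (φ : G → ℂ) j = 1 ∧
      ∀ ψ : Cfsg.IrrCharacter G, Cfsg.classInner f (ψ : G → ℂ) ≠ 0 → F.md (ψ : G → ℂ) j ≠ 0 → ψ = φ := by
  classical
  choose m hm using fun ψ => inner_nat hf ψ
  choose d hd using fun ψ : Cfsg.IrrCharacter G => F.md_nat (IsIrrCharacter.isCharacter ψ.2) j
  have h := F.md_decomp hf j
  simp only [h1, hm, hd, ← Nat.cast_mul, ← Nat.cast_sum] at h
  have h' : ∑ ψ, m ψ * d ψ = 1 := by exact_mod_cast h.symm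
  obtain ⟨φ, hφ⟩ : ∃ φ, m φ * d φ ≠ 0 := by
    by_contra hcon
    push Not at hcon
    rw [Finset.sum_eq_zero fun ψ _ => hcon ψ] at h'
    omega
  have hle := Finset.single_le_sum (f := fun ψ => m ψ * d ψ) (fun ψ _ => Nat.zero_le _) (Finset.mem_univ φ)
  have h11 : m φ * d φ = 1 := by
    beta_reduce at hle
    omega
  refine ⟨φ, ?_, ?_, fun ψ hψ hψd => ?_⟩
  · rw [hm, Nat.eq_one_of_mul_eq_one_right h11, Nat.cast_one]
  · rw [hd, Nat.eq_one_of_mul_eq_one_left h11, Nat.cast_one]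
  · by_contra hne
    rw [hm, Nat.cast_ne_zero] at hψ
    rw [hd, Nat.cast_ne_zero] at hψd
    have h2 := Finset.add_le_sum (f := fun ψ => m ψ * d ψ) (fun ψ _ => Nat.zero_le _)
      (Finset.mem_univ φ) (Finset.mem_univ ψ) (Ne.symm hne)
    have := Nat.mul_pos (Nat.pos_of_ne_zero hψ) (Nat.pos_of_ne_zero hψd)
    beta_reduce at h2
    omega

/-- A constituent with a mode of multiplicity one has degree given by the rule. -/
theorem mode_degree {f : G → ℂ} (hf : Cfsg.IsCharacter G f) (hr : Rational f) {j : ZMod q}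
    (h1 : F.md f j = 1) {φ : Cfsg.IrrCharacter G} (hφ : Cfsg.classInner f (φ : G → ℂ) ≠ 0)
    (hj : F.md (φ : G → ℂ) j ≠ 0) :
    ∃ n : ℕ, ∃ ε : ℤ, F.nfix (φ : G → ℂ) = n ∧ (ε = -1 ∨ ε = 0 ∨ ε = 1) ∧
      (φ : G → ℂ) 1 = (p : ℂ) * n - 2 * q * ε := by
  obtain ⟨φ', -, -, hu⟩ := F.mode_unique hf h1
  obtain ⟨n, hn, -, hfix⟩ := F.rule φ
  obtain ⟨ε, hε, hd⟩ := hfix fun σ hσ => by
    rw [hu φ hφ hj]
    refine hu _ ?_ ?_
    · rw [inner_galT hf hr, ← hu φ hφ hj]; exact hφ
    · rw [F.md_galT hσ, ← hu φ hφ hj]; exact hj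
  exact ⟨n, ε, hn, hε, hd⟩

/-- The orbit of the constituent with mode one, when all modes are simple. -/
theorem mode_orbit {f : G → ℂ} (hf : Cfsg.IsCharacter G f) (hr : Rational f)
    (h1 : ∀ j, j ≠ 0 → F.md f j = 1) :
    ∃ φ : Cfsg.IrrCharacter G, Cfsg.classInner f (φ : G → ℂ) = 1 ∧ F.md (φ : G → ℂ) 1 = 1 ∧
      (∀ k : (ZMod q)ˣ, ∀ ψ : Cfsg.IrrCharacter G, Cfsg.classInner f (ψ : G → ℂ) ≠ 0 →
        F.md (ψ : G → ℂ) (k : ZMod q) ≠ 0 → ψ = F.gT k φ) ∧
      ((∀ k, F.gT k φ = φ) ∨ ∀ k, F.gT k φ = φ ↔ k ∈ F.hGroup) ∧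
      ∀ k : (ZMod q)ˣ, F.md (φ : G → ℂ) (k : ZMod q) = if F.gT k φ = φ then 1 else 0 := by
  classical
  obtain ⟨φ, hφ, hφ1, hu⟩ := F.mode_unique hf (h1 1 one_ne_zero)
  have hk : ∀ k : (ZMod q)ˣ, ∀ ψ : Cfsg.IrrCharacter G, Cfsg.classInner f (ψ : G → ℂ) ≠ 0 →
      F.md (ψ : G → ℂ) (k : ZMod q) ≠ 0 → ψ = F.gT k φ := by
    intro k ψ hψ hψk
    have h2 : F.gT k⁻¹ ψ = φ := by
      refine hu _ (by rw [F.inner_gT' hr]; exact hψ) ?_
      rw [← Units.inv_mul k, ← mul_one ((k⁻¹ : (ZMod q)ˣ) : ZMod q), mul_one ((k⁻¹ : (ZMod q)ˣ) : ZMod q),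
        F.md_gT]
      exact hψk
    rw [← h2, F.gT_mul, mul_inv_cancel, F.gT_one]
  have hgk : ∀ k : (ZMod q)ˣ, F.md (F.gT k φ : G → ℂ) (k : ZMod q) = 1 := fun k => by
    rw [← mul_one (k : ZMod q), F.md_gT, hφ1]
  refine ⟨φ, hφ, hφ1, hk, ?_, fun k => ?_⟩
  · by_cases hex : ∃ k, k ∉ F.hGroup ∧ F.gT k φ = φ
    · obtain ⟨k, hk', hkφ⟩ := hex
      exact Or.inl (F.fixed_of_fixed hk' hkφ)
    · exact Or.inr fun k => ⟨fun h => by_contra fun h' => hex ⟨k, h', h⟩, fun h => F.gT_of_mem h φ⟩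
  · split_ifs with h
    · have := hgk k; rwa [h] at this
    · by_contra hne
      exact h (hk k φ (by rw [hφ]; exact one_ne_zero) hne).symm

end Frame

end Cfsg.Agent.ItoTwoQ
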