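import Cfsg.Agent.Lib.ItoTwoQ.Orient

/-!
Triply transitive groups: the orbits on quadruples, their symmetry and their lengths.
-/

set_option autoImplicit false
set_option linter.unusedSectionVars false
set_option linter.style.haveILetI false

namespace Cfsg.Agent.ItoTwoQ

open MulAction Cfsg.Agent.Char
open scoped ComplexConjugate

universe u v

variable {G : Type u} [Group G] {Ω : Type v} [MulAction G Ω] [Fintype G] [Fintype Ω]
variable {p q : ℕ} (F : Frame G Ω p q) [Fact p.Prime] [Fact q.Prime] [FaithfulSMul G Ω]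
  [IsPretransitive G Ω] [F.Good]

/-- One quadruple is carried to another. -/
def Conn (G : Type u) [Group G] {Ω : Type v} [MulAction G Ω] (a b c d x y z w : Ω) : Prop :=
  ∃ g : G, g • a = x ∧ g • b = y ∧ g • c = z ∧ g • d = w

omit [Fintype G] [Fintype Ω] [FaithfulSMul G Ω] [IsPretransitive G Ω] in
theorem Conn.trans {a b c d x y z w x' y' z' w' : Ω} (h : Conn G a b c d x y z w)
    (h' : Conn G x y z w x' y' z' w') : Conn G a b c d x' y' z' w' := by
  obtain ⟨g, ga, gb, gc, gd⟩ := h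
  obtain ⟨k, ka, kb, kc, kd⟩ := h'
  exact ⟨k * g, by rw [mul_smul, ga, ka], by rw [mul_smul, gb, kb], by rw [mul_smul, gc, kc],
    by rw [mul_smul, gd, kd]⟩

omit [Fintype G] [Fintype Ω] [FaithfulSMul G Ω] [IsPretransitive G Ω] in
theorem conn_smul (g : G) {a b c d x y z w : Ω} :
    Conn G a b c d (g • x) (g • y) (g • z) (g • w) ↔ Conn G a b c d x y z w := by
  constructor
  · intro h
    exact h.trans ⟨g⁻¹, inv_smul_smul g x, inv_smul_smul g y, inv_smul_smul g z, inv_smul_smul g w⟩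
  · intro h
    exact h.trans ⟨g, rfl, rfl, rfl, rfl⟩

open scoped Classical in
/-- The indicator of an orbit of quadruples. -/
noncomputable def quadI (G : Type u) [Group G] {Ω : Type v} [MulAction G Ω] (a b c d x y z w : Ω) : ℤ :=
  if Conn G a b c d x y z w then 1 else 0

omit [Fintype G] [Fintype Ω] [FaithfulSMul G Ω] [IsPretransitive G Ω] in
theorem quadI_nonneg (a b c d x y z w : Ω) : 0 ≤ quadI G a b c d x y z w ∧ quadI G a b c d x y z w ≤ 1 := by
  unfold quadI; split_ifs <;> simp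

omit [Fintype G] [Fintype Ω] [FaithfulSMul G Ω] [IsPretransitive G Ω] in
theorem quadI_self (a b c d : Ω) : quadI G a b c d a b c d = 1 := by
  rw [quadI, if_pos ⟨1, one_smul _ _, one_smul _ _, one_smul _ _, one_smul _ _⟩]

omit [Fintype G] [Fintype Ω] [FaithfulSMul G Ω] [IsPretransitive G Ω] in
theorem quadI_congr {a b c d x y z w x' y' z' w' : Ω}
    (h : Conn G a b c d x y z w ↔ Conn G a b c d x' y' z' w') :
    quadI G a b c d x y z w = quadI G a b c d x' y' z' w' := by
  classical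
  unfold quadI
  exact if_congr h rfl rfl

omit [Fintype G] [Fintype Ω] [FaithfulSMul G Ω] [IsPretransitive G Ω] in
theorem quadI_smul (g : G) (a b c d x y z w : Ω) :
    quadI G a b c d (g • x) (g • y) (g • z) (g • w) = quadI G a b c d x y z w :=
  quadI_congr (conn_smul g)

omit [Fintype G] [Fintype Ω] [FaithfulSMul G Ω] [IsPretransitive G Ω] in
theorem quadI_dist {a b c d : Ω} (hac : a ≠ c) (had : a ≠ d) (hbc : b ≠ c) (hbd : b ≠ d) {x y z w : Ω}
    (h : quadI G a b c d x y z w ≠ 0) : z ≠ x ∧ z ≠ y ∧ w ≠ x ∧ w ≠ y := by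
  unfold quadI at h
  split_ifs at h with hc
  · obtain ⟨g, rfl, rfl, rfl, rfl⟩ := hc
    exact ⟨fun e => hac (smul_left_cancel g e).symm, fun e => hbc (smul_left_cancel g e).symm,
      fun e => had (smul_left_cancel g e).symm, fun e => hbd (smul_left_cancel g e).symm⟩
  · exact absurd rfl h

namespace Frame

include F

variable (h3 : IsMultiplyPretransitive G Ω 3) (hins : ¬ Group.IsSolvable G)
  (hH : ∃ k ∈ F.hGroup, k ≠ 1)

include h3 hins hH

theorem mixed_swap {a b c d : Ω} (hab : a ≠ b) (hac : a ≠ c) (had : a ≠ d) (hbc : b ≠ c) (hbd : b ≠ d)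
    (hcd : c ≠ d) : Conn G a b c d a b d c ∨ Conn G a b c d b a d c := by
  let I : Pr Ω → Pr Ω → ℤ := fun x y => quadI G a b c d x.1.1 x.1.2 y.1.1 y.1.2
  let K : Pr Ω → Pr Ω → ℤ := fun x y => I x y + I (swp x) y - I x (swp y) - I (swp x) (swp y)
  have hI : Inv G I := fun g x y => quadI_smul g a b c d _ _ _ _
  have hK : Inv G K := fun g x y => by
    simp only [K, ← smul_swp, hI g]
  have hz := F.mixed_kernel_zero h3 hins hH hK (fun x y => by simp only [K, swp_swp]; ring)
    (fun x y => by simp only [K, swp_swp]; ring) (fun x y h => by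
      by_cases h1 : I x y = 0
      · by_cases h2 : I (swp x) y = 0
        · by_cases h3' : I x (swp y) = 0
          · by_cases h4 : I (swp x) (swp y) = 0
            · exact absurd (by simp only [K, h1, h2, h3', h4]; ring) h
            · obtain ⟨e1, e2, e3, e4⟩ := quadI_dist hac had hbc hbd h4
              exact ⟨e4, e3, e2, e1⟩
          · obtain ⟨e1, e2, e3, e4⟩ := quadI_dist hac had hbc hbd h3'
            exact ⟨e3, e4, e1, e2⟩
        · obtain ⟨e1, e2, e3, e4⟩ := quadI_dist hac had hbc hbd h2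
          exact ⟨e2, e1, e4, e3⟩
      · exact quadI_dist hac had hbc hbd h1) ⟨(a, b), hab⟩ ⟨(c, d), hcd⟩
  replace hz : quadI G a b c d a b c d + quadI G a b c d b a c d - quadI G a b c d a b d c -
      quadI G a b c d b a d c = 0 := hz
  rw [quadI_self] at hz
  have h1 := (quadI_nonneg (G := G) a b c d b a c d).1
  by_contra hcon
  push Not at hcon
  rw [show quadI G a b c d a b d c = 0 from if_neg hcon.1, show quadI G a b c d b a d c = 0 from if_neg hcon.2]
    at hz
  omega

theorem double_swap {a b c d : Ω} (hab : a ≠ b) (hac : a ≠ c) (had : a ≠ d) (hbc : b ≠ c) (hbd : b ≠ d)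
    (hcd : c ≠ d) : Conn G a b c d b a d c := by
  refine (F.mixed_swap h3 hins hH hab hac had hbc hbd hcd).elim (fun h1 => ?_) id
  rcases F.mixed_swap h3 hins hH hcd hac.symm hbc.symm had.symm hbd.symm hab with h2 | h2
  · obtain ⟨g, g1, g2, g3, g4⟩ := h1
    obtain ⟨k, k1, k2, k3, k4⟩ := h2
    exact ⟨k * g, by rw [mul_smul, g1, k3], by rw [mul_smul, g2, k4], by rw [mul_smul, g3, k2],
      by rw [mul_smul, g4, k1]⟩
  · obtain ⟨g, g1, g2, g3, g4⟩ := h2
    exact ⟨g, g3, g4, g1, g2⟩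

theorem first_swap {a b c d : Ω} (hab : a ≠ b) (hac : a ≠ c) (had : a ≠ d) (hbc : b ≠ c) (hbd : b ≠ d)
    (hcd : c ≠ d) : Conn G a b c d b a c d := by
  obtain ⟨g0, d1, d2, d3, d4⟩ := F.double_swap h3 hins hH hab hac had hbc hbd hcd
  have hdbl : ∀ {x y z w : Ω}, Conn G a b c d x y z w → Conn G a b c d y x w z := by
    rintro x y z w ⟨g, rfl, rfl, rfl, rfl⟩
    exact ⟨g * g0, by rw [mul_smul, d1], by rw [mul_smul, d2], by rw [mul_smul, d3], by rw [mul_smul, d4]⟩
  let I : Pr Ω → Pr Ω → ℤ := fun x y => quadI G a b c d x.1.1 x.1.2 y.1.1 y.1.2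
  let M : Pr Ω → Pr Ω → ℤ := fun x y => I x y - I (swp x) y
  have hI : Inv G I := fun g x y => quadI_smul g a b c d _ _ _ _
  have hM : Inv G M := fun g x y => by simp only [M, ← smul_swp, hI g]
  have hd : ∀ x y, I (swp x) (swp y) = I x y := fun x y => quadI_congr ⟨fun h => hdbl h, fun h => hdbl h⟩
  have hz := F.alt_kernel_zero h3 hins hH hM (fun x y => by simp only [M, swp_swp]; ring)
    (fun x y => by
      have e := hd (swp x) y
      rw [swp_swp] at e
      simp only [M, hd x y, e]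
      ring)
    (fun x y h => by
      by_cases h1 : I x y = 0
      · by_cases h2 : I (swp x) y = 0
        · exact absurd (by simp only [M, h1, h2, sub_self]) h
        · obtain ⟨e1, e2, e3, e4⟩ := quadI_dist hac had hbc hbd h2
          exact ⟨e2, e1, e4, e3⟩
      · exact quadI_dist hac had hbc hbd h1)
    (fun x y => by
      have h1 := quadI_nonneg (G := G) a b c d x.1.1 x.1.2 y.1.1 y.1.2
      have h2 := quadI_nonneg (G := G) a b c d x.1.2 x.1.1 y.1.1 y.1.2
      show |quadI G a b c d x.1.1 x.1.2 y.1.1 y.1.2 - quadI G a b c d x.1.2 x.1.1 y.1.1 y.1.2| ≤ 1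
      rw [abs_le]
      omega) ⟨(a, b), hab⟩ ⟨(c, d), hcd⟩
  replace hz : quadI G a b c d a b c d - quadI G a b c d b a c d = 0 := hz
  rw [quadI_self] at hz
  by_contra hcon
  rw [show quadI G a b c d b a c d = 0 from if_neg hcon] at hz
  omega

/-- The orbits of quadruples are symmetric. -/
theorem quad_sym (v : Fin 4 → Ω) (hv : Function.Injective v) (π : Equiv.Perm (Fin 4)) :
    ∃ g : G, ∀ i, g • v i = v (π i) := by
  classical
  have key : ∀ w : Fin 4 → Ω, Function.Injective w → ∃ g : G, ∀ i, g • w i = w (Equiv.swap 0 1 i) := by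
    intro w hw
    obtain ⟨g, g1, g2, g3, g4⟩ := F.first_swap h3 hins hH (hw.ne (show (0 : Fin 4) ≠ 1 by decide))
      (hw.ne (show (0 : Fin 4) ≠ 2 by decide)) (hw.ne (show (0 : Fin 4) ≠ 3 by decide))
      (hw.ne (show (1 : Fin 4) ≠ 2 by decide)) (hw.ne (show (1 : Fin 4) ≠ 3 by decide))
      (hw.ne (show (2 : Fin 4) ≠ 3 by decide))
    refine ⟨g, fun i => ?_⟩
    fin_cases i
    exacts [g1, g2, g3, g4]
  have trans : ∀ (i j : Fin 4), i ≠ j → ∀ w : Fin 4 → Ω, Function.Injective w →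
      ∃ g : G, ∀ k, g • w k = w (Equiv.swap i j k) := by
    intro i j hij w hw
    set σ : Equiv.Perm (Fin 4) := Equiv.swap (1 : Fin 4) ((Equiv.swap (0 : Fin 4) i) j) with hσ
    set ρ : Equiv.Perm (Fin 4) := Equiv.swap 0 i * σ with hρ
    have hj0 : (0 : Fin 4) ≠ Equiv.swap 0 i j := fun h => hij (by
      have := congrArg (Equiv.swap 0 i) h
      rwa [Equiv.swap_apply_left, Equiv.swap_apply_self] at this)
    have h0 : ρ 0 = i := by
      rw [hρ, Equiv.Perm.mul_apply, hσ, Equiv.swap_apply_of_ne_of_ne (by decide) hj0, Equiv.swap_apply_left]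
    have h1 : ρ 1 = j := by
      rw [hρ, Equiv.Perm.mul_apply, hσ, Equiv.swap_apply_left, Equiv.swap_apply_self]
    obtain ⟨g, hg⟩ := key (w ∘ ρ) (hw.comp ρ.injective)
    refine ⟨g, fun k => ?_⟩
    have h := hg (ρ.symm k)
    simp only [Function.comp_apply, Equiv.apply_symm_apply] at h
    rw [h]
    congr 1
    rw [← h0, ← h1, Equiv.swap_apply_apply]
    rfl
  revert v
  refine Equiv.Perm.swap_induction_on' π (fun v _ => ⟨1, fun i => one_smul _ _⟩) ?_
  intro f i j hij ih v hv
  obtain ⟨g, hg⟩ := ih v hv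
  obtain ⟨k, hk⟩ := trans i j hij (v ∘ f) (hv.comp f.injective)
  refine ⟨k * g, fun l => ?_⟩
  rw [mul_smul, hg, Equiv.Perm.mul_apply]
  exact hk l

/-- The orbit lengths of the stabilisers of three points. -/
theorem quad_length {φ : Cfsg.IrrCharacter G} (hR : F.RhoData h3 φ) {a b c d : Ω} (hab : a ≠ b)
    (hac : a ≠ c) (had : a ≠ d) (hbc : b ≠ c) (hbd : b ≠ d) (hcd : c ≠ d) :
    2 * (F.stabU φ).card ∣
      Nat.card (orbit ↥(stabilizer G a ⊓ stabilizer G b ⊓ stabilizer G c) d) := by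
  classical
  set Hs := stabilizer G a ⊓ stabilizer G b ⊓ stabilizer G c
  set m := Nat.card (orbit Hs d) with hm
  let J : Ω → Ω → Ω → Ω → ℤ := fun x y z w => quadI G a b c d x y z w
  let K : Pr Ω → Pr Ω → ℤ := fun x y => J x.1.1 x.1.2 y.1.1 y.1.2
  have hJd : ∀ {x y z w}, J x y z w ≠ 0 → z ≠ x ∧ z ≠ y ∧ w ≠ x ∧ w ≠ y :=
    fun h => quadI_dist hac had hbc hbd h
  have hKinv : Inv G K := fun g x y => quadI_smul g a b c d _ _ _ _
  have hsym : ∀ {x y z w : Ω}, Conn G a b c d x y z w → Conn G a b c d y x z w ∧ Conn G a b c d x y w z := by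
    rintro x y z w ⟨g, rfl, rfl, rfl, rfl⟩
    have inj : Function.Injective ![a, b, c, d] := by
      intro i j hij
      fin_cases i <;> fin_cases j <;> simp_all [eq_comm]
    obtain ⟨k, hk⟩ := F.quad_sym h3 hins hH ![a, b, c, d] inj (Equiv.swap 0 1)
    obtain ⟨l, hl⟩ := F.quad_sym h3 hins hH ![a, b, c, d] inj (Equiv.swap 2 3)
    have k0 : k • a = b := hk 0
    have k1 : k • b = a := hk 1
    have k2 : k • c = c := hk 2
    have k3 : k • d = d := hk 3
    have l0 : l • a = a := hl 0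
    have l1 : l • b = b := hl 1
    have l2 : l • c = d := hl 2
    have l3 : l • d = c := hl 3
    exact ⟨⟨g * k, by rw [mul_smul, k0], by rw [mul_smul, k1], by rw [mul_smul, k2], by rw [mul_smul, k3]⟩,
      ⟨g * l, by rw [mul_smul, l0], by rw [mul_smul, l1], by rw [mul_smul, l2], by rw [mul_smul, l3]⟩⟩
  have hJ12 : ∀ x y z w, J y x z w = J x y z w := fun x y z w =>
    quadI_congr ⟨fun h => (hsym h).1, fun h => (hsym h).1⟩
  have hJ34 : ∀ x y z w, J x y w z = J x y z w := fun x y z w =>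
    quadI_congr ⟨fun h => (hsym h).2, fun h => (hsym h).2⟩
  have hrow : ∀ {x y z : Ω}, x ≠ y → x ≠ z → y ≠ z → ∑ w, J x y z w = (m : ℤ) := by
    intro x y z hxy hxz hyz
    obtain ⟨g, rfl, rfl, rfl⟩ := exists_triple h3 hab hac hbc hxy hxz hyz
    rw [← Equiv.sum_comp (MulAction.toPerm g)]
    simp only [toPerm_apply, J, quadI_smul]
    simp only [quadI, Finset.sum_boole, hm, Nat.card_eq_fintype_card, ← Set.toFinset_card]
    congr 2
    ext w
    simp only [Finset.mem_filter, Finset.mem_univ, true_and, Set.mem_toFinset]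
    constructor
    · rintro ⟨k, ka, kb, kc, kd⟩
      exact ⟨⟨k, ⟨ka, kb⟩, kc⟩, kd⟩
    · rintro ⟨⟨k, ⟨ka, kb⟩, kc⟩, kd⟩
      exact ⟨k, ka, kb, kc, kd⟩
  have hpr : ∀ (f : Ω → Ω → ℤ), (∀ z, f z z = 0) → ∑ y : Pr Ω, f y.1.1 y.1.2 = ∑ z, ∑ w, f z w := by
    intro f hf
    rw [← Fintype.sum_prod_type' f,
      ← Finset.sum_filter_of_ne (p := fun v : Ω × Ω => v.1 ≠ v.2) fun v _ hv e => hv (by rw [e]; exact hf _)]
    exact (Finset.sum_subtype _ (fun v => by simp) (fun v : Ω × Ω => f v.1 v.2)).symm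
  have hJzz : ∀ x y z, J x y z z = 0 := fun x y z => if_neg fun ⟨g, _, _, g3, g4⟩ =>
    hcd (smul_left_cancel g (g3.trans g4.symm))
  have hR' : ∀ x : Pr Ω, ∑ y, K x y = (2 * (q : ℤ) - 1) * m := by
    intro x
    rw [hpr (fun z w => J x.1.1 x.1.2 z w) (hJzz _ _), ← Finset.add_sum_erase _ _ (Finset.mem_univ x.1.1)
      , Finset.sum_eq_zero fun w _ => by by_contra h; exact (hJd h).1 rfl, zero_add,
      ← Finset.add_sum_erase _ _ (Finset.mem_erase.2 ⟨x.2.symm, Finset.mem_univ _⟩),
      Finset.sum_eq_zero fun w _ => by by_contra h; exact (hJd h).2.1 rfl, zero_add,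
      Finset.sum_congr rfl fun z hz => hrow x.2 (Ne.symm (Finset.ne_of_mem_erase (Finset.mem_of_mem_erase hz)))
        (Ne.symm (Finset.ne_of_mem_erase hz)), Finset.sum_const, nsmul_eq_mul]
    congr 1
    rw [Finset.card_erase_of_mem (by simp [x.2.symm]), Finset.card_erase_of_mem (Finset.mem_univ _),
      Finset.card_univ, ← Nat.card_eq_fintype_card, F.card_omega, F.hpq]
    have := F.hq
    omega
  -- the class function
  set f := kerFn (G := G) K with hf
  have hK2 : ∀ x y, K x (swp y) = K x y := fun x y => hJ34 _ _ _ _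
  have hKs : ∀ x y, K (swp x) (swp y) = K x y := fun x y => (hJ12 _ _ _ _).trans (hJ34 _ _ _ _)
  have hsupp : ∀ ψ : Cfsg.IrrCharacter G, Cfsg.classInner (rho Ω) (ψ : G → ℂ) = 0 →
      Cfsg.classInner f (ψ : G → ℂ) = 0 := fun ψ h => kerFn_rho hK2 ψ h
  set e := (F.stabU φ).card with he
  have he2 := hR.two
  have hnc : F.chiP h3 ∉ F.orbU φ := fun h => by
    obtain ⟨k, hk⟩ := F.mem_orbU.1 h
    have := F.md_chiP h3 (k : ZMod q)
    rw [← hk, hR.mode.md_gT] at this
    exact one_ne_zero this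
  have hnp : principal G ∉ insert (F.chiP h3) (F.orbU φ) := by
    rw [Finset.mem_insert]
    rintro (h | h)
    · exact F.chiP_ne h3 h.symm
    · have := hR.zero0 _ h
      rw [F.md_one h3, if_pos rfl] at this
      exact one_ne_zero this
  have hexp : ∀ W : Cfsg.IrrCharacter G → ℂ,
      ∑ ψ : Cfsg.IrrCharacter G, Cfsg.classInner f (ψ : G → ℂ) * W ψ =
        Cfsg.classInner f (principal G : G → ℂ) * W (principal G) +
          (Cfsg.classInner f (F.chiP h3 : G → ℂ) * W (F.chiP h3) +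
            ∑ ψ ∈ F.orbU φ, Cfsg.classInner f (ψ : G → ℂ) * W ψ) := by
    intro W
    rw [← Finset.sum_subset (Finset.subset_univ (insert (principal G) (insert (F.chiP h3) (F.orbU φ))))
      fun ψ _ hψ => ?_, Finset.sum_insert hnp, Finset.sum_insert hnc]
    simp only [Finset.mem_insert, not_or] at hψ
    by_cases h0 : Cfsg.classInner (rho Ω) (ψ : G → ℂ) = 0
    · rw [hsupp ψ h0, zero_mul]
    · rcases hR.cover ψ h0 hψ.1 with h | h
      · exact absurd h hψ.2.1
      · exact absurd h hψ.2.2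
  have hfsum : f = fun x => ∑ ψ : Cfsg.IrrCharacter G, Cfsg.classInner f (ψ : G → ℂ) * (ψ : G → ℂ) x :=
    funext (kerFn_expansion hKinv)
  have hf1 : f 1 = 0 := by
    rw [hf, kerFn_one, Int.cast_eq_zero]
    exact Finset.sum_eq_zero fun x _ => by by_contra h; exact (hJd h).1 rfl
  have hc1 : Cfsg.classInner f (principal G : G → ℂ) = (((2 * (q : ℤ) - 1) * m : ℤ) : ℂ) := by
    have h0 : F.md f 0 = Cfsg.classInner f (principal G : G → ℂ) := by
      conv_lhs => rw [hfsum]
      rw [F.md_sum]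
      simp only [F.md_mul_left]
      rw [hexp fun ψ => F.md (ψ : G → ℂ) 0, F.md_one h3, if_pos rfl, F.md_chiP,
        Finset.sum_eq_zero fun ψ hψ => by rw [hR.zero0 ψ hψ, mul_zero]]
      ring
    rw [← h0, hf, F.md_kerFn hKinv hKs, ← hR' F.base, F.sum_pairs, Fintype.sum_prod_type]
    simp only [zero_mul, neg_zero, AddChar.map_zero_eq_one, mul_one, hK2, Int.cast_sum, rowSum,
      Int.cast_add, Finset.mul_sum, ← two_mul]
    push_cast
    rfl
  have hpc : Cfsg.classInner f (pc (G := G) Ω) = (((2 * (q : ℤ) - 1) * m - 2 * m : ℤ) : ℂ) := by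
    rw [hf, classInner_kerFn_pc]
    have hS : ∀ t : Ω, (∑ x : Pr Ω, ∑ g : G, if g • t = t then K x (g • x) else 0) =
        ((Finset.univ.filter fun g : G => g • t = t).card : ℤ) * ((2 * (q : ℤ) - 1) * m - 2 * m) := by
      intro t
      set H0 := Finset.univ.filter fun g : G => g • t = t
      set S := Finset.univ.filter fun y : Pr Ω => y.1.1 ≠ t ∧ y.1.2 ≠ t with hSdef
      have hin : ∀ x ∈ S, (S.card : ℤ) * ∑ g ∈ H0, K x (g • x) = (H0.card : ℤ) * ∑ y ∈ S, K x y := by
        intro x hx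
        simp only [hSdef, Finset.mem_filter, Finset.mem_univ, true_and] at hx
        refine sum_orbit H0 S x (fun y => K x y) (fun g hg => ?_) fun y hy y' hy' => ?_
        · simp only [H0, Finset.mem_filter, Finset.mem_univ, true_and] at hg
          simp only [hSdef, Finset.mem_filter, Finset.mem_univ, true_and, Pr.smul_fst, Pr.smul_snd]
          exact ⟨fun e => hx.1 (smul_left_cancel g (e.trans hg.symm)),
            fun e => hx.2 (smul_left_cancel g (e.trans hg.symm))⟩
        · simp only [hSdef, Finset.mem_filter, Finset.mem_univ, true_and] at hy hy'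
          obtain ⟨k, k1, k2, k3⟩ := exists_triple h3 hy.1.symm hy.2.symm y.2 hy'.1.symm hy'.2.symm y'.2
          refine ⟨k, fun g => ?_, Pr.ext' k2 k3⟩
          simp only [H0, Finset.mem_filter, Finset.mem_univ, true_and, mul_smul]
          exact ⟨fun h => smul_left_cancel k (h.trans k1.symm), fun h => by rw [h, k1]⟩
      have hval : ∀ x ∈ S, ∑ y ∈ S, K x y = (2 * (q : ℤ) - 1) * m - 2 * m := by
        intro x hx
        simp only [hSdef, Finset.mem_filter, Finset.mem_univ, true_and] at hx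
        have h1 := Finset.sum_filter_add_sum_filter_not Finset.univ (fun y : Pr Ω => y.1.1 ≠ t ∧ y.1.2 ≠ t) (K x)
        rw [hR' x] at h1
        have h2 : ∑ y ∈ Finset.univ.filter (fun y : Pr Ω => ¬ (y.1.1 ≠ t ∧ y.1.2 ≠ t)), K x y = 2 * m := by
          rw [Finset.sum_filter, Finset.sum_congr rfl fun (y : Pr Ω) _ =>
            show _ = (fun z w => if ¬ (z ≠ t ∧ w ≠ t) then J x.1.1 x.1.2 z w else 0) y.1.1 y.1.2 from rfl,
            hpr (fun z w => if ¬ (z ≠ t ∧ w ≠ t) then J x.1.1 x.1.2 z w else 0) (fun z => by simp [hJzz]),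
            ← Finset.add_sum_erase _ _ (Finset.mem_univ t)]
          simp only [ne_eq, not_true, false_and, not_false_eq_true, if_true]
          rw [hrow x.2 hx.1 hx.2, Finset.sum_congr rfl fun z hz => show _ = J x.1.1 x.1.2 z t from ?_,
            Finset.sum_erase (f := fun z => J x.1.1 x.1.2 z t) _ (hJzz _ _ _), Finset.sum_congr rfl fun z _ => hJ34 x.1.1 x.1.2 t z,
            hrow x.2 hx.1 hx.2]
          · ring
          · rw [Finset.sum_eq_single t]
            · simp
            · intro w _ hw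
              simp [Finset.ne_of_mem_erase hz, hw]
            · exact fun h => absurd (Finset.mem_univ _) h
        rw [h2] at h1
        rw [hSdef]
        linarith
      have hne : (S.card : ℤ) ≠ 0 := by
        obtain ⟨u, hu⟩ : ∃ u, u ≠ t ∧ u ≠ t := by
          obtain ⟨u, hu, -⟩ := F.exists_other h3 (a := t) (b := t)
          exact ⟨u, hu, hu⟩
        obtain ⟨w, hwt, hwu⟩ := F.exists_other h3 (a := t) (b := u)
        exact Nat.cast_ne_zero.2 (Finset.card_ne_zero.2 ⟨⟨(u, w), hwu.symm⟩,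
          Finset.mem_filter.2 ⟨Finset.mem_univ _, hu.1, hwt⟩⟩)
      refine mul_left_cancel₀ hne ?_
      rw [← Finset.sum_filter_add_sum_filter_not Finset.univ (fun x : Pr Ω => x.1.1 ≠ t ∧ x.1.2 ≠ t), ← hSdef,
        Finset.sum_eq_zero (s := Finset.univ.filter fun x : Pr Ω => ¬ (x.1.1 ≠ t ∧ x.1.2 ≠ t)) fun x hx => ?_,
        add_zero, Finset.mul_sum]
      · simp only [← Finset.sum_filter]
        rw [Finset.sum_congr rfl fun x hx => (hin x hx).trans (by rw [hval x hx]), Finset.sum_const,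
          nsmul_eq_mul]
      · refine Finset.sum_eq_zero fun g _ => ?_
        split_ifs with hg
        · by_contra h
          have hx' : x.1.1 = t ∨ x.1.2 = t := by
            simp only [Finset.mem_filter, Finset.mem_univ, true_and] at hx
            tauto
          obtain ⟨e1, e2, e3, e4⟩ := hJd h
          rcases hx' with e | e
          · exact e1 (by rw [Pr.smul_fst, e, hg])
          · exact e4 (by rw [Pr.smul_snd, e, hg])
        · rfl
    rw [Finset.sum_congr rfl fun t _ => hS t, ← Finset.sum_mul]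
    have hH' : ∀ t : Ω, (Finset.univ.filter fun g : G => g • t = t).card = Nat.card (stabilizer G t) := fun t => by
      rw [Nat.card_eq_fintype_card, ← Fintype.card_subtype]
      exact Fintype.card_congr (Equiv.refl _)
    have hcard : ∑ t : Ω, ((Finset.univ.filter fun g : G => g • t = t).card : ℤ) = Nat.card G := by
      simp only [hH']
      rw [Finset.sum_congr rfl fun t _ => show (Nat.card (stabilizer G t) : ℤ) = Nat.card (stabilizer G (F.e 0)) by
        obtain ⟨g, rfl⟩ := exists_smul_eq G (F.e 0) t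
        rw [Nat.cast_inj]
        exact (Nat.card_congr (stabilizerEquivStabilizer (g := g) rfl).toEquiv).symm, Finset.sum_const,
        Finset.card_univ, ← Nat.card_eq_fintype_card, ← index_stabilizer_of_transitive G (F.e 0), nsmul_eq_mul,
        ← Nat.cast_mul, mul_comm, Subgroup.card_mul_index]
    rw [hcard]
    push_cast
    rw [← mul_assoc, inv_mul_cancel₀ (Nat.cast_ne_zero.2 Nat.card_pos.ne'), one_mul]
  have hcχ : Cfsg.classInner f (F.chiP h3 : G → ℂ) = ((-2 * m : ℤ) : ℂ) := by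
    have h := hpc
    rw [F.pc_eq_add h3, classInner_add_right, hc1] at h
    push_cast at h ⊢
    linear_combination h
  have hsum : (p : ℂ) * ((e : ℂ) * ∑ ψ ∈ F.orbU φ, Cfsg.classInner f (ψ : G → ℂ)) = (p : ℂ) * m := by
    have h := congrFun hfsum 1
    have hd1 : ∑ ψ ∈ F.orbU φ, Cfsg.classInner f (ψ : G → ℂ) * (ψ : G → ℂ) 1 =
        (∑ ψ ∈ F.orbU φ, Cfsg.classInner f (ψ : G → ℂ)) * ((p : ℂ) * e) := by
      rw [Finset.sum_mul]
      refine Finset.sum_congr rfl fun ψ hψ => ?_
      obtain ⟨k, rfl⟩ := F.mem_orbU.1 hψ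
      rw [F.gT_degree, hR.deg]
    rw [hf1, hexp fun ψ => (ψ : G → ℂ) 1, hc1, hcχ, F.chiP_one h3,
      show (principal G : G → ℂ) 1 = 1 from rfl, hd1] at h
    push_cast at h ⊢
    rw [show (p : ℂ) = 2 * q + 1 by rw [F.hpq]; push_cast; ring] at h ⊢
    linear_combination -h
  have hsum' := mul_left_cancel₀ (Nat.cast_ne_zero.2 (Fact.out : p.Prime).ne_zero) hsum
  have hint : IsIntegral ℤ (∑ ψ ∈ F.orbU φ, Cfsg.classInner f (ψ : G → ℂ) / 2) := by
    refine IsIntegral.sum _ fun ψ hψ => ?_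
    obtain ⟨k, rfl⟩ := F.mem_orbU.1 hψ
    rw [← hR.mode.md_support F (isClassFunction_kerFn hKinv) hsupp k, F.md_kerFn hKinv hKs]
    rw [mul_div_cancel_left₀ _ two_ne_zero]
    exact F.isIntegral_half K _
  have hrat : ∑ ψ ∈ F.orbU φ, Cfsg.classInner f (ψ : G → ℂ) / 2 = (((m : ℚ) / (2 * e : ℕ) : ℚ) : ℂ) := by
    rw [← Finset.sum_div]
    push_cast
    have he0 : (e : ℂ) ≠ 0 := Nat.cast_ne_zero.2 (by omega)
    rw [eq_div_iff (mul_ne_zero two_ne_zero he0)]
    linear_combination hsum'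
  rw [hrat] at hint
  obtain ⟨n, hn⟩ := exists_int_of_isIntegral hint
  have he0' : ((2 * e : ℕ) : ℚ) ≠ 0 := Nat.cast_ne_zero.2 (by omega)
  rw [div_eq_iff he0'] at hn
  have hn' : ((m : ℤ) : ℚ) = ((n * (2 * e : ℕ) : ℤ) : ℚ) := by push_cast at hn ⊢; rw [hn]
  rw [Int.cast_inj] at hn'
  exact Int.natCast_dvd_natCast.1 ⟨n, by rw [hn', mul_comm]⟩

end Frame

end Cfsg.Agent.ItoTwoQ
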