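import Cfsg.Agent.Lib.ItoTwoQ.Orbit
import Cfsg.Agent.Lib.DefOne.Principal
import Cfsg.Agent.Lib.DefOne.Apply
import Cfsg.Agent.Lib.Char.GlaubermanMod
import Cfsg.Agent.Lib.Perm.Burnside

/-!
Degrees of irreducible characters in terms of the fixed space of the Sylow subgroup.
-/

set_option autoImplicit false
set_option linter.unusedSectionVars false
set_option linter.style.haveILetI false

namespace Cfsg.Agent.ItoTwoQ

open MulAction Cfsg.Agent.Char
open scoped ComplexConjugate
open Cfsg.Agent.TwiceP (chi)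

universe u v

variable {G : Type u} [Group G] {Ω : Type v} [MulAction G Ω]
variable {p q : ℕ} (F : Frame G Ω p q) [Fact p.Prime] [Fact q.Prime]
variable [Fintype G] [FaithfulSMul G Ω] [Fintype Ω] [IsPretransitive G Ω] [F.Good]

namespace Frame

include F

theorem card_omega : Nat.card Ω = p := by
  rw [← Nat.card_congr F.e, Nat.card_zmod]

/-- Fields automorphisms fixing the regular roots of unity preserve the multiplicities. -/
theorem md_galT {σ : ℂ ≃+* ℂ} (hσ : DefOne.FixesP p σ) (φ : Cfsg.IrrCharacter G) (j : ZMod q) :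
    F.md (DefOne.galT σ φ : G → ℂ) j = F.md (φ : G → ℂ) j := by
  have hchi : ∀ x : ZMod q, σ (chi x) = chi x := fun x => hσ _ ⟨q, F.not_p_dvd_q, by
    rw [← AddChar.map_nsmul_eq_pow, ← Nat.cast_smul_eq_nsmul (ZMod q), ZMod.natCast_self, zero_smul,
      AddChar.map_zero_eq_one]⟩
  obtain ⟨n, hn⟩ := F.md_nat (IsIrrCharacter.isCharacter φ.2) j
  have h : F.md (DefOne.galT σ φ : G → ℂ) j = σ (F.md (φ : G → ℂ) j) := by
    simp only [md, DefOne.galT_apply, map_mul, map_sum, map_inv₀, map_natCast, hchi]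
  rw [h, hn, map_natCast]

/-- The degree rule. -/
theorem rule (φ : Cfsg.IrrCharacter G) :
    ∃ n : ℕ, F.nfix (φ : G → ℂ) = n ∧
      (n = 0 → ∃ d : ℕ, (φ : G → ℂ) 1 = d ∧ d ≤ 2 * q) ∧
      ((∀ σ : ℂ ≃+* ℂ, DefOne.FixesP p σ → DefOne.galT σ φ = φ) →
        ∃ ε : ℤ, (ε = -1 ∨ ε = 0 ∨ ε = 1) ∧
          (φ : G → ℂ) 1 = (p : ℂ) * n - 2 * q * ε) := by
  classical
  obtain ⟨M, hM⟩ := GlaubermanMod.exists_isPModular p
  haveI := hM.2.1.isPrime
  set y1 := F.nel 0 1 with hy1def
  have hord : orderOf y1 = p := F.orderOf_nel' one_ne_zero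
  obtain ⟨P, hP⟩ := (IsPGroup.of_card (n := 1) (p := p) (G := Subgroup.zpowers y1)
    (by rw [Nat.card_zpowers, hord, pow_one])).exists_le_sylow
  have hPc : Nat.card (P : Subgroup G) = p := PermPrime.sylow_card F.card_omega P
  have hPz : (P : Subgroup G) = Subgroup.zpowers y1 :=
    (Subgroup.eq_of_le_of_card_ge hP (by rw [Nat.card_zpowers, hord, hPc])).symm
  obtain ⟨V, e, K, -⟩ := DefOne.exists_conf Fact.out P hPc
  let zP : ZMod p ≃ (P : Subgroup G) := Equiv.ofBijective
    (fun z => ⟨F.nel 0 z, by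
      rw [hPz]
      exact ⟨(z.val : ℤ), show y1 ^ ((z.val : ℕ) : ℤ) = _ by
        rw [zpow_natCast, hy1def, F.nel_pow', mul_one, ZMod.natCast_zmod_val]⟩⟩)
    ((Fintype.bijective_iff_injective_and_card _).2
      ⟨fun a b h => (F.nel_inj (congrArg Subtype.val h)).2, by
        rw [ZMod.card, ← Nat.card_eq_fintype_card, hPc]⟩)
  have hzP : ∀ z, ((zP z : (P : Subgroup G)) : G) = F.nel 0 z := fun z => rfl
  have hmem : ∀ z, F.nel 0 z ∈ (P : Subgroup G) := fun z => hzP z ▸ (zP z).2
  have hN : Nat.card (Subgroup.normalizer ((P : Subgroup G) : Set G)) = q * p := by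
    have heq : Subgroup.normalizer ((P : Subgroup G) : Set G) = F.nsub := by
      ext g
      constructor
      · intro hg
        have h1 : g * y1 * g⁻¹ ∈ (P : Subgroup G) :=
          (Subgroup.mem_normalizer_iff.1 hg y1).1 (hmem 1)
        obtain ⟨c, hc⟩ := zP.surjective ⟨_, h1⟩
        obtain ⟨i, z, rfl⟩ := F.norm g c (by rw [← hy1def, ← hzP, hc])
        exact ⟨(i, z), rfl⟩
      · rintro ⟨⟨i, z⟩, rfl⟩
        refine Subgroup.mem_normalizer_iff.2 fun h => ⟨fun hh => ?_, fun hh => ?_⟩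
        · obtain ⟨c, hc⟩ := zP.surjective ⟨h, hh⟩
          have : h = F.nel 0 c := by rw [← hzP, hc]
          rw [this, F.nel_conj]
          exact hmem _
        · obtain ⟨c, hc⟩ := zP.surjective ⟨_, hh⟩
          have h2 : F.nel i z * h * (F.nel i z)⁻¹ = F.nel 0 c := by rw [← hzP, hc]
          have h3 : h = (F.nel i z)⁻¹ * F.nel 0 c * (F.nel i z)⁻¹⁻¹ := by rw [← h2]; group
          rw [h3, F.nel_inv i z, F.nel_conj]
          exact hmem _
    rw [heq, Nat.card_congr F.nEquiv.symm, Nat.card_prod, Nat.card_zmod, Nat.card_zmod]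
  haveI := Fintype.ofFinite ((P : Subgroup G) →* ℂˣ)
  have hV : V = ⊥ := by
    rw [eq_bot_iff]
    intro v hv
    have hvC : v ∈ Subgroup.centralizer ((P : Subgroup G) : Set G) :=
      DefOne.V_le_centralizer K hv
    have hc := Subgroup.mem_centralizer_iff.1 hvC y1 (hmem 1)
    obtain ⟨i, z, rfl⟩ := F.norm v 1 (by rw [← hy1def, ← hc, mul_inv_cancel_right])
    have hi : i = 0 := by
      rw [hy1def, F.nel_mul, F.nel_mul] at hc
      have h := (F.nel_inj hc).2
      rw [F.rp_zero, one_mul, mul_one, add_comm, add_right_inj] at h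
      exact (F.rp_eq_one.1 h.symm)
    subst hi
    by_contra hne
    have hz : z ≠ 0 := fun h => hne (by rw [h, F.nel_zero]; exact Subgroup.mem_bot.2 rfl)
    have hdvd := Subgroup.orderOf_dvd_natCard V hv
    rw [F.orderOf_nel' hz] at hdvd
    exact K.hV hdvd
  haveI : Unique V := by
    subst hV
    exact ⟨⟨1⟩, fun a => Subsingleton.elim _ _⟩
  have hVc : Nat.card V = 1 := Nat.card_unique
  obtain ⟨eb, X, Y, δ, sg, Fam⟩ := DefOne.exists_families K hM (DefOne.trivB V)
  have heb : eb = q := by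
    rw [DefOne.eb_triv K Fam]
    have h := K.D.hcard
    rw [hN, hPc, hVc, mul_one] at h
    exact (Nat.eq_of_mul_eq_mul_right (Fact.out : p.Prime).pos h).symm
  have hphi : ∀ y : (P : Subgroup G), DefOne.phi (φ : G → ℂ) (DefOne.trivB V) y = (φ : G → ℂ) y := by
    intro y
    have hd : ((default : V) : G) = 1 := congrArg Subtype.val (Subsingleton.elim (default : V) 1)
    simp [DefOne.phi, hVc, DefOne.trivB, hd]
  set b := DefOne.trivB V
  have hco1 : CCSylow.co K.D (φ : G → ℂ) 1 b = F.nfix (φ : G → ℂ) := by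
    rw [DefOne.co_eq_phi K, nfix]
    congr 1
    rw [← zP.sum_comp]
    refine Finset.sum_congr rfl fun z _ => ?_
    rw [hphi, hzP]
    simp
  set n := CCSylow.nco K.D (IsIrrCharacter.isCharacter φ.2) 1 b with hn
  have hnfix : F.nfix (φ : G → ℂ) = n := by
    rw [← hco1, hn, CCSylow.co_eq K.D (IsIrrCharacter.isCharacter φ.2)]
  have hdeg : (φ : G → ℂ) 1 = (p : ℂ) * n - ((∑ l, DefOne.acoef K φ b l : ℤ) : ℂ) := by
    have h := DefOne.phi_eq_sum K (φ : G → ℂ) b 1
    rw [hphi] at h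
    push_cast
    simp only [DefOne.acoef_eq, Finset.sum_sub_distrib, hco1, hnfix, Finset.sum_const, Finset.card_univ,
      CCSylow.card_dual K.D, hPc, nsmul_eq_mul]
    simpa using h
  have ha : ∀ l, DefOne.acoef K φ b l = -1 ∨ DefOne.acoef K φ b l = 0 ∨ DefOne.acoef K φ b l = 1 := by
    intro l
    by_cases hl : l = 1
    · subst hl; exact Or.inr (Or.inl (DefOne.acoef_one K φ b))
    by_cases hX : φ ∈ X
    · rw [Fam.rowX φ hX l hl]
      rcases Fam.signX φ hX with h | h <;> rw [h] <;> simp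
    by_cases hY : φ ∈ Y
    · rcases Fam.valY φ hY l with h | h <;> rw [h]
      · simp
      · rcases Fam.sign with h' | h' <;> rw [h'] <;> simp
    · exact Or.inr (Or.inl (Fam.zero φ hX hY l))
  refine ⟨n, hnfix, fun hn0 => ?_, fun hfix => ?_⟩
  · obtain ⟨d, -, hd⟩ := IsIrrCharacter.exists_degree φ.2
    refine ⟨d, hd, ?_⟩
    rw [hd, hn0, Nat.cast_zero, mul_zero, zero_sub] at hdeg
    have h1 : (d : ℤ) = -∑ l, DefOne.acoef K φ b l := by exact_mod_cast hdeg
    rw [← Finset.add_sum_erase _ _ (Finset.mem_univ (1 : (P : Subgroup G) →* ℂˣ)),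
      DefOne.acoef_one, zero_add] at h1
    have h2 : -∑ l ∈ Finset.univ.erase (1 : (P : Subgroup G) →* ℂˣ), DefOne.acoef K φ b l ≤
        ∑ _l ∈ Finset.univ.erase (1 : (P : Subgroup G) →* ℂˣ), (1 : ℤ) := by
      rw [← Finset.sum_neg_distrib]
      exact Finset.sum_le_sum fun l _ => by rcases ha l with h | h | h <;> omega
    rw [← h1, Finset.sum_const, Finset.card_erase_of_mem (Finset.mem_univ _), Finset.card_univ,
      CCSylow.card_dual K.D, hPc, nsmul_eq_mul, mul_one] at h2
    have := F.hpq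
    omega
  · by_cases hX : φ ∈ X
    · refine ⟨sg φ, ?_, ?_⟩
      · rcases Fam.signX φ hX with h | h <;> omega
      rw [hdeg, DefOne.Families.sum_X K Fam hX, F.hpq]
      push_cast
      ring
    · have hY : φ ∉ Y := fun hY => by
        have hall : Y = {φ} := Finset.eq_singleton_iff_unique_mem.2 ⟨hY, fun θ hθ => by
          obtain ⟨σ, hσ, rfl⟩ := Fam.transY φ hY θ hθ
          exact hfix σ hσ⟩
        have h := Fam.cardY
        rw [hall, Finset.card_singleton, heb, F.hpq] at h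
        have := F.q_pos
        omega
      refine ⟨0, Or.inr (Or.inl rfl), ?_⟩
      rw [hdeg, Finset.sum_eq_zero fun l _ => Fam.zero φ hX hY l]
      simp

end Frame

end Cfsg.Agent.ItoTwoQ
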