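import Cfsg.Agent.Lib.ItoTwoQ.Kernel
import Cfsg.Agent.Lib.Perm.TwiceP.Fourier
import Cfsg.Agent.Lib.Char.Fixed
import Cfsg.Agent.Lib.Char.Galois
import Mathlib.Data.ZMod.Units

/-!
Groups of prime degree `p = 2q + 1` with a self-centralising element of order `q`: coordinates and the
multiplicities of the linear characters of the Sylow normaliser.
-/

set_option autoImplicit false
set_option linter.unusedSectionVars false
set_option linter.style.haveILetI false

namespace Cfsg.Agent.ItoTwoQ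

open MulAction Cfsg.Agent.Char
open scoped ComplexConjugate
open Cfsg.Agent.TwiceP (chi chi_sum chi_conj)

universe u v

/-- Coordinates for the normaliser of a Sylow `p`-subgroup. -/
structure Frame (G : Type u) [Group G] (Ω : Type v) [MulAction G Ω] (p q : ℕ) where
  e : ZMod p ≃ Ω
  r : ZMod p
  hr : orderOf r = q
  nel : ZMod q → ZMod p → G
  act : ∀ i z j, nel i z • e j = e (r ^ i.val * j + z)
  hpq : p = 2 * q + 1
  hq : 11 ≤ q

variable {G : Type u} [Group G] {Ω : Type v} [MulAction G Ω]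
variable {p q : ℕ} (F : Frame G Ω p q)

/-- The frame shows all of the normalisers of the cyclic subgroups. -/
class Frame.Good : Prop where
  cent : ∀ g, Commute g (F.nel 1 0) → ∃ i, g = F.nel i 0
  norm : ∀ g c, g * F.nel 0 1 * g⁻¹ = F.nel 0 c → ∃ i z, g = F.nel i z

theorem Frame.cent [F.Good] (g : G) : Commute g (F.nel 1 0) → ∃ i, g = F.nel i 0 := Frame.Good.cent g

theorem Frame.norm [F.Good] (g : G) (c : ZMod p) :
    g * F.nel 0 1 * g⁻¹ = F.nel 0 c → ∃ i z, g = F.nel i z := Frame.Good.norm g c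

/-- The multipliers. -/
def Frame.rp (i : ZMod q) : ZMod p := F.r ^ i.val

variable [Fact p.Prime] [Fact q.Prime]

namespace Frame

include F

theorem q_pos : 0 < q := (Fact.out : q.Prime).pos

theorem p_ne_q : p ≠ q := by have := F.hpq; omega

theorem not_p_dvd_q : ¬ p ∣ q := fun h => by
  have := Nat.le_of_dvd F.q_pos h
  have := F.hpq
  omega

theorem not_q_dvd_p : ¬ q ∣ p := fun h =>
  F.p_ne_q ((((Nat.prime_dvd_prime_iff_eq Fact.out Fact.out).1 h)).symm)

theorem r_pow : F.r ^ q = 1 := by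
  have h := pow_orderOf_eq_one F.r
  rwa [F.hr] at h

theorem r_pow_mod (n : ℕ) : F.r ^ (n % q) = F.r ^ n := by
  conv_rhs => rw [← Nat.mod_add_div n q, pow_add, pow_mul, F.r_pow, one_pow, mul_one]

theorem rp_add (i k : ZMod q) : F.rp (i + k) = F.rp i * F.rp k := by
  rw [rp, rp, rp, ZMod.val_add, F.r_pow_mod, pow_add]

@[simp] theorem rp_zero : F.rp 0 = 1 := by simp [rp]

theorem rp_ne_zero (i : ZMod q) : F.rp i ≠ 0 := fun h => by
  have := F.rp_add i (-i)
  rw [add_neg_cancel, F.rp_zero, h, zero_mul] at this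
  exact one_ne_zero this

theorem rp_inj {i k : ZMod q} (h : F.rp i = F.rp k) : i = k := by
  refine ZMod.val_injective q (pow_injOn_Iio_orderOf ?_ ?_ h)
  · rw [Set.mem_Iio, F.hr]; exact ZMod.val_lt i
  · rw [Set.mem_Iio, F.hr]; exact ZMod.val_lt k

theorem rp_eq_one {i : ZMod q} : F.rp i = 1 ↔ i = 0 :=
  ⟨fun h => F.rp_inj (h.trans F.rp_zero.symm), fun h => h ▸ F.rp_zero⟩

theorem rp_pow_q (i : ZMod q) : F.rp i ^ q = 1 := by
  rw [rp, ← pow_mul, mul_comm, pow_mul, F.r_pow, one_pow]

theorem rp_ne_neg (i k : ZMod q) : F.rp i ≠ -F.rp k := fun h => by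
  have h1 := congrArg (· ^ q) h
  simp only [F.rp_pow_q] at h1
  rw [((Fact.out : q.Prime).odd_of_ne_two (by have := F.hq; omega)).neg_pow, F.rp_pow_q] at h1
  have h2 : ((2 : ℕ) : ZMod p) = 0 := by push_cast; linear_combination h1
  have := Nat.le_of_dvd (by omega) ((ZMod.natCast_eq_zero_iff 2 p).1 h2)
  have := F.hpq; have := F.hq
  omega

/-- The two cycles and the fixed point. -/
theorem cover (j : ZMod p) : j = 0 ∨ (∃ i, j = F.rp i) ∨ ∃ i, j = -F.rp i := by
  classical
  let f : Option (ZMod q ⊕ ZMod q) → ZMod p := fun o =>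
    o.elim 0 (Sum.elim F.rp fun i => -F.rp i)
  have hf : Function.Injective f := by
    rintro (_ | (a | a)) (_ | (b | b)) h <;> simp only [f, Option.elim, Sum.elim_inl, Sum.elim_inr] at h
    · rfl
    · exact absurd h.symm (F.rp_ne_zero b)
    · exact absurd h.symm (neg_ne_zero.2 (F.rp_ne_zero b))
    · exact absurd h (F.rp_ne_zero a)
    · rw [F.rp_inj h]
    · exact absurd h (F.rp_ne_neg a b)
    · exact absurd h (neg_ne_zero.2 (F.rp_ne_zero a))
    · exact absurd h.symm (F.rp_ne_neg b a)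
    · rw [F.rp_inj (neg_injective h)]
  have hb : Function.Bijective f :=
    (Fintype.bijective_iff_injective_and_card f).2 ⟨hf, by
      simp only [Fintype.card_option, Fintype.card_sum, ZMod.card]
      have := F.hpq; omega⟩
  obtain ⟨o, rfl⟩ := hb.2 j
  rcases o with _ | (a | a)
  exacts [Or.inl rfl, Or.inr (Or.inl ⟨a, rfl⟩), Or.inr (Or.inr ⟨a, rfl⟩)]

theorem act' (i : ZMod q) (z j : ZMod p) : F.nel i z • F.e j = F.e (F.rp i * j + z) := F.act i z j

variable [FaithfulSMul G Ω]

theorem ext_act {g h : G} (hg : ∀ j, g • F.e j = h • F.e j) : g = h :=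
  FaithfulSMul.eq_of_smul_eq_smul fun x => by
    obtain ⟨j, rfl⟩ := F.e.surjective x
    exact hg j

theorem nel_mul (i k : ZMod q) (z z' : ZMod p) :
    F.nel i z * F.nel k z' = F.nel (i + k) (z + F.rp i * z') :=
  F.ext_act fun j => by
    rw [mul_smul, F.act', F.act', F.act', F.rp_add]
    congr 1
    ring

theorem nel_zero : F.nel 0 0 = 1 := F.ext_act fun j => by simp [F.act']

theorem nel_inj {i k : ZMod q} {z z' : ZMod p} (h : F.nel i z = F.nel k z') : i = k ∧ z = z' := by
  have h0 := congrArg (fun g => g • F.e 0) h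
  have h1 := congrArg (fun g => g • F.e 1) h
  simp only [F.act', mul_zero, zero_add, mul_one] at h0 h1
  have hz := F.e.injective h0
  have h1' := F.e.injective h1
  rw [hz, add_left_inj] at h1'
  exact ⟨F.rp_inj h1', hz⟩

theorem nel_inv (i : ZMod q) (z : ZMod p) : (F.nel i z)⁻¹ = F.nel (-i) (-(F.rp (-i) * z)) := by
  refine inv_eq_of_mul_eq_one_right ?_
  rw [F.nel_mul, add_neg_cancel, ← F.nel_zero]
  congr 1
  have := F.rp_add i (-i)
  rw [add_neg_cancel, F.rp_zero] at this
  linear_combination z * this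

theorem nel_pow (i : ZMod q) (n : ℕ) : F.nel i 0 ^ n = F.nel (n * i) 0 := by
  induction n with
  | zero => simp [F.nel_zero]
  | succ n ih => rw [pow_succ, ih, F.nel_mul, Nat.cast_succ, add_one_mul, mul_zero, add_zero]

theorem nel_pow' (z : ZMod p) (n : ℕ) : F.nel 0 z ^ n = F.nel 0 (n * z) := by
  induction n with
  | zero => simp [F.nel_zero]
  | succ n ih => rw [pow_succ, ih, F.nel_mul, F.rp_zero, zero_add, one_mul, Nat.cast_succ, add_one_mul]

theorem nel_conj (i k : ZMod q) (z c : ZMod p) :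
    F.nel k c * F.nel i z * (F.nel k c)⁻¹ = F.nel i (F.rp k * z + (1 - F.rp i) * c) := by
  rw [F.nel_inv, F.nel_mul, F.nel_mul, show k + i + -k = i by ring]
  congr 1
  have := F.rp_add (k + i) (-k)
  rw [show k + i + -k = i by ring] at this
  linear_combination c * this

theorem isConj_nel {i : ZMod q} (hi : i ≠ 0) (z : ZMod p) : IsConj (F.nel i 0) (F.nel i z) := by
  refine isConj_iff.2 ⟨F.nel 0 (z / (1 - F.rp i)), ?_⟩
  rw [F.nel_conj, mul_zero, zero_add, mul_div_cancel₀]
  exact sub_ne_zero.2 fun h => hi (F.rp_eq_one.1 h.symm)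

theorem orderOf_nel {i : ZMod q} (hi : i ≠ 0) : orderOf (F.nel i 0) = q := by
  refine orderOf_eq_prime ?_ fun h => hi (F.nel_inj (h.trans F.nel_zero.symm)).1
  rw [F.nel_pow, ZMod.natCast_self, zero_mul, F.nel_zero]

theorem orderOf_nel' {z : ZMod p} (hz : z ≠ 0) : orderOf (F.nel 0 z) = p := by
  refine orderOf_eq_prime ?_ fun h => hz (F.nel_inj (h.trans F.nel_zero.symm)).2
  rw [F.nel_pow', ZMod.natCast_self, zero_mul, F.nel_zero]

/-- The multiplicity of a linear character of the normaliser. -/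
noncomputable def md (f : G → ℂ) (j : ZMod q) : ℂ :=
  ((p : ℂ) * q)⁻¹ * ∑ i : ZMod q, ∑ z : ZMod p, f (F.nel i z) * chi (-(j * i))

/-- The normaliser. -/
def nsub : Subgroup G where
  carrier := Set.range fun v : ZMod q × ZMod p => F.nel v.1 v.2
  one_mem' := ⟨(0, 0), F.nel_zero⟩
  mul_mem' := by
    rintro _ _ ⟨a, rfl⟩ ⟨b, rfl⟩
    exact ⟨(_, _), (F.nel_mul _ _ _ _).symm⟩
  inv_mem' := by
    rintro _ ⟨a, rfl⟩
    exact ⟨(_, _), (F.nel_inv _ _).symm⟩

/-- The parametrisation of the normaliser. -/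
noncomputable def nEquiv : ZMod q × ZMod p ≃ F.nsub :=
  Equiv.ofBijective (fun v => ⟨F.nel v.1 v.2, v, rfl⟩)
    ⟨fun a b h => Prod.ext (F.nel_inj (congrArg Subtype.val h)).1 (F.nel_inj (congrArg Subtype.val h)).2,
      fun x => by obtain ⟨_, v, rfl⟩ := x; exact ⟨v, rfl⟩⟩

theorem nEquiv_val (v : ZMod q × ZMod p) : (F.nEquiv v : G) = F.nel v.1 v.2 := rfl

/-- A linear character of the normaliser. -/
noncomputable def lin (j : ZMod q) : F.nsub →* ℂˣ :=
  MonoidHom.toHomUnits
    { toFun := fun n => chi (j * (F.nEquiv.symm n).1)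
      map_one' := by
        rw [show F.nEquiv.symm 1 = (0, 0) from F.nEquiv.symm_apply_eq.2 (Subtype.ext F.nel_zero.symm)]
        simp
      map_mul' := fun a b => by
        obtain ⟨v, rfl⟩ := F.nEquiv.surjective a
        obtain ⟨w, rfl⟩ := F.nEquiv.surjective b
        rw [show F.nEquiv.symm (F.nEquiv v * F.nEquiv w) = (v.1 + w.1, v.2 + F.rp v.1 * w.2) from
          F.nEquiv.symm_apply_eq.2 (Subtype.ext (F.nel_mul _ _ _ _))]
        simp [mul_add, AddChar.map_add_eq_mul] }

theorem lin_apply (j : ZMod q) (v : ZMod q × ZMod p) :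
    (F.lin j (F.nEquiv v) : ℂ) = chi (j * v.1) := by
  simp [lin]

/-- The multiplicities are natural numbers. -/
theorem md_nat [Finite G] {f : G → ℂ} (hf : Cfsg.IsCharacter G f) (j : ZMod q) :
    ∃ n : ℕ, F.md f j = n := by
  classical
  haveI : Fintype F.nsub := Fintype.ofFinite _
  obtain ⟨n, hn⟩ := IsCharacter.exists_classInner_nat (IsCharacter.restrict hf F.nsub)
    (IsIrrCharacter.isCharacter (isIrrCharacter_linear (F.lin j)))
  refine ⟨n, hn ▸ ?_⟩
  rw [Cfsg.classInner, Nat.card_congr F.nEquiv.symm, Nat.card_prod, Nat.card_zmod, Nat.card_zmod,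
    ← F.nEquiv.sum_comp, Fintype.sum_prod_type, md]
  congr 1
  · push_cast; ring
  · simp only [F.lin_apply, F.nEquiv_val, chi_conj]

theorem md_add (f g : G → ℂ) (j : ZMod q) : F.md (fun x => f x + g x) j = F.md f j + F.md g j := by
  simp [md, add_mul, Finset.sum_add_distrib, mul_add]

theorem md_mul_left (c : ℂ) (f : G → ℂ) (j : ZMod q) : F.md (fun x => c * f x) j = c * F.md f j := by
  simp only [md, Finset.mul_sum, mul_assoc, mul_left_comm c]

theorem md_sum {ι : Type*} (s : Finset ι) (f : ι → G → ℂ) (j : ZMod q) :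
    F.md (fun x => ∑ k ∈ s, f k x) j = ∑ k ∈ s, F.md (f k) j := by
  simp only [md, Finset.sum_mul, Finset.mul_sum]
  refine Eq.trans ?_ Finset.sum_comm
  exact Finset.sum_congr rfl fun i _ => Finset.sum_comm

theorem sum_chi (i : ZMod q) : ∑ j : ZMod q, chi (j * i) = if i = 0 then (q : ℂ) else 0 := by
  split_ifs with h
  · simp [h]
  · simp only [mul_comm _ i]; exact chi_sum h

/-- The dimension of the fixed space of the Sylow subgroup. -/
noncomputable def nfix (f : G → ℂ) : ℂ := (p : ℂ)⁻¹ * ∑ z : ZMod p, f (F.nel 0 z)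

theorem sum_md_mul (f : G → ℂ) (i : ZMod q) :
    ∑ j : ZMod q, F.md f j * chi (j * i) = (p : ℂ)⁻¹ * ∑ z : ZMod p, f (F.nel i z) := by
  have hq : (q : ℂ) ≠ 0 := Nat.cast_ne_zero.2 F.q_pos.ne'
  calc ∑ j : ZMod q, F.md f j * chi (j * i)
      = ((p : ℂ) * q)⁻¹ * ∑ k : ZMod q, (∑ z : ZMod p, f (F.nel k z)) * ∑ j : ZMod q, chi (j * (i - k)) := by
        have h : ∀ k : ZMod q, ∀ j : ZMod q,
            (∑ z : ZMod p, f (F.nel k z) * chi (-(j * k))) * chi (j * i) =
              (∑ z : ZMod p, f (F.nel k z)) * chi (j * (i - k)) := fun k j => by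
          rw [← Finset.sum_mul, mul_assoc, ← AddChar.map_add_eq_mul]
          congr 2
          ring
        simp only [md, mul_assoc, Finset.mul_sum (s := (Finset.univ : Finset (ZMod q)))]
        refine Eq.trans ?_ Finset.sum_comm
        refine Finset.sum_congr rfl fun j _ => ?_
        rw [← Finset.mul_sum, ← Finset.mul_sum, mul_assoc, Finset.sum_mul]
        exact congrArg _ (Finset.sum_congr rfl fun k _ => h k j)
    _ = _ := by
        simp only [F.sum_chi, sub_eq_zero, mul_ite, mul_zero, Finset.sum_ite_eq, Finset.mem_univ, if_true]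
        field_simp

theorem sum_md (f : G → ℂ) : ∑ j : ZMod q, F.md f j = F.nfix f := by
  simpa [nfix] using F.sum_md_mul f 0

theorem value_x {f : G → ℂ} (hf : Cfsg.IsClassFunction G f) {i : ZMod q} (hi : i ≠ 0) :
    f (F.nel i 0) = ∑ j : ZMod q, F.md f j * chi (j * i) := by
  rw [F.sum_md_mul, Finset.sum_congr rfl fun z _ => show f (F.nel i z) = f (F.nel i 0) from ?_,
    Finset.sum_const, Finset.card_univ, ZMod.card, nsmul_eq_mul, ← mul_assoc, inv_mul_cancel₀, one_mul]
  · exact Nat.cast_ne_zero.2 (Fact.out : p.Prime).ne_zero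
  · obtain ⟨c, hc⟩ := isConj_iff.1 (F.isConj_nel hi z)
    rw [← hc, hf]

/-- A function supported at the identity. -/
theorem md_regular {f : G → ℂ} (hf : ∀ i z, F.nel i z ≠ 1 → f (F.nel i z) = 0) (j : ZMod q) :
    F.md f j = ((p : ℂ) * q)⁻¹ * f 1 := by
  rw [md]
  congr 1
  rw [Finset.sum_eq_single 0, Finset.sum_eq_single 0]
  · simp [F.nel_zero]
  · intro z _ hz
    rw [hf _ _ fun h => hz (F.nel_inj (h.trans F.nel_zero.symm)).2, zero_mul]
  · exact fun h => absurd (Finset.mem_univ _) h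
  · intro i _ hi
    exact Finset.sum_eq_zero fun z _ => by
      rw [hf _ _ fun h => hi (F.nel_inj (h.trans F.nel_zero.symm)).1, zero_mul]
  · exact fun h => absurd (Finset.mem_univ _) h

variable [Fintype Ω]

theorem fixed_count {i : ZMod q} {z : ZMod p} :
    Nat.card (fixedBy Ω (F.nel i z)) = if i = 0 then (if z = 0 then p else 0) else 1 := by
  classical
  have hbij : Nat.card (fixedBy Ω (F.nel i z)) = Nat.card {j : ZMod p // F.rp i * j + z = j} :=
    (Nat.card_congr (F.e.subtypeEquiv fun j => by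
      rw [mem_fixedBy, F.act', F.e.injective.eq_iff])).symm
  rw [hbij, Nat.card_eq_fintype_card, Fintype.card_subtype]
  split_ifs with h1 h2
  · subst h1 h2; simp
  · subst h1; simp [h2]
  · rw [Finset.card_eq_one]
    have hne : (1 : ZMod p) - F.rp i ≠ 0 := sub_ne_zero.2 fun h => h1 (F.rp_eq_one.1 h.symm)
    refine ⟨z / (1 - F.rp i), Finset.ext fun j => ?_⟩
    simp only [Finset.mem_filter, Finset.mem_univ, true_and, Finset.mem_singleton, eq_div_iff hne]
    constructor <;> intro h <;> linear_combination (-1 : ZMod p) * h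

theorem md_pc (j : ZMod q) : F.md (pc Ω) j = if j = 0 then 1 else 0 := by
  have hp : (p : ℂ) ≠ 0 := Nat.cast_ne_zero.2 (Fact.out : p.Prime).ne_zero
  have hq : (q : ℂ) ≠ 0 := Nat.cast_ne_zero.2 F.q_pos.ne'
  have hrow : ∀ i : ZMod q, ∑ z : ZMod p, pc Ω (F.nel i z) * chi (-(j * i)) = p * chi (-(j * i)) := by
    intro i
    simp only [pc, F.fixed_count, ← Finset.sum_mul]
    congr 1
    by_cases hi : i = 0
    · simp [hi]
    · simp [hi]
  rw [md, Finset.sum_congr rfl fun i _ => hrow i, ← Finset.mul_sum,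
    Finset.sum_congr rfl fun i _ => show chi (-(j * i)) = chi (i * -j) by congr 1; ring, F.sum_chi]
  simp only [neg_eq_zero]
  split_ifs
  · field_simp
  · simp

end Frame

end Cfsg.Agent.ItoTwoQ
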