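import Cfsg.Agent.Lib.ItoTwoQ.OrbitSum

/-!
Triply transitive groups: the constituents of the permutation character on unordered pairs.
-/

set_option autoImplicit false
set_option linter.unusedSectionVars false
set_option linter.style.haveILetI false

namespace Cfsg.Agent.ItoTwoQ

open MulAction Cfsg.Agent.Char
open scoped ComplexConjugate

universe u v

variable {G : Type u} [Group G] {Ω : Type v} [MulAction G Ω] [Fintype G] [Fintype Ω]
variable {p q : ℕ} (F : Frame G Ω p q) [Fact p.Prime] [Fact q.Prime] [FaithfulSMul G Ω]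
  [IsPretransitive G Ω] [F.Good]

namespace Frame

include F

variable (h3 : IsMultiplyPretransitive G Ω 3)

include h3

/-- The constituents of `rho`: one orbit apart from those on points. -/
structure RhoData (φ : Cfsg.IrrCharacter G) : Prop where
  mode : F.Mode (rho Ω) φ
  cover : ∀ ψ : Cfsg.IrrCharacter G, Cfsg.classInner (rho Ω) (ψ : G → ℂ) ≠ 0 → ψ ≠ principal G →
    ψ = F.chiP h3 ∨ ψ ∈ F.orbU φ
  zero0 : ∀ ψ ∈ F.orbU φ, F.md (ψ : G → ℂ) 0 = 0
  deg : (φ : G → ℂ) 1 = (p : ℂ) * (F.stabU φ).card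
  two : 2 ≤ (F.stabU φ).card

theorem rho_principal : Cfsg.classInner (rho Ω) (principal G : G → ℂ) = 1 := (F.inner_one h3).1

theorem rho_chiP : Cfsg.classInner (rho Ω) (F.chiP h3 : G → ℂ) = 1 := by
  have h := (F.inner_points h3).1
  rw [F.pc_eq_add h3, classInner_add_right, F.rho_principal h3] at h
  linear_combination h

theorem principal_unique (ψ : Cfsg.IrrCharacter G) (hψ : Cfsg.classInner (rho Ω) (ψ : G → ℂ) ≠ 0)
    (hj : F.md (ψ : G → ℂ) 0 ≠ 0) : ψ = principal G := by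
  obtain ⟨φ0, -, -, hu⟩ := F.mode_unique isCharacter_rho (F.md_rho 0)
  rw [hu ψ hψ hj]
  exact (hu (principal G) (by rw [F.rho_principal h3]; exact one_ne_zero)
    (by rw [F.md_one h3, if_pos rfl]; exact one_ne_zero)).symm

theorem rho_cases (hins : ¬ Group.IsSolvable G) (hH : ∃ k ∈ F.hGroup, k ≠ 1) :
    ∃ φ, F.RhoData h3 φ := by
  classical
  obtain ⟨φ, hM⟩ := F.exists_mode isCharacter_rho F.rational_rho fun j _ => F.md_rho j
  have hnp : ∀ ψ ∈ F.orbU φ, ψ ≠ principal G := by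
    intro ψ hψ h
    obtain ⟨k, rfl⟩ := F.mem_orbU.1 hψ
    have := hM.md_gT k
    rw [h, F.md_one h3, if_neg k.ne_zero] at this
    exact zero_ne_one this
  have hz : ∀ ψ ∈ F.orbU φ, F.md (ψ : G → ℂ) 0 = 0 := by
    intro ψ hψ
    by_contra h
    refine hnp ψ hψ (F.principal_unique h3 ψ ?_ h)
    obtain ⟨k, rfl⟩ := F.mem_orbU.1 hψ
    rw [hM.mult]
    exact one_ne_zero
  have hcov : ∀ ψ : Cfsg.IrrCharacter G, Cfsg.classInner (rho Ω) (ψ : G → ℂ) ≠ 0 → ψ ≠ principal G →
      ψ = F.chiP h3 ∨ ψ ∈ F.orbU φ := by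
    intro ψ hψ h1
    by_cases hc : ψ = F.chiP h3
    · exact Or.inl hc
    refine Or.inr ?_
    have hpr : Cfsg.classInner (pc (Pr Ω)) (ψ : G → ℂ) ≠ 0 := by
      rw [show pc (Pr Ω) = rho Ω + alt Ω from funext fun g : G => (rho_add_alt (Ω := Ω) g).symm,
        classInner_add_left]
      obtain ⟨a, ha⟩ := IsCharacter.exists_classInner_nat (isCharacter_rho (G := G) (Ω := Ω)) (IsIrrCharacter.isCharacter ψ.2)
      obtain ⟨b, hb⟩ := IsCharacter.exists_classInner_nat (isCharacter_alt (G := G) (Ω := Ω)) (IsIrrCharacter.isCharacter ψ.2)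
      rw [ha, hb, ← Nat.cast_add, Nat.cast_ne_zero]
      rw [ha, Nat.cast_ne_zero] at hψ
      omega
    have hn := F.nfix_ne_zero h3 hins ψ hpr (F.inner_pc_self h3 ψ h1 hc)
    rw [← F.sum_md] at hn
    obtain ⟨j, -, hj⟩ := Finset.exists_ne_zero_of_sum_ne_zero hn
    by_cases hj0 : j = 0
    · exact absurd (F.principal_unique h3 ψ hψ (hj0 ▸ hj)) h1
    · exact F.mem_orbU.2 ⟨Units.mk0 j hj0, (hM.uniq (Units.mk0 j hj0) ψ hψ hj).symm⟩
  have hnφ : F.nfix (φ : G → ℂ) = (F.stabU φ).card := by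
    rw [← F.sum_md, F.sum_zmod_units, hz φ (F.mem_orbU.2 ⟨1, F.gT_one φ⟩), hM.units, zero_add]
  have h11 : F.md (φ : G → ℂ) 1 = 1 := by
    have := hM.md_gT 1
    rwa [F.gT_one, Units.val_one] at this
  obtain ⟨n1, ε1, hnn1, -, hd1⟩ := F.mode_degree isCharacter_rho F.rational_rho (F.md_rho 1)
    (φ := φ) (by rw [hM.one]; exact one_ne_zero) (by rw [h11]; exact one_ne_zero)
  rw [hnφ, Nat.cast_inj] at hnn1
  subst hnn1
  refine ⟨φ, hM, hcov, hz, ?_, F.stabU_two φ hH⟩
  set e := (F.stabU φ).card with he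
  set T := (F.orbU φ).card with hT
  have hnc : F.chiP h3 ∉ F.orbU φ := fun h => by
    obtain ⟨k, hk⟩ := F.mem_orbU.1 h
    have := F.md_chiP h3 (k : ZMod q)
    rw [← hk, hM.md_gT] at this
    exact one_ne_zero this
  have hTpos : 1 ≤ T := Finset.card_pos.2 ⟨φ, F.mem_orbU.2 ⟨1, F.gT_one φ⟩⟩
  have htot : (p : ℤ) * q = 1 + 2 * q + T * ((p : ℤ) * e - 2 * q * ε1) := by
    have h := congrFun (IsCharacter.eq_sum (isCharacter_rho (G := G) (Ω := Ω))) 1
    rw [Finset.sum_apply, ← Finset.sum_subset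
        (Finset.subset_univ (insert (principal G) (insert (F.chiP h3) (F.orbU φ)))) fun ψ _ hψ => ?_,
      Finset.sum_insert ?_, Finset.sum_insert hnc, F.rho_one] at h
    · simp only [Pi.smul_apply, smul_eq_mul, F.rho_principal h3, F.rho_chiP h3, one_mul, F.chiP_one h3] at h
      rw [Finset.sum_congr rfl fun ψ hψ => show _ = (p : ℂ) * e - 2 * q * ε1 by
        obtain ⟨k, rfl⟩ := F.mem_orbU.1 hψ
        rw [hM.mult, one_mul, F.gT_degree, hd1], Finset.sum_const, nsmul_eq_mul, ← hT,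
        show (principal G : G → ℂ) 1 = 1 from rfl] at h
      have h' : (((p : ℤ) * q : ℤ) : ℂ) =
          ((1 + 2 * q + T * ((p : ℤ) * e - 2 * q * ε1) : ℤ) : ℂ) := by
        push_cast
        rw [h]
        ring
      exact_mod_cast h'
    · simp only [Finset.mem_insert, not_or]
      exact ⟨(F.chiP_ne h3).symm, fun h => hnp _ h rfl⟩
    · have h0 : Cfsg.classInner (rho Ω) (ψ : G → ℂ) = 0 := by
        by_contra hne'
        simp only [Finset.mem_insert, not_or] at hψ
        rcases hcov ψ hne' hψ.1 with h | h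
        · exact hψ.2.1 h
        · exact hψ.2.2 h
      simp [h0]
  have hq1 : (e : ℤ) * T = (q : ℤ) - 1 := by
    rw [← Nat.cast_mul, F.stab_mul_orb φ, Nat.cast_sub F.q_pos, Nat.cast_one]
  have hpz : (p : ℤ) = 2 * q + 1 := by exact_mod_cast F.hpq
  have key : (2 * (q : ℤ)) * T * ε1 = 0 := by linear_combination htot + (p : ℤ) * hq1 - hpz
  have hε : ε1 = 0 := (mul_eq_zero.1 key).resolve_left (by
    have := F.q_pos
    exact mul_ne_zero (by omega) (by omega))
  rw [hd1, hε]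
  simp

end Frame

end Cfsg.Agent.ItoTwoQ
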