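import Cfsg.Agent.Lib.ItoTwoQ.Setting
import Cfsg.Agent.Lib.FGStruct.JordanCycle
import Mathlib.GroupTheory.Perm.Option

/-!
The elements normalising the element of order `q`, in a group of even permutations.
-/

set_option autoImplicit false
set_option linter.unusedSectionVars false
set_option linter.style.haveILetI false

namespace Cfsg.Agent.ItoTwoQ

open MulAction

universe u v

variable {G : Type u} [Group G] {Ω : Type v} [MulAction G Ω]
variable {p q : ℕ} (F : Frame G Ω p q) [Fact p.Prime] [Fact q.Prime]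
variable [FaithfulSMul G Ω] [Fintype Ω] [DecidableEq Ω]

namespace Frame

include F

theorem fix_zero {k : ZMod q} (hk : k ≠ 0) {j : ZMod p} (h : F.nel k 0 • F.e j = F.e j) : j = 0 := by
  rw [F.act', F.e.injective.eq_iff, add_zero] at h
  have h' : (F.rp k - 1) * j = 0 := by linear_combination h
  exact (mul_eq_zero.1 h').resolve_left (sub_ne_zero.2 fun e => hk (F.rp_eq_one.1 e))

theorem sign_addLeft (a : ZMod q) : Equiv.Perm.sign (Equiv.addLeft a) = 1 := by
  have hpow : ∀ n : ℕ, ∀ j, ((Equiv.addLeft a) ^ n) j = (n : ZMod q) * a + j := by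
    intro n
    induction n with
    | zero => intro j; simp
    | succ n ih =>
      intro j
      rw [pow_succ', Equiv.Perm.mul_apply, ih, Equiv.coe_addLeft]
      push_cast
      ring
  have hq : (Equiv.addLeft a) ^ q = 1 := Equiv.ext fun j => by
    rw [hpow, ZMod.natCast_self, zero_mul, zero_add, Equiv.Perm.one_apply]
  have h := congrArg Equiv.Perm.sign hq
  rw [map_pow, map_one] at h
  have hodd := (Fact.out : q.Prime).odd_of_ne_two (by have := F.hq; omega)
  rcases Int.units_eq_one_or (Equiv.Perm.sign (Equiv.addLeft a)) with e | e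
  · exact e
  · rw [e, hodd.neg_one_pow] at h
    exact absurd h (by decide)

/-- The shape of an element normalising the cyclic group of order `q`. -/
theorem normal_form (heven : ∀ g : G, Equiv.Perm.sign (toPerm g : Equiv.Perm Ω) = 1) {g : G} {k : ZMod q}
    (hk : k ≠ 0) (hg : g * F.nel 1 0 * g⁻¹ = F.nel k 0) :
    g • F.e 0 = F.e 0 ∧ ∃ a b : ZMod q, (∀ i, g • F.e (F.rp i) = F.e (F.rp (a + k * i))) ∧
      ∀ i, g • F.e (-F.rp i) = F.e (-F.rp (b + k * i)) := by
  have hpow : ∀ i : ZMod q, g * F.nel i 0 = F.nel (k * i) 0 * g := by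
    intro i
    have h := congrArg (· ^ i.val) hg
    simp only [conj_pow, F.nel_pow, mul_one, ZMod.natCast_zmod_val] at h
    rw [mul_comm k, ← h, inv_mul_cancel_right]
  have h0 : g • F.e 0 = F.e 0 := by
    obtain ⟨j, hj⟩ := F.e.surjective (g • F.e 0)
    have h2 := congrArg (· • F.e 0) (hpow 1)
    simp only [mul_smul, mul_one, F.act', mul_zero, add_zero, ← hj] at h2
    have h3 : F.nel k 0 • F.e j = F.e j := by rw [F.act', add_zero]; exact h2.symm
    rw [← hj, F.fix_zero hk h3]
  refine ⟨h0, ?_⟩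
  have himg : ∀ (i : ZMod q) (j w : ZMod p), g • F.e j = F.e w →
      g • F.e (F.rp i * j) = F.e (F.rp (k * i) * w) := by
    intro i j w hw
    have h2 := congrArg (· • F.e j) (hpow i)
    simp only [mul_smul, F.act', add_zero, hw] at h2
    exact h2
  obtain ⟨w, hw⟩ := F.e.surjective (g • F.e 1)
  obtain ⟨w', hw'⟩ := F.e.surjective (g • F.e (-1))
  have hP : ∀ i, g • F.e (F.rp i) = F.e (F.rp (k * i) * w) := fun i => by
    simpa using himg i 1 w hw.symm
  have hM : ∀ i, g • F.e (-F.rp i) = F.e (F.rp (k * i) * w') := fun i => by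
    simpa using himg i (-1) w' hw'.symm
  have hne : ∀ j v, g • F.e j = F.e v → j ≠ 0 → v ≠ 0 := fun j v h hj hv =>
    hj (F.e.injective (smul_left_cancel g (by rw [h, hv, h0])))
  have hw0 := hne 1 w hw.symm one_ne_zero
  have hw0' := hne (-1) w' hw'.symm (neg_ne_zero.2 one_ne_zero)
  rcases (F.cover w).resolve_left hw0 with ⟨a, rfl⟩ | ⟨a, rfl⟩ <;>
    rcases (F.cover w').resolve_left hw0' with ⟨b, rfl⟩ | ⟨b, rfl⟩
  · exfalso
    have h1 : g • F.e (F.rp ((b - a) * k⁻¹)) = g • F.e (-F.rp 0) := by
      rw [hP, hM, ← F.rp_add, ← F.rp_add, mul_zero, zero_add]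
      congr 2
      field_simp
      ring
    exact F.rp_ne_neg _ _ (F.e.injective (smul_left_cancel g h1))
  · exact ⟨a, b, fun i => by rw [hP, ← F.rp_add, add_comm], fun i => by
      rw [hM, mul_neg, ← F.rp_add, add_comm]⟩
  · exfalso
    classical
    let E : Option (ZMod q × Bool) ≃ Ω := (Equiv.ofBijective
      (fun o : Option (ZMod q × Bool) => o.elim 0 fun v => if v.2 then F.rp v.1 else -F.rp v.1)
      ((Fintype.bijective_iff_surjective_and_card _).2 ⟨fun j => by
        rcases F.cover j with rfl | ⟨i, rfl⟩ | ⟨i, rfl⟩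
        exacts [⟨none, rfl⟩, ⟨some (i, true), rfl⟩, ⟨some (i, false), rfl⟩],
        by simp only [Fintype.card_option, Fintype.card_prod, ZMod.card, Fintype.card_bool]
           have := F.hpq; omega⟩)).trans F.e
    let m : ZMod q ≃ ZMod q := Equiv.mulLeft₀ k hk
    let σ : Bool → Equiv.Perm (ZMod q) := fun c => (Equiv.addLeft (if c then a else b)) * m
    let Q : Equiv.Perm (ZMod q × Bool) :=
      (Equiv.prodCongrRight fun _ => Equiv.swap false true) * Equiv.prodCongrLeft σ
    have hEn : E none = F.e 0 := rfl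
    have hEt : ∀ i, E (some (i, true)) = F.e (F.rp i) := fun i => rfl
    have hEf : ∀ i, E (some (i, false)) = F.e (-F.rp i) := fun i => rfl
    have hperm : (toPerm g : Equiv.Perm Ω) = E.permCongr (Equiv.optionCongr Q) := by
      refine Equiv.ext fun z => ?_
      obtain ⟨o, rfl⟩ := E.surjective z
      rw [toPerm_apply, Equiv.permCongr_apply, Equiv.symm_apply_apply, Equiv.optionCongr_apply]
      rcases o with _ | ⟨i, _ | _⟩
      · rw [Option.map_none, hEn, h0]
      · rw [Option.map_some]
        show g • E (some (i, false)) = E (some (b + k * i, true))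
        rw [hEf, hEt, hM, ← F.rp_add, add_comm]
      · rw [Option.map_some]
        show g • E (some (i, true)) = E (some (a + k * i, false))
        rw [hEt, hEf, hP, mul_neg, ← F.rp_add, add_comm]
    have h := heven g
    rw [hperm, Equiv.Perm.sign_permCongr, Equiv.optionCongr_sign, map_mul,
      Equiv.Perm.sign_prodCongrRight, Equiv.Perm.sign_prodCongrLeft, Fintype.prod_bool] at h
    simp only [σ, map_mul, F.sign_addLeft, one_mul, Equiv.Perm.sign_swap (Bool.false_ne_true),
      Finset.prod_const, Finset.card_univ, ZMod.card, Int.units_mul_self, mul_one] at h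
    rw [((Fact.out : q.Prime).odd_of_ne_two (by have := F.hq; omega)).neg_one_pow] at h
    exact absurd h (by decide)
  · exfalso
    have h1 : g • F.e (F.rp ((b - a) * k⁻¹)) = g • F.e (-F.rp 0) := by
      rw [hP, hM, mul_neg, mul_neg, ← F.rp_add, ← F.rp_add, mul_zero, zero_add]
      congr 3
      field_simp
      ring
    exact F.rp_ne_neg _ _ (F.e.injective (smul_left_cancel g h1))

/-- The centraliser of the element of order `q`. -/
theorem cent_of_no_cycle (heven : ∀ g : G, Equiv.Perm.sign (toPerm g : Equiv.Perm Ω) = 1)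
    (hcyc : ∀ g : G, (toPerm g : Equiv.Perm Ω).IsCycle → (toPerm g : Equiv.Perm Ω).support.card ≠ q)
    (g : G) (hg : Commute g (F.nel 1 0)) : ∃ i, g = F.nel i 0 := by
  obtain ⟨h0, a, b, hP, hM⟩ := F.normal_form heven (one_ne_zero (α := ZMod q))
    (g := g) (by rw [hg.eq, mul_inv_cancel_right])
  simp only [one_mul] at hP hM
  suffices hab : a = b by
    refine ⟨a, F.ext_act fun j => ?_⟩
    rcases F.cover j with rfl | ⟨i, rfl⟩ | ⟨i, rfl⟩
    · rw [h0, F.act', mul_zero, zero_add]
    · rw [hP, F.act', add_zero, ← F.rp_add]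
    · rw [hM, F.act', add_zero, mul_neg, ← F.rp_add, hab]
  by_contra hne
  set c := b - a with hc
  have hc0 : c ≠ 0 := sub_ne_zero.2 (Ne.symm hne)
  set k' := F.nel (-a) 0 * g with hk'
  have hP' : ∀ i, k' • F.e (F.rp i) = F.e (F.rp i) := fun i => by
    rw [hk', mul_smul, hP, F.act', add_zero, ← F.rp_add]
    congr 2; ring
  have hM' : ∀ i, k' • F.e (-F.rp i) = F.e (-F.rp (c + i)) := fun i => by
    rw [hk', mul_smul, hM, F.act', add_zero, mul_neg, ← F.rp_add]
    congr 3; ring
  have h0' : k' • F.e 0 = F.e 0 := by rw [hk', mul_smul, h0, F.act', mul_zero, zero_add]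
  have hpow : ∀ (n : ℕ) i, (k' ^ n) • F.e (-F.rp i) = F.e (-F.rp ((n : ZMod q) * c + i)) := by
    intro n
    induction n with
    | zero => intro i; simp
    | succ n ih =>
      intro i
      rw [pow_succ', mul_smul, ih, hM']
      congr 3; push_cast; ring
  have hsup : (toPerm k' : Equiv.Perm Ω).support =
      Finset.univ.map ⟨fun i => F.e (-F.rp i), fun i j h => F.rp_inj (neg_injective (F.e.injective h))⟩ := by
    ext z
    obtain ⟨j, rfl⟩ := F.e.surjective z
    simp only [Equiv.Perm.mem_support, toPerm_apply, Finset.mem_map, Finset.mem_univ, true_and,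
      Function.Embedding.coeFn_mk]
    constructor
    · intro hj
      rcases F.cover j with rfl | ⟨i, rfl⟩ | ⟨i, rfl⟩
      exacts [absurd h0' hj, absurd (hP' i) hj, ⟨i, rfl⟩]
    · rintro ⟨i, hi⟩
      rw [← hi]
      show k' • F.e (-F.rp i) ≠ F.e (-F.rp i)
      rw [hM']
      exact fun e => hc0 (add_eq_right.1 (F.rp_inj (neg_injective (F.e.injective e))))
  refine hcyc k' ?_ (by rw [hsup, Finset.card_map, Finset.card_univ, ZMod.card])
  refine ⟨F.e (-F.rp 0), fun e => ?_, fun y hy => ?_⟩
  · rw [toPerm_apply, hM'] at e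
    exact hc0 (by simpa using F.rp_inj (neg_injective (F.e.injective e)))
  · rw [← Equiv.Perm.mem_support, hsup] at hy
    simp only [Finset.mem_map, Finset.mem_univ, true_and, Function.Embedding.coeFn_mk] at hy
    obtain ⟨i, rfl⟩ := hy
    refine ⟨((i * c⁻¹).val : ℤ), ?_⟩
    have hpp : ((toPerm k' : Equiv.Perm Ω)) ^ (i * c⁻¹).val = toPerm (k' ^ (i * c⁻¹).val) :=
      (map_pow (MulAction.toPermHom G Ω) k' _).symm
    rw [zpow_natCast, hpp, toPerm_apply, hpow, ZMod.natCast_zmod_val, add_zero, inv_mul_cancel_right₀ hc0]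
    rfl

end Frame

end Cfsg.Agent.ItoTwoQ
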