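import Cfsg.Agent.Lib.ItoTwoQ.Modes
import Cfsg.Agent.Lib.Char.FourTrans
import Cfsg.Agent.Lib.Perm.IndexP

/-!
Triply transitive groups: the small constituents of the characters on pairs.
-/

set_option autoImplicit false
set_option linter.unusedSectionVars false
set_option linter.style.haveILetI false

namespace Cfsg.Agent.ItoTwoQ

open MulAction Cfsg.Agent.Char
open scoped ComplexConjugate
open Cfsg.Agent.TwiceP (chi)

universe u v

variable {G : Type u} [Group G] {Ω : Type v} [MulAction G Ω] [Fintype G] [Fintype Ω]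
variable {p q : ℕ} (F : Frame G Ω p q) [Fact p.Prime] [Fact q.Prime] [FaithfulSMul G Ω]
  [IsPretransitive G Ω] [F.Good]

omit [Fintype G] [Fintype Ω] [FaithfulSMul G Ω] [IsPretransitive G Ω] in
theorem exists_triple (h3 : IsMultiplyPretransitive G Ω 3) {a b c a' b' c' : Ω} (hab : a ≠ b)
    (hac : a ≠ c) (hbc : b ≠ c) (hab' : a' ≠ b') (hac' : a' ≠ c') (hbc' : b' ≠ c') :
    ∃ g : G, g • a = a' ∧ g • b = b' ∧ g • c = c' := by
  rw [isMultiplyPretransitive_iff] at h3
  have inj : ∀ {u v w : Ω}, u ≠ v → u ≠ w → v ≠ w → Function.Injective ![u, v, w] := by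
    intro u v w e1 e2 e3 i j hij
    fin_cases i <;> fin_cases j <;> simp_all [eq_comm]
  obtain ⟨g, hg⟩ := h3 (x := ⟨_, inj hab hac hbc⟩) (y := ⟨_, inj hab' hac' hbc'⟩)
  exact ⟨g, DFunLike.congr_fun hg 0, DFunLike.congr_fun hg 1, DFunLike.congr_fun hg 2⟩

namespace Frame

include F

theorem ne01 : F.e 0 ≠ F.e 1 := F.e.injective.ne zero_ne_one

theorem ne0m : F.e 0 ≠ F.e (-1) := F.e.injective.ne fun e => one_ne_zero (neg_eq_zero.1 e.symm)

theorem ne1m : F.e 1 ≠ F.e (-1) :=
  F.e.injective.ne fun e => F.two_ne (by linear_combination e)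

variable (h3 : IsMultiplyPretransitive G Ω 3)

include h3

theorem exists_other {a b : Ω} : ∃ c, c ≠ a ∧ c ≠ b := by
  by_contra hcon
  push Not at hcon
  have h1 := F.ne01; have h2 := F.ne0m; have h4 := F.ne1m
  have e0 := hcon (F.e 0); have e1 := hcon (F.e 1); have e2 := hcon (F.e (-1))
  by_cases u0 : F.e 0 = a
  · subst u0
    exact h4 ((e1 h1.symm).trans (e2 h2.symm).symm)
  · have v0 := e0 u0
    subst v0
    rcases eq_or_ne (F.e 1) a with u1 | u1
    · exact h2 (e2 fun e => h4 (u1.trans e.symm)).symm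
    · exact h1 (e1 u1).symm

theorem two_trans : IsMultiplyPretransitive G Ω 2 := by
  rw [is_two_pretransitive_iff]
  intro a b c d hab hcd
  obtain ⟨u, hua, hub⟩ := F.exists_other h3 (a := a) (b := b)
  obtain ⟨w, hwc, hwd⟩ := F.exists_other h3 (a := c) (b := d)
  obtain ⟨g, g1, g2, -⟩ := exists_triple h3 hab hua.symm hub.symm hcd hwc.symm hwd.symm
  exact ⟨g, g1, g2⟩

theorem inner_pc_one : Cfsg.classInner (pc Ω) (fun _ : G => (1 : ℂ)) = 1 := by
  haveI := h3
  have h := congrArg (Nat.cast : ℕ → ℂ) (sum_natCard_fixedBy (G := G) Ω)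
  have hq : Nat.card (Quotient (orbitRel G Ω)) = 1 := by
    haveI : Nonempty Ω := ⟨F.e 0⟩
    rw [Nat.card_eq_one_iff_unique]
    exact ⟨(pretransitive_iff_subsingleton_quotient G Ω).1 ‹_›, ⟨Quotient.mk _ (F.e 0)⟩⟩
  rw [hq, one_mul, Nat.cast_sum] at h
  simp only [Cfsg.classInner, map_one, mul_one, pc, h]
  exact inv_mul_cancel₀ (Nat.cast_ne_zero.2 Nat.card_pos.ne')

theorem inner_pc_pc : Cfsg.classInner (pc (G := G) Ω) (pc Ω) = 2 := by
  classical
  have h2 := F.two_trans h3
  refine FourTrans.classInner_piX (G := G) Ω Ω (k := 2)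
    ((card_orbits_eq_two (fun x : Ω × Ω => x.1 = x.2) (fun g x => (MulAction.injective g).eq_iff)
      (a := (F.e 0, F.e 0)) (b := (F.e 0, F.e 1)) rfl F.ne01).2 fun x y hxy => ?_)
  by_cases hx : x.1 = x.2
  · obtain ⟨g, hg⟩ := exists_smul_eq G x.1 y.1
    exact ⟨g, Prod.ext hg (by show g • x.2 = y.2; rw [← hx, hg, hxy.1 hx])⟩
  · obtain ⟨g, g1, g2⟩ := is_two_pretransitive_iff.1 h2 hx fun e => hx (hxy.2 e)
    exact ⟨g, Prod.ext g1 g2⟩

theorem isIrr_chi : Cfsg.IsIrrCharacter G (fun g => pc Ω g - 1) := by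
  have h1 := F.inner_pc_one h3
  refine FourTrans.irr_of_gen (G := G) (d := 2 * q) ?_ ?_ ?_
  · exact IsGeneralizedCharacter.sub (IsGeneralizedCharacter.of_isCharacter isCharacter_pc)
      (IsGeneralizedCharacter.of_isCharacter isCharacter_one)
  · rw [show (fun g => pc Ω g - 1) = pc Ω - fun _ : G => (1 : ℂ) from rfl, classInner_sub_left,
      classInner_sub_right, classInner_sub_right, F.inner_pc_pc h3, h1,
      classInner_self_irr isIrrCharacter_one,
      classInner_comm_of_isCharacter isCharacter_one isCharacter_pc, h1]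
    norm_num
  · simp only [pc, fixedBy_one_eq_univ, Nat.card_univ, F.card_omega, F.hpq]
    push_cast
    ring

/-- The nontrivial constituent on the points. -/
noncomputable def chiP : Cfsg.IrrCharacter G := ⟨fun g => pc Ω g - 1, F.isIrr_chi h3⟩

theorem chiP_apply (g : G) : (F.chiP h3 : G → ℂ) g = pc Ω g - 1 := rfl

theorem chiP_one : (F.chiP h3 : G → ℂ) 1 = 2 * q := by
  simp only [chiP_apply, pc, fixedBy_one_eq_univ, Nat.card_univ, F.card_omega, F.hpq]
  push_cast
  ring

theorem pc_eq_add : pc (G := G) Ω = (principal G : G → ℂ) + (F.chiP h3 : G → ℂ) := by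
  funext g
  show pc Ω g = 1 + (pc Ω g - 1)
  ring

theorem chiP_ne : F.chiP h3 ≠ principal G := fun h => by
  have h1 := congrArg (fun φ : Cfsg.IrrCharacter G => (φ : G → ℂ) 1) h
  rw [F.chiP_one] at h1
  have h2 : ((2 * q : ℕ) : ℂ) = (1 : ℕ) := by push_cast; exact h1
  have := Nat.cast_injective h2
  omega

theorem inner_pc_self (ψ : Cfsg.IrrCharacter G) (h1 : ψ ≠ principal G) (h2 : ψ ≠ F.chiP h3) :
    Cfsg.classInner (pc Ω) (ψ : G → ℂ) = 0 := by
  rw [F.pc_eq_add h3, classInner_add_left, classInner_irr_of_ne (principal G).2 ψ.2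
    (fun e => h1 (Subtype.ext e.symm)), classInner_irr_of_ne (F.chiP h3).2 ψ.2
    (fun e => h2 (Subtype.ext e.symm)), add_zero]

theorem md_one (j : ZMod q) : F.md (principal G : G → ℂ) j = if j = 0 then 1 else 0 := by
  have hp : (p : ℂ) ≠ 0 := Nat.cast_ne_zero.2 (Fact.out : p.Prime).ne_zero
  have hq : (q : ℂ) ≠ 0 := Nat.cast_ne_zero.2 F.q_pos.ne'
  show F.md (fun _ => (1 : ℂ)) j = _
  simp only [md, one_mul, Finset.sum_const, Finset.card_univ, ZMod.card, nsmul_eq_mul, ← Finset.mul_sum,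
    Finset.sum_congr rfl fun i _ => show chi (-(j * i)) = chi (i * -j) by congr 1; ring, F.sum_chi,
    neg_eq_zero]
  split_ifs
  · field_simp
  · simp

theorem md_chiP (j : ZMod q) : F.md (F.chiP h3 : G → ℂ) j = 0 := by
  have h := F.md_pc j
  rw [F.pc_eq_add h3] at h
  have h' : F.md (principal G : G → ℂ) j + F.md (F.chiP h3 : G → ℂ) j =
      if j = 0 then 1 else 0 := (F.md_add _ _ j).symm.trans h
  rwa [F.md_one h3, add_eq_left] at h'

theorem pairs_trans : IsPretransitive G (Pr Ω) := ⟨fun x y => by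
  obtain ⟨g, g1, g2⟩ := is_two_pretransitive_iff.1 (F.two_trans h3) x.2 y.2
  exact ⟨g, Pr.ext' g1 g2⟩⟩

theorem inner_Pr_one : Cfsg.classInner (pc (Pr Ω)) (fun _ : G => (1 : ℂ)) = 1 := by
  haveI := F.pairs_trans h3
  have h := congrArg (Nat.cast : ℕ → ℂ) (sum_natCard_fixedBy (G := G) (Pr Ω))
  have hq : Nat.card (Quotient (orbitRel G (Pr Ω))) = 1 := by
    rw [Nat.card_eq_one_iff_unique]
    exact ⟨(pretransitive_iff_subsingleton_quotient G (Pr Ω)).1 ‹_›, ⟨Quotient.mk _ F.base⟩⟩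
  rw [hq, one_mul, Nat.cast_sum] at h
  simp only [Cfsg.classInner, map_one, mul_one, pc, h]
  exact inv_mul_cancel₀ (Nat.cast_ne_zero.2 Nat.card_pos.ne')

theorem inner_Pr_pc : Cfsg.classInner (pc (G := G) (Pr Ω)) (pc Ω) = 3 := by
  classical
  refine (FourTrans.classInner_piX (G := G) (Pr Ω) Ω (k := 3) ?_).trans (by norm_num)
  refine FourTrans.card_orbits
    (fun z => if z.2 = z.1.1.1 then 0 else if z.2 = z.1.1.2 then 1 else 2) (fun g z => ?_) (fun i => ?_) ?_
  · simp only [Prod.smul_fst, Prod.smul_snd, Pr.smul_fst, Pr.smul_snd, (MulAction.injective g).eq_iff]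
  · fin_cases i
    · exact ⟨(F.base, F.e 0), by simp [base]⟩
    · exact ⟨(F.base, F.e 1), by simp [base, F.ne01.symm]⟩
    · exact ⟨(F.base, F.e (-1)), by simp [base, F.ne0m.symm, F.ne1m.symm]⟩
  · rintro ⟨x, a⟩ ⟨y, b⟩ h
    simp only at h
    have hx := x.2
    have hy := y.2
    rcases eq_or_ne a x.1.1 with rfl | ha1
    · have hb : b = y.1.1 := by by_contra hb; simp [hb] at h; split_ifs at h <;> simp at h
      subst hb
      obtain ⟨g, g1, g2⟩ := is_two_pretransitive_iff.1 (F.two_trans h3) hx hy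
      exact ⟨g, Prod.ext (Pr.ext' g1 g2) g1⟩
    rcases eq_or_ne a x.1.2 with rfl | ha2
    · have hb1 : b ≠ y.1.1 := fun hb => by simp [ha1, hb] at h
      have hb : b = y.1.2 := by by_contra hb; simp [ha1, hb1, hb] at h
      subst hb
      obtain ⟨g, g1, g2⟩ := is_two_pretransitive_iff.1 (F.two_trans h3) hx hy
      exact ⟨g, Prod.ext (Pr.ext' g1 g2) g2⟩
    have hb1 : b ≠ y.1.1 := fun hb => by simp [ha1, ha2, hb] at h
    have hb2 : b ≠ y.1.2 := fun hb => by simp [ha1, ha2, hb1, hb, Ne.symm hy] at h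
    obtain ⟨g, g1, g2, g3⟩ := exists_triple h3 hx (Ne.symm ha1) (Ne.symm ha2) hy (Ne.symm hb1) (Ne.symm hb2)
    exact ⟨g, Prod.ext (Pr.ext' g1 g2) g3⟩

/-- The characters of the two kinds on pairs against the trivial one. -/
theorem inner_one : Cfsg.classInner (rho Ω) (fun _ : G => (1 : ℂ)) = 1 ∧
    Cfsg.classInner (alt Ω) (fun _ : G => (1 : ℂ)) = 0 := by
  classical
  obtain ⟨n1, hn1⟩ := IsCharacter.exists_classInner_nat (isCharacter_rho (G := G) (Ω := Ω)) isCharacter_one
  obtain ⟨n2, hn2⟩ := IsCharacter.exists_classInner_nat (isCharacter_alt (G := G) (Ω := Ω)) isCharacter_one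
  have hsum : Cfsg.classInner (rho Ω) (fun _ : G => (1 : ℂ)) +
      Cfsg.classInner (alt Ω) (fun _ : G => (1 : ℂ)) = 1 := by
    refine Eq.trans ?_ (F.inner_Pr_one h3)
    rw [← classInner_add_left]
    exact congrArg (fun f : G → ℂ => Cfsg.classInner f fun _ => 1) (funext fun g : G => rho_add_alt (Ω := Ω) g)
  let m : G → ℕ := fun g => ∑ x : Pr Ω, ((if g • x = x then 1 else 0) + if g • x = swp x then 1 else 0)
  have hm : ∀ g, rho Ω g = (2 : ℂ)⁻¹ * (m g : ℂ) := fun g => by
    simp [rho, tw, m]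
  have hpos : Cfsg.classInner (rho Ω) (fun _ : G => (1 : ℂ)) ≠ 0 := by
    simp only [Cfsg.classInner, map_one, mul_one, hm, ← Finset.mul_sum, ← Nat.cast_sum]
    refine mul_ne_zero (inv_ne_zero (Nat.cast_ne_zero.2 Nat.card_pos.ne'))
      (mul_ne_zero (by norm_num) (Nat.cast_ne_zero.2 fun h => ?_))
    have h1 := (Finset.sum_eq_zero_iff.1 ((Finset.sum_eq_zero_iff.1 h) 1 (Finset.mem_univ _))) F.base
      (Finset.mem_univ _)
    rw [one_smul, if_pos rfl] at h1
    omega
  rw [hn1, hn2] at hsum ⊢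
  rw [hn1, Nat.cast_ne_zero] at hpos
  have h' : n1 + n2 = 1 := by exact_mod_cast hsum
  obtain ⟨rfl, rfl⟩ : n1 = 1 ∧ n2 = 0 := by omega
  simp

/-- The characters of the two kinds on pairs against the one on points. -/
theorem inner_points : Cfsg.classInner (rho Ω) (pc (G := G) Ω) = 2 ∧
    Cfsg.classInner (alt Ω) (pc (G := G) Ω) = 1 := by
  classical
  let A : Ω → Pr Ω → ℕ := fun a x => (Finset.univ.filter fun g : G => g • a = a ∧ g • x = x).card
  let B : Ω → Pr Ω → ℕ := fun a x => (Finset.univ.filter fun g : G => g • a = a ∧ g • x = swp x).card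
  have hval : ∀ ε : ℤ, Cfsg.classInner (fun g => (2 : ℂ)⁻¹ * tw (G := G) ε (swp (Ω := Ω)) g) (pc Ω) =
      (2 : ℂ)⁻¹ * ((Nat.card G : ℂ)⁻¹ *
        ((∑ a : Ω, ∑ x : Pr Ω, ((A a x : ℤ) + ε * (B a x : ℤ)) : ℤ) : ℂ)) := by
    intro ε
    have e : (tw (G := G) ε (swp (Ω := Ω))) =
        kerFn fun x y : Pr Ω => (if y = x then 1 else 0) + if y = swp x then ε else 0 := by
      funext g
      simp only [tw, kerFn]
      exact Finset.sum_congr rfl fun x _ => by push_cast; rfl
    rw [show (fun g => (2 : ℂ)⁻¹ * tw (G := G) ε (swp (Ω := Ω)) g) = (2 : ℂ)⁻¹ • tw (G := G) ε (swp (Ω := Ω)) from rfl,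
      classInner_smul_left, e, classInner_kerFn_pc]
    congr 3
    refine Finset.sum_congr rfl fun a _ => Finset.sum_congr rfl fun x _ => ?_
    simp only [A, B, Finset.card_filter, Nat.cast_sum, Finset.mul_sum, ← Finset.sum_add_distrib]
    refine Finset.sum_congr rfl fun g _ => ?_
    by_cases h1 : g • a = a <;> simp [h1]
  have hle : ∀ a x, B a x ≤ A a x := by
    intro a x
    rcases (Finset.univ.filter fun g : G => g • a = a ∧ g • x = swp x).eq_empty_or_nonempty with h | ⟨g0, hg0⟩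
    · simp only [B, h, Finset.card_empty]; exact Nat.zero_le _
    simp only [Finset.mem_filter, Finset.mem_univ, true_and] at hg0
    refine Finset.card_le_card_of_injOn (fun g => g0⁻¹ * g) (fun g hg => ?_) fun g _ g' _ e => mul_left_cancel e
    simp only [Finset.coe_filter, Finset.mem_univ, true_and, Set.mem_setOf_eq] at hg ⊢
    exact ⟨by rw [mul_smul, hg.1, inv_smul_eq_iff, hg0.1], by rw [mul_smul, hg.2, inv_smul_eq_iff, hg0.2]⟩
  have hE : 0 < ∑ a : Ω, ∑ x : Pr Ω, (B a x : ℤ) := by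
    set x : Pr Ω := ⟨(F.e 1, F.e (-1)), F.ne1m⟩
    obtain ⟨g, g0, g1, g2⟩ := exists_triple h3 F.ne01 F.ne0m F.ne1m F.ne0m F.ne01 F.ne1m.symm
    refine Finset.sum_pos' (fun a _ => Finset.sum_nonneg fun x _ => Int.natCast_nonneg _)
      ⟨F.e 0, Finset.mem_univ _, Finset.sum_pos' (fun x _ => Int.natCast_nonneg _) ⟨x, Finset.mem_univ _, ?_⟩⟩
    exact Int.natCast_pos.2 (Finset.card_pos.2 ⟨g, Finset.mem_filter.2 ⟨Finset.mem_univ _, g0, Pr.ext' g1 g2⟩⟩)
  have hD : ∑ a : Ω, ∑ x : Pr Ω, (B a x : ℤ) < ∑ a : Ω, ∑ x : Pr Ω, (A a x : ℤ) := by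
    refine Finset.sum_lt_sum (fun a _ => Finset.sum_le_sum fun x _ => Int.ofNat_le.2 (hle a x))
      ⟨F.e 0, Finset.mem_univ _, Finset.sum_lt_sum (fun x _ => Int.ofNat_le.2 (hle _ x))
        ⟨F.base, Finset.mem_univ _, ?_⟩⟩
    have h0 : B (F.e 0) F.base = 0 := Finset.card_eq_zero.2 (Finset.filter_eq_empty_iff.2 fun g _ hg =>
      F.ne01 (hg.1.symm.trans (congrArg (fun y : Pr Ω => y.1.1) hg.2)))
    rw [h0, Nat.cast_zero, Int.natCast_pos]
    exact Finset.card_pos.2 ⟨1, Finset.mem_filter.2 ⟨Finset.mem_univ _, one_smul _ _, one_smul _ _⟩⟩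
  obtain ⟨n1, hn1⟩ := IsCharacter.exists_classInner_nat (isCharacter_rho (G := G) (Ω := Ω))
    (isCharacter_pc (G := G) (X := Ω))
  obtain ⟨n2, hn2⟩ := IsCharacter.exists_classInner_nat (isCharacter_alt (G := G) (Ω := Ω))
    (isCharacter_pc (G := G) (X := Ω))
  have hsum : Cfsg.classInner (rho Ω) (pc (G := G) Ω) + Cfsg.classInner (alt Ω) (pc (G := G) Ω) = 3 := by
    rw [← classInner_add_left, ← F.inner_Pr_pc h3]
    exact congrArg (fun f : G → ℂ => Cfsg.classInner f _) (funext fun g : G => rho_add_alt (Ω := Ω) g)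
  rw [hn1, hn2] at hsum ⊢
  have h' : n1 + n2 = 3 := by exact_mod_cast hsum
  have hc : (Nat.card G : ℂ) ≠ 0 := Nat.cast_ne_zero.2 Nat.card_pos.ne'
  have u1 : ((2 * Nat.card G * n1 : ℤ) : ℂ) = ((∑ a : Ω, ∑ x : Pr Ω, ((A a x : ℤ) + 1 * (B a x : ℤ)) : ℤ) : ℂ) := by
    push_cast
    rw [← hn1, show Cfsg.classInner (rho Ω) (pc (G := G) Ω) = _ from hval 1]
    push_cast
    field_simp
  have u2 : ((2 * Nat.card G * n2 : ℤ) : ℂ) = ((∑ a : Ω, ∑ x : Pr Ω, ((A a x : ℤ) + (-1) * (B a x : ℤ)) : ℤ) : ℂ) := by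
    push_cast
    rw [← hn2, show Cfsg.classInner (alt Ω) (pc (G := G) Ω) = _ from hval (-1)]
    push_cast
    field_simp
  rw [Int.cast_inj] at u1 u2
  simp only [one_mul, neg_one_mul, Finset.sum_add_distrib, Finset.sum_neg_distrib] at u1 u2
  have hG : (0 : ℤ) < Nat.card G := Int.natCast_pos.2 Nat.card_pos
  obtain ⟨rfl, rfl⟩ : n1 = 2 ∧ n2 = 1 := by
    rcases (show n2 = 0 ∨ n2 = 1 ∨ 2 ≤ n2 by omega) with h | h | h
    · subst h; simp only [Nat.cast_zero, mul_zero] at u2; omega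
    · exact ⟨by omega, h⟩
    · exfalso
      have e1 : (n1 : ℤ) ≤ n2 := by omega
      nlinarith
  simp

omit h3 in
/-- There is no nontrivial linear character. -/
theorem hom_trivial (hins : ¬ Group.IsSolvable G) (f : G →* ℂˣ) (g : G) : f g = 1 := by
  set M := f.ker
  haveI hMn : M.Normal := f.normal_ker
  have htr : ∀ z, F.nel 0 z ∈ M := by
    intro z
    have hne : F.rp 1 - 1 ≠ 0 := sub_ne_zero.2 fun h => one_ne_zero (F.rp_eq_one.1 h)
    have hc := congrArg f (F.nel_conj 0 1 (z / (F.rp 1 - 1)) 0)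
    rw [map_mul, map_mul, map_inv, mul_comm (f (F.nel 1 0)), mul_inv_cancel_right, mul_zero, add_zero] at hc
    have : F.nel 0 z = F.nel 0 (F.rp 1 * (z / (F.rp 1 - 1))) * (F.nel 0 (z / (F.rp 1 - 1)))⁻¹ := by
      rw [F.nel_inv, F.nel_mul, neg_zero, add_zero, F.rp_zero]
      congr 1
      field_simp
      ring
    rw [MonoidHom.mem_ker, this, map_mul, map_inv, ← hc, mul_inv_cancel]
  haveI : IsPretransitive M Ω := ⟨fun a b => by
    obtain ⟨i, rfl⟩ := F.e.surjective a
    obtain ⟨j, rfl⟩ := F.e.surjective b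
    refine ⟨⟨_, htr (j - i)⟩, ?_⟩
    show F.nel 0 (j - i) • F.e i = _
    rw [F.act', F.rp_zero, one_mul, add_sub_cancel]⟩
  rcases PermPrime.burnside (G := M) (p := p) F.card_omega with hs | h2
  · haveI := hs
    exact absurd (Group.isSolvable_of_ker_le_range M.subtype f (by rw [Subgroup.range_subtype])) hins
  have hqM : q ∣ Nat.card M := by
    haveI : IsPretransitive (stabilizer M (F.e 0)) (SubMulAction.ofStabilizer M (F.e 0)) := by
      rw [isPretransitive_iff]
      intro a b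
      obtain ⟨k, k0, k1⟩ := is_two_pretransitive_iff.1 h2 (Ne.symm a.2) (Ne.symm b.2)
      exact ⟨⟨k, k0⟩, Subtype.ext k1⟩
    set a : SubMulAction.ofStabilizer M (F.e 0) := ⟨F.e 1, fun h => F.ne01 h.symm⟩
    have h4 : Nat.card (SubMulAction.ofStabilizer M (F.e 0)) = 2 * q := by
      have e : Nat.card {y : Ω // y ≠ F.e 0} = 2 * q := by
        classical
        rw [Nat.card_eq_fintype_card, Fintype.card_subtype_compl, Fintype.card_subtype_eq,
          ← Nat.card_eq_fintype_card, F.card_omega, F.hpq]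
        omega
      exact e
    refine dvd_trans ?_ (Subgroup.card_subgroup_dvd_card (stabilizer M (F.e 0)))
    refine dvd_trans ?_ (Subgroup.index_dvd_card (stabilizer (stabilizer M (F.e 0)) a))
    rw [index_stabilizer_of_transitive (stabilizer M (F.e 0)) a, h4]
    exact dvd_mul_left q 2
  obtain ⟨t, ht⟩ := exists_prime_orderOf_dvd_card' q hqM
  obtain ⟨i, hi0, hi⟩ := F.sing_conj (g := (t : G)) (by rw [Subgroup.orderOf_coe, ht])
  obtain ⟨c, hc⟩ := isConj_iff.1 hi
  have hiM : F.nel i 0 ∈ M := by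
    have h := hMn.conj_mem (t : G) t.2 c⁻¹
    rwa [← hc, show c⁻¹ * (c * F.nel i 0 * c⁻¹) * c⁻¹⁻¹ = F.nel i 0 by group] at h
  have hN : ∀ j z, F.nel j z ∈ M := by
    intro j z
    have h := mul_mem (htr z) (pow_mem hiM (j * i⁻¹).val)
    rwa [F.nel_pow, ZMod.natCast_zmod_val, inv_mul_cancel_right₀ hi0, F.nel_mul, zero_add, mul_zero,
      add_zero] at h
  haveI : Finite M := inferInstance
  set y : M := ⟨F.nel 0 1, htr 1⟩
  have hyo : orderOf y = p := by rw [Subgroup.orderOf_mk, F.orderOf_nel' one_ne_zero]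
  set y' : M := ⟨g * F.nel 0 1 * g⁻¹, hMn.conj_mem _ (htr 1) g⟩
  have hyo' : orderOf y' = p := by
    rw [Subgroup.orderOf_mk, show g * F.nel 0 1 * g⁻¹ = MulAut.conj g (F.nel 0 1) from rfl,
      MulEquiv.orderOf_eq, F.orderOf_nel' one_ne_zero]
  obtain ⟨P, hP⟩ := (IsPGroup.of_card (n := 1) (p := p) (G := Subgroup.zpowers y)
    (by rw [Nat.card_zpowers, hyo, pow_one])).exists_le_sylow
  obtain ⟨P', hP'⟩ := (IsPGroup.of_card (n := 1) (p := p) (G := Subgroup.zpowers y')
    (by rw [Nat.card_zpowers, hyo', pow_one])).exists_le_sylow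
  obtain ⟨m, rfl⟩ := exists_smul_eq M P P'
  have hPz : (P : Subgroup M) = Subgroup.zpowers y :=
    (Subgroup.eq_of_le_of_card_ge hP (by
      rw [Nat.card_zpowers, hyo, PermPrime.sylow_card F.card_omega P])).symm
  have h1 := hP' (Subgroup.mem_zpowers y')
  rw [Sylow.coe_subgroup_smul, Subgroup.mem_pointwise_smul_iff_inv_smul_mem, hPz] at h1
  obtain ⟨n, hn⟩ := ((isOfFinOrder_of_finite y).mem_powers_iff_mem_zpowers).2 h1
  have h2' : ((m : G)⁻¹ * g) * F.nel 0 1 * ((m : G)⁻¹ * g)⁻¹ = F.nel 0 (n * 1) := by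
    rw [← F.nel_pow']
    refine Eq.trans ?_ (congrArg Subtype.val hn).symm
    simp [y', MulAut.smul_def, MulAut.conj_symm_apply, mul_assoc]
  obtain ⟨j, z, hjz⟩ := F.norm _ _ h2'
  have : g ∈ M := by
    rw [show g = (m : G) * ((m : G)⁻¹ * g) by group, hjz]
    exact mul_mem m.2 (hN j z)
  exact this

/-- Every constituent on pairs outside those on points has fixed vectors of the Sylow subgroup. -/
theorem nfix_ne_zero (hins : ¬ Group.IsSolvable G) (ψ : Cfsg.IrrCharacter G)
    (hψ : Cfsg.classInner (pc (Pr Ω)) (ψ : G → ℂ) ≠ 0) (hψ' : Cfsg.classInner (pc Ω) (ψ : G → ℂ) = 0) :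
    F.nfix (ψ : G → ℂ) ≠ 0 := by
  classical
  intro hn0
  obtain ⟨n, hn, hdeg0, -⟩ := F.rule ψ
  obtain ⟨d, hd, hd2⟩ := hdeg0 (by rw [hn0, eq_comm, Nat.cast_eq_zero] at hn; exact hn)
  set H := stabilizer G (F.e 0)
  haveI : Fintype H := Fintype.ofFinite H
  set r : H → ℂ := fun h => (ψ : G → ℂ) h
  have hr : Cfsg.IsCharacter H r := IsCharacter.restrict (IsIrrCharacter.isCharacter ψ.2) H
  have hsum : ∀ f : G → ℂ, Cfsg.IsClassFunction G f →
      ∑ g : G, pc Ω g * f g = (p : ℂ) * ∑ h : H, f h := by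
    intro f hf
    simp only [pc_eq, Finset.sum_mul, ite_mul, one_mul, zero_mul]
    rw [Finset.sum_comm]
    have key : ∀ a : Ω, (∑ g : G, if g • a = a then f g else 0) = ∑ h : H, f h := by
      intro a
      obtain ⟨c, rfl⟩ := exists_smul_eq G (F.e 0) a
      rw [← Fintype.sum_equiv (MulAut.conj c).toEquiv (fun g => if g • F.e 0 = F.e 0 then f g else 0) _
        (fun g => ?_), ← Finset.sum_filter]
      · exact Finset.sum_subtype _ (fun g => by simp [H, mem_stabilizer_iff]) f
      · simp only [MulEquiv.toEquiv_eq_coe, MulEquiv.coe_toEquiv, MulAut.conj_apply, mul_smul,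
          inv_smul_smul, smul_left_cancel_iff, hf g c]
    rw [Finset.sum_congr rfl fun a _ => key a, Finset.sum_const, Finset.card_univ, nsmul_eq_mul,
      ← Nat.card_eq_fintype_card, F.card_omega]
  have hH : (p : ℂ) * Nat.card H = Nat.card G := by
    have h1 := H.card_mul_index
    rw [index_stabilizer_of_transitive, F.card_omega] at h1
    exact_mod_cast (mul_comm p _).trans h1
  have hp0 : (p : ℂ) ≠ 0 := Nat.cast_ne_zero.2 (Fact.out : p.Prime).ne_zero
  have hcf : ∀ k : ℕ, Cfsg.classInner (fun h : H => pc Ω (h : G) ^ k) r =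
      Cfsg.classInner (fun g => pc Ω g ^ (k + 1)) (ψ : G → ℂ) := by
    intro k
    simp only [Cfsg.classInner, ← hH]
    rw [Finset.sum_congr rfl fun g _ => show pc Ω g ^ (k + 1) * conj ((ψ : G → ℂ) g) =
      pc Ω g * (pc Ω g ^ k * conj ((ψ : G → ℂ) g)) by rw [pow_succ']; ring,
      hsum (fun g => pc Ω g ^ k * conj ((ψ : G → ℂ) g)) (fun g c => by
        show _ * _ = _ * _
        rw [F.irr_classFun ψ g c, IsCharacter.isClassFunction isCharacter_pc g c])]
    simp only [r]
    field_simp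
  set θ : H → ℂ := fun h => pc Ω (h : G) - 2
  have h1H : Cfsg.classInner (fun h : H => pc Ω (h : G) ^ 0) r = 0 := by
    rw [hcf]; simpa using hψ'
  have hθr : Cfsg.classInner θ r ≠ 0 := by
    intro h0
    refine hψ ?_
    have e : θ = (fun h : H => pc Ω (h : G) ^ 1) - (2 : ℂ) • fun h : H => pc Ω (h : G) ^ 0 := by
      funext h; simp [θ]
    rw [e, classInner_sub_left, classInner_smul_left, h1H, mul_zero, sub_zero, hcf] at h0
    rw [show pc (Pr Ω) = (fun g : G => pc Ω g ^ 2) - pc Ω from funext fun g => by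
        rw [Pi.sub_apply, pc_Pr]; ring, classInner_sub_left, hψ', sub_zero]
    exact h0
  have hπc : Cfsg.IsCharacter H (fun h : H => pc Ω (h : G)) := IsCharacter.restrict isCharacter_pc H
  have horb1 : Cfsg.classInner (fun h : H => pc Ω (h : G)) (fun _ => 1) = 2 := by
    have h := congrArg (Nat.cast : ℕ → ℂ) (sum_natCard_fixedBy (G := H) Ω)
    have hq : Nat.card (Quotient (orbitRel H Ω)) = 2 := by
      refine (card_orbits_eq_two (fun a : Ω => a = F.e 0) (fun g a => ?_) (a := F.e 0) (b := F.e 1) rfl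
        F.ne01.symm).2 fun a b hab => ?_
      · exact ⟨fun h => smul_left_cancel g (h.trans (g.2 : (g : G) • F.e 0 = F.e 0).symm),
          fun h => by rw [h]; exact g.2⟩
      · by_cases ha : a = F.e 0
        · exact ⟨1, by rw [one_smul, ha, hab.1 ha]⟩
        · obtain ⟨g, g1, g2⟩ := is_two_pretransitive_iff.1 (F.two_trans h3) (Ne.symm ha)
            (Ne.symm fun hb => ha (hab.2 hb))
          exact ⟨⟨g, g1⟩, g2⟩
    rw [hq, Nat.cast_mul, Nat.cast_sum] at h
    have hfix : ∀ k : H, pc Ω (k : G) = (Nat.card (fixedBy Ω k) : ℂ) := fun k => rfl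
    simp only [Cfsg.classInner, map_one, mul_one, hfix, h]
    rw [mul_left_comm, inv_mul_cancel₀ (Nat.cast_ne_zero.2 Nat.card_pos.ne'), mul_one, Nat.cast_ofNat]
  have horb2 : Cfsg.classInner (fun h : H => pc Ω (h : G)) (fun h : H => pc Ω (h : G)) = 5 := by
    refine (FourTrans.classInner_piX (G := H) Ω Ω (k := 5) ?_).trans (by norm_num)
    refine FourTrans.card_orbits (fun z => if z.1 = F.e 0 then (if z.2 = F.e 0 then 0 else 1)
      else if z.2 = F.e 0 then 2 else if z.1 = z.2 then 3 else 4) (fun g z => ?_) (fun i => ?_) ?_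
    · have e : ∀ a : Ω, g • a = F.e 0 ↔ a = F.e 0 := fun a =>
        ⟨fun h => smul_left_cancel g (h.trans (g.2 : (g : G) • F.e 0 = F.e 0).symm), fun h => by rw [h]; exact g.2⟩
      simp only [Prod.smul_fst, Prod.smul_snd, e, (MulAction.injective g).eq_iff]
    · fin_cases i
      · exact ⟨(F.e 0, F.e 0), by simp⟩
      · exact ⟨(F.e 0, F.e 1), by simp [F.ne01.symm]⟩
      · exact ⟨(F.e 1, F.e 0), by simp [F.ne01.symm]⟩
      · exact ⟨(F.e 1, F.e 1), by simp [F.ne01.symm]⟩
      · exact ⟨(F.e 1, F.e (-1)), by simp [F.ne01.symm, F.ne0m.symm, F.ne1m]⟩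
    · rintro ⟨a, b⟩ ⟨a', b'⟩ h
      simp only at h
      have one : ∀ {a a' : Ω}, a ≠ F.e 0 → a' ≠ F.e 0 → ∃ g : H, g • a = a' := fun ha ha' => by
        obtain ⟨g, g1, g2⟩ := is_two_pretransitive_iff.1 (F.two_trans h3) (Ne.symm ha) (Ne.symm ha')
        exact ⟨⟨g, g1⟩, g2⟩
      by_cases ha : a = F.e 0
      · have ha' : a' = F.e 0 := by
          by_contra ha'; simp [ha, ha'] at h; split_ifs at h <;> simp at h
        by_cases hb : b = F.e 0
        · have hb' : b' = F.e 0 := by by_contra hb'; simp [ha, ha', hb, hb'] at h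
          exact ⟨1, by rw [one_smul, ha, ha', hb, hb']⟩
        · have hb' : b' ≠ F.e 0 := fun hb' => by simp [ha, ha', hb, hb'] at h
          obtain ⟨g, hg⟩ := one hb hb'
          exact ⟨g, Prod.ext (by show g • a = a'; rw [ha, ha']; exact g.2) hg⟩
      have ha' : a' ≠ F.e 0 := fun ha' => by simp [ha, ha'] at h; split_ifs at h <;> simp at h
      by_cases hb : b = F.e 0
      · have hb' : b' = F.e 0 := by by_contra hb'; simp [ha, ha', hb, hb'] at h; split_ifs at h <;> simp at h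
        obtain ⟨g, hg⟩ := one ha ha'
        exact ⟨g, Prod.ext hg (by show g • b = b'; rw [hb, hb']; exact g.2)⟩
      have hb' : b' ≠ F.e 0 := fun hb' => by simp [ha, ha', hb, hb'] at h; split_ifs at h <;> simp at h
      by_cases hab : a = b
      · have hab' : a' = b' := by by_contra hab'; simp [ha', hb', hb, hab, hab'] at h
        obtain ⟨g, hg⟩ := one ha ha'
        exact ⟨g, Prod.ext hg (by show g • b = b'; rw [← hab, ← hab', hg])⟩
      · have hab' : a' ≠ b' := fun hab' => by simp [ha, hb, hb', hab, hab'] at h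
        obtain ⟨g, g1, g2, g3⟩ :=
          exists_triple h3 (Ne.symm ha) (Ne.symm hb) hab (Ne.symm ha') (Ne.symm hb') hab'
        exact ⟨⟨g, g1⟩, Prod.ext g2 g3⟩
  have hθ : Cfsg.IsIrrCharacter H θ := by
    refine FourTrans.irr_of_gen (G := H) (d := 2 * q - 1) ?_ ?_ ?_
    · have e : θ = (fun h : H => pc Ω (h : G)) - (fun _ => (1 : ℂ)) - fun _ => (1 : ℂ) := by
        funext h; simp [θ]; ring
      rw [e]
      exact IsGeneralizedCharacter.sub (IsGeneralizedCharacter.sub
        (IsGeneralizedCharacter.of_isCharacter hπc) (IsGeneralizedCharacter.of_isCharacter isCharacter_one))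
        (IsGeneralizedCharacter.of_isCharacter isCharacter_one)
    · rw [show θ = (fun h : H => pc Ω (h : G)) - (2 : ℂ) • (fun _ => (1 : ℂ)) by funext h; simp [θ],
        classInner_sub_left, classInner_sub_right, classInner_sub_right, classInner_smul_left,
        classInner_smul_right, classInner_smul_left, classInner_smul_right, horb2, horb1,
        classInner_comm_of_isCharacter isCharacter_one hπc, horb1, classInner_self_irr isIrrCharacter_one,
        map_ofNat]
      norm_num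
    · have := F.hq
      simp only [θ, OneMemClass.coe_one, pc, fixedBy_one_eq_univ, Nat.card_univ, F.card_omega, F.hpq]
      rw [Nat.cast_sub (by omega : 1 ≤ 2 * q)]
      push_cast
      ring
  set μ : H → ℂ := r - θ
  have hμ : Cfsg.IsCharacter H μ := by
    refine isCharacter_of_classInner ?_ fun φ => ?_
    · exact fun a b => by
        simp only [μ, Pi.sub_apply]
        rw [IsCharacter.isClassFunction hr a b, IsCharacter.isClassFunction (IsIrrCharacter.isCharacter hθ) a b]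
    · obtain ⟨m, hm⟩ := IsCharacter.exists_classInner_nat hr (IsIrrCharacter.isCharacter φ.2)
      by_cases hφ : (φ : H → ℂ) = θ
      · refine ⟨m - 1, ?_⟩
        have h0 : m ≠ 0 := fun h => hθr (by
          rw [← hφ, classInner_comm_of_isCharacter (IsIrrCharacter.isCharacter φ.2) hr, hm, h, Nat.cast_zero])
        rw [classInner_sub_left, hm, hφ, classInner_self_irr hθ, Nat.cast_sub (by omega), Nat.cast_one]
      · exact ⟨m, by rw [classInner_sub_left, hm, classInner_irr_of_ne hθ φ.2 (Ne.symm hφ), sub_zero]⟩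
  obtain ⟨k, hk⟩ := IsCharacter.exists_degree hμ
  have hk' : k + (2 * q - 1) = d := by
    have h : (r 1 : ℂ) = θ 1 + μ 1 := by simp [μ]
    rw [show r 1 = (ψ : G → ℂ) 1 from rfl, hd, hk] at h
    have hθ1 : θ 1 = ((2 * q - 1 : ℕ) : ℂ) := by
      have := F.hq
      simp only [θ, OneMemClass.coe_one, pc, fixedBy_one_eq_univ, Nat.card_univ, F.card_omega, F.hpq]
      rw [Nat.cast_sub (by omega : 1 ≤ 2 * q)]
      push_cast
      ring
    rw [hθ1, ← Nat.cast_add, Nat.cast_inj] at h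
    omega
  have hxH : F.nel 1 0 ∈ H := by
    rw [mem_stabilizer_iff, F.act', mul_zero, add_zero]
  have hψx : (ψ : G → ℂ) (F.nel 1 0) = 0 := by
    rw [F.value_x (F.irr_classFun ψ) one_ne_zero]
    choose c hc using fun j => F.md_nat (IsIrrCharacter.isCharacter ψ.2) j
    have h := F.sum_md (ψ : G → ℂ)
    simp only [hc, hn0, ← Nat.cast_sum, Nat.cast_eq_zero, Finset.sum_eq_zero_iff, Finset.mem_univ,
      true_implies] at h
    simp [hc, h]
  have hμx : μ ⟨_, hxH⟩ = 1 := by
    show (ψ : G → ℂ) (F.nel 1 0) - (pc Ω (F.nel 1 0) - 2) = 1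
    rw [hψx, pc, F.fixed_count, if_neg one_ne_zero]
    norm_num
  obtain rfl : k = 1 := by
    rcases (show k = 0 ∨ k = 1 by omega) with rfl | rfl
    · exfalso
      rw [IsCharacter.eq_zero_of_one hμ (by rw [hk, Nat.cast_zero])] at hμx
      exact zero_ne_one hμx
    · rfl
  rw [Nat.cast_one] at hk
  obtain ⟨f, hf⟩ := exists_hom_of_degree_one hμ hk
  -- the induced character
  set I := Cfsg.indFun H μ
  have hI : Cfsg.IsCharacter G I := isCharacter_indFun H hμ
  have hI1 : I 1 = (p : ℂ) := by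
    show Cfsg.indFun H μ 1 = _
    rw [indFun_one_apply, index_stabilizer_of_transitive, F.card_omega, hk, mul_one]
  have hμirr : Cfsg.IsIrrCharacter H μ := hf ▸ isIrrCharacter_linear f
  have hIψ : Cfsg.classInner I (ψ : G → ℂ) ≠ 0 := by
    rw [classInner_indFun_left H μ (F.irr_classFun ψ), show (fun h : H => (ψ : G → ℂ) h) = θ + μ by
      simp only [μ, add_sub_cancel]; rfl, classInner_add_right, classInner_self_irr hμirr,
      classInner_irr_of_ne hμirr hθ fun e => ?_]
    · simp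
    · have h := congrFun e 1
      rw [hk] at h
      have := F.hq
      simp only [θ, OneMemClass.coe_one, pc, fixedBy_one_eq_univ, Nat.card_univ, F.card_omega, F.hpq] at h
      push_cast at h
      have h' : ((2 : ℕ) : ℂ) = ((2 * q : ℕ) : ℂ) := by push_cast; linear_combination h
      have := Nat.cast_injective h'
      omega
  have hI1' : Cfsg.classInner I (fun _ => 1) = 0 := by
    rw [classInner_indFun_left H μ (IsCharacter.isClassFunction isCharacter_one)]
    refine classInner_irr_of_ne hμirr isIrrCharacter_one fun e => ?_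
    refine one_ne_zero (α := ℂ) ?_
    have h := classInner_sub_left r θ (fun _ : H => (1 : ℂ))
    rw [show r - θ = μ from rfl, e, classInner_self_irr isIrrCharacter_one,
      classInner_irr_of_ne hθ isIrrCharacter_one fun e' => ?_, sub_zero,
      classInner_comm_of_isCharacter hr isCharacter_one] at h
    · rw [h]
      simpa using h1H
    · have h' := congrFun e' ⟨_, hxH⟩
      rw [show θ ⟨_, hxH⟩ = pc Ω (F.nel 1 0) - 2 from rfl, pc, F.fixed_count, if_neg one_ne_zero] at h'
      norm_num at h'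
  obtain ⟨m, hm⟩ := IsCharacter.exists_classInner_nat hI (IsIrrCharacter.isCharacter ψ.2)
  have hm1 : 1 ≤ m := Nat.one_le_iff_ne_zero.2 fun h => hIψ (by rw [hm, h, Nat.cast_zero])
  set ν : G → ℂ := I - (ψ : G → ℂ)
  have hν : Cfsg.IsCharacter G ν := by
    refine isCharacter_of_classInner (fun a b => by
      simp only [ν, Pi.sub_apply]
      rw [IsCharacter.isClassFunction hI a b, F.irr_classFun ψ a b]) fun φ => ?_
    obtain ⟨l, hl⟩ := IsCharacter.exists_classInner_nat hI (IsIrrCharacter.isCharacter φ.2)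
    by_cases hφ : φ = ψ
    · subst hφ
      exact ⟨m - 1, by rw [classInner_sub_left, hm, classInner_self_irr φ.2, Nat.cast_sub hm1, Nat.cast_one]⟩
    · exact ⟨l, by rw [classInner_sub_left, hl,
        classInner_irr_of_ne ψ.2 φ.2 fun e => hφ (Subtype.ext e.symm), sub_zero]⟩
  have hν1 : ν 1 = 1 := by
    simp only [ν, Pi.sub_apply, hI1, hd, show d = 2 * q by omega, F.hpq]
    push_cast
    ring
  obtain ⟨c, hc⟩ := exists_hom_of_degree_one hν hν1
  have hνeq : ν = fun _ => 1 := by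
    rw [hc]
    funext g
    rw [F.hom_trivial hins c g, Units.val_one]
  have h := classInner_sub_left I (ψ : G → ℂ) (fun _ => 1)
  rw [show I - (ψ : G → ℂ) = ν from rfl, hνeq, classInner_self_irr isIrrCharacter_one, hI1',
    classInner_irr_of_ne ψ.2 isIrrCharacter_one fun e => ?_, sub_zero] at h
  · exact one_ne_zero h
  · have h' := congrFun e (F.nel 1 0)
    rw [hψx] at h'
    exact zero_ne_one h'

end Frame

end Cfsg.Agent.ItoTwoQ
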